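import Cfsg.Agent.Lib.Glauberman.Count
import Cfsg.Agent.Lib.CharsMore.Extend
import Cfsg.Agent.Lib.CharsMore.Gallagher

/-!
# Characters of degree prime to a complement of coprime order
-/

set_option autoImplicit false
set_option linter.style.haveILetI false
set_option linter.unusedSectionVars false

namespace CfsgLib.Glauberman

open Cfsg CfsgLib.Chars
open scoped Pointwise

universe u

variable {G : Type u} [Group G] [Finite G]

theorem exists_ext_of_coprime_card (K : Subgroup G) [K.Normal]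
    (hcop : (Nat.card K).Coprime K.index) (θ : IrrCharacter K)
    (hinv : ∀ g n, (θ : K → ℂ) (CharsMore.conjBy K g n) = (θ : K → ℂ) n) :
    ∃ χ : G → ℂ, IsIrrCharacter G χ ∧ ∀ n : K, χ n = (θ : K → ℂ) n := by
  haveI := Fintype.ofFinite K
  obtain ⟨d, -, hd, hdvd⟩ := irr_degree_dvd_card θ.2
  obtain ⟨k, ρ, hirr, hρ, hI, hdinv⟩ := CharsMore.exists_invariant_rep K θ.2 hinv
  haveI := hirr
  have hk : k = d := by
    have h1 : ρ.character 1 = (d : ℂ) := by rw [hρ]; exact hd
    simpa using h1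
  have hl : orderOf (CharsMore.detHom ρ) ∣ Nat.card K := orderOf_dvd_of_pow_eq_one
    (MonoidHom.ext fun n => by rw [MonoidHom.pow_apply, ← map_pow, pow_card_eq_one', map_one]; rfl)
  obtain ⟨μ, ⟨hμ, -⟩, -⟩ := CharsMore.exists_coprime_ext K (CharsMore.detHom ρ) hdinv
    (hcop.symm.coprime_dvd_right hl)
  obtain ⟨R, hR⟩ := CharsMore.repExtends_of_det K ρ hI
    (by rw [Module.finrank_fin_fun, hk]; exact hcop.coprime_dvd_left hdvd) μ
    (fun n => congrArg Units.val (hμ n))
  obtain ⟨-, hchar, hres⟩ := CharsMore.isIrrExt_of_rep K R hR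
  exact ⟨_, hchar, fun n => by rw [hres, hρ]⟩

/-- The characters of degree prime to a coprime complement `H` of `K`. -/
theorem card_coprime_degree (K H : Subgroup G) [K.Normal] (hKH : H.IsComplement' K)
    (hcop : (Nat.card K).Coprime (Nat.card H)) :
    Nat.card {χ : IrrCharacter G // (charDegree (χ : G → ℂ)).Coprime (Nat.card H)} =
      Nat.card {θ : IrrCharacter K //
        ∀ g n, (θ : K → ℂ) (CharsMore.conjBy K g n) = (θ : K → ℂ) n} * Nat.card (H →* ℂˣ) := by
  classical
  haveI := Fintype.ofFinite G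
  haveI := Fintype.ofFinite K
  haveI := irrFintype G
  have hidx : K.index = Nat.card H := hKH.index_eq_card
  have hcopK : (Nat.card K).Coprime K.index := hidx ▸ hcop
  choose E hE hEres using fun θ : {θ : IrrCharacter K //
    ∀ g n, (θ : K → ℂ) (CharsMore.conjBy K g n) = (θ : K → ℂ) n} =>
    exists_ext_of_coprime_card K hcopK θ.1 θ.2
  let π : G →* H := hKH.QuotientMulEquiv.toMonoidHom.comp (QuotientGroup.mk' K)
  have hπs : Function.Surjective π :=
    hKH.QuotientMulEquiv.surjective.comp (QuotientGroup.mk'_surjective K)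
  have hπK : ∀ n : K, π n = 1 := fun n => by
    show hKH.QuotientMulEquiv ((n : G) : G ⧸ K) = 1
    rw [(QuotientGroup.eq_one_iff _).mpr n.2, map_one]
  let L : (H →* ℂˣ) → IrrCharacter G := fun l =>
    ⟨CharsMore.linFun (l.comp π), CharsMore.isIrrCharacter_linFun _⟩
  have hL : ∀ l, L l ∈ CharsMore.quotIrr K := fun l => (CharsMore.mem_quotIrr K).mpr fun n hn => by
    show ((l (π n) : ℂˣ) : ℂ) = ((l (π 1) : ℂˣ) : ℂ)
    rw [show π n = 1 from hπK ⟨n, hn⟩, map_one π]
  have hEN : ∀ θ, IsIrrCharacter K (fun n : K => E θ n) := fun θ => by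
    rw [funext (hEres θ)]
    exact θ.1.2
  let Φ : {θ : IrrCharacter K // ∀ g n, (θ : K → ℂ) (CharsMore.conjBy K g n) = (θ : K → ℂ) n} ×
      (H →* ℂˣ) → IrrCharacter G := fun x =>
    ⟨(L x.2 : G → ℂ) * E x.1, CharsMore.gallagher_irr K (hE x.1) (hEN x.1) (hL x.2)⟩
  have hΦres : ∀ x (n : K), (Φ x : G → ℂ) n = (x.1.1 : K → ℂ) n := fun x n => by
    show ((x.2 (π n) : ℂˣ) : ℂ) * E x.1 n = _
    rw [hπK, map_one, Units.val_one, one_mul, hEres]
  have hdeg : ∀ x, (charDegree (Φ x : G → ℂ)).Coprime (Nat.card H) := fun x => by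
    obtain ⟨d, -, hd, hdvd⟩ := irr_degree_dvd_card x.1.1.2
    have h1 : ((charDegree (Φ x : G → ℂ) : ℕ) : ℂ) = (d : ℂ) := by
      rw [← CharApps.deg_eq, ← hd, ← hΦres x 1, Subgroup.coe_one]
    rw [Nat.cast_injective h1]
    exact hcop.coprime_dvd_left hdvd
  rw [← Nat.card_prod]
  refine (Nat.card_congr (Equiv.ofBijective (fun x => (⟨Φ x, hdeg x⟩ :
    {χ : IrrCharacter G // (charDegree (χ : G → ℂ)).Coprime (Nat.card H)})) ⟨?_, ?_⟩)).symm
  · rintro ⟨θ, l⟩ ⟨θ', l'⟩ e
    have e' : (Φ (θ, l) : G → ℂ) = Φ (θ', l') := congrArg (fun y => (y.1 : G → ℂ)) e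
    obtain rfl : θ = θ' := Subtype.ext (Subtype.ext (funext fun n => by
      rw [← hΦres (θ, l) n, e', hΦres]))
    have e1 : L l = L l' := by
      by_contra hne
      have := CharsMore.gallagher_orthonormal K (hE θ) (hEN θ) (hL l) (hL l')
      rw [if_neg hne] at this
      have h2 := inner_irr_self (Φ (θ, l))
      change classInner ((L l : G → ℂ) * E θ) ((L l : G → ℂ) * E θ) = 1 at h2
      rw [show (L l' : G → ℂ) * E θ = (L l : G → ℂ) * E θ from e'.symm, h2] at this
      exact one_ne_zero this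
    refine Prod.ext rfl (MonoidHom.ext fun h => ?_)
    obtain ⟨g, rfl⟩ := hπs h
    exact Units.ext (congrFun (congrArg Subtype.val e1) g)
  · rintro ⟨ψ, hψ⟩
    obtain ⟨θ, hθ⟩ := Blocks.exists_constituent_restrict K ψ
    have hc := CharsMore.clifford_degree K ψ.2 θ.2 hθ
    obtain ⟨m, hm⟩ := inner_irr_right_nat (isCharacter_restrict K (isCharacter_of_irr ψ.2)) θ
    obtain ⟨d, -, hd, -⟩ := irr_degree_dvd_card θ.2
    rw [hm, hd, CharApps.deg_eq] at hc
    have hc' : charDegree (ψ : G → ℂ) = m * (CharsMore.inertia K (θ : K → ℂ)).index * d := by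
      exact_mod_cast hc
    have htop : CharsMore.inertia K (θ : K → ℂ) = ⊤ := Subgroup.index_eq_one.mp
      (Nat.eq_one_of_dvd_coprimes hψ (hc' ▸ dvd_mul_of_dvd_left (dvd_mul_left _ m) d)
        (hidx ▸ Subgroup.index_dvd_of_le (CharsMore.le_inertia K (isClassFunction_irr θ))))
    have hinv : ∀ g n, (θ : K → ℂ) (CharsMore.conjBy K g n) = (θ : K → ℂ) n := fun g =>
      (CharsMore.mem_inertia K).mp (htop ▸ Subgroup.mem_top g)
    obtain ⟨β, hβ, hψβ⟩ := CharsMore.gallagher_exists K (hE ⟨θ, hinv⟩) (hEN ⟨θ, hinv⟩) ψ.2 (by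
      rw [funext (hEres ⟨θ, hinv⟩)]
      exact hθ)
    obtain ⟨e, he1, he⟩ := exists_deflate_irr K β.2
      (fun n hn => (CharsMore.mem_quotIrr K).mp hβ hn)
    obtain ⟨b, -, hb, hbdvd⟩ := irr_degree_dvd_card he1
    have hb' : (β : G → ℂ) 1 = (b : ℂ) := by rw [he, ← hb]; rfl
    have hψ1 := congrFun hψβ 1
    rw [Pi.mul_apply, hb', show (1 : G) = ((1 : K) : G) from rfl, hEres, hd, Subgroup.coe_one,
      CharApps.deg_eq] at hψ1
    have hψ1' : charDegree (ψ : G → ℂ) = b * d := by exact_mod_cast hψ1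
    have hb1 : b = 1 := Nat.eq_one_of_dvd_coprimes hψ (hψ1' ▸ dvd_mul_right b d)
      (hidx ▸ Subgroup.index_eq_card K ▸ hbdvd)
    obtain ⟨μ, hμ⟩ := CharsMore.exists_hom_of_linear
      ⟨isCharacter_of_irr β.2, by rw [hb', hb1, Nat.cast_one]⟩
    have hμK : ∀ n ∈ K, μ n = 1 := fun n hn => Units.ext (by
      have h := (CharsMore.mem_quotIrr K).mp hβ hn
      change (β : G → ℂ) n = (β : G → ℂ) 1 at h
      rw [← hμ] at h
      simpa [CharsMore.linFun] using h)
    refine ⟨(⟨θ, hinv⟩, (QuotientGroup.lift K μ hμK).comp hKH.QuotientMulEquiv.symm.toMonoidHom),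
      Subtype.ext (Subtype.ext ?_)⟩
    show _ * _ = (ψ : G → ℂ)
    rw [hψβ, ← hμ]
    congr 1
    funext g
    simp [L, π, CharsMore.linFun]
    rfl

/-- **The Glauberman–Isaacs count** for degrees prime to a coprime solvable complement. -/
theorem card_coprime_degree_normalizer (K H : Subgroup G) [K.Normal] (hKH : K ⊔ H = ⊤)
    (hcop : (Nat.card K).Coprime (Nat.card H)) (hsolv : Group.IsSolvable H) :
    Nat.card {χ : IrrCharacter G // (charDegree (χ : G → ℂ)).Coprime (Nat.card H)} =
      Nat.card {η : IrrCharacter (Subgroup.normalizer (H : Set G)) //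
        (charDegree (η : Subgroup.normalizer (H : Set G) → ℂ)).Coprime (Nat.card H)} := by
  classical
  haveI := Fintype.ofFinite G
  set N := Subgroup.normalizer (H : Set G) with hN
  haveI := Fintype.ofFinite N
  have hHN : H ≤ N := Subgroup.le_normalizer
  have hdisj : Disjoint H K := disjoint_iff.mpr (Coprime.inf_eq_bot_of_coprime hcop.symm)
  have hG : H.IsComplement' K := by
    refine Subgroup.isComplement'_of_disjoint_and_mul_eq_univ hdisj ?_
    rw [← Subgroup.mul_normal, sup_comm, hKH, Subgroup.coe_top]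
  have hHK : H ≤ Subgroup.normalizer (K : Set G) := le_of_le_of_eq le_top
    (Subgroup.normalizer_eq_top (H := K)).symm
  have hKN : ∀ n ∈ N, n ∈ K → n ∈ Subgroup.centralizer (H : Set G) := fun n hn hnK =>
    Subgroup.mem_centralizer_iff.mpr fun h hh => by
      have h1 : n * h * n⁻¹ * h⁻¹ ∈ H :=
        mul_mem ((Subgroup.mem_normalizer_iff.mp hn h).mp hh) (inv_mem hh)
      have h2 : n * h * n⁻¹ * h⁻¹ ∈ K := by
        rw [mul_assoc, mul_assoc, ← mul_assoc h]
        exact mul_mem hnK ((inferInstance : K.Normal).conj_mem _ (inv_mem hnK) h)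
      have h3 := Subgroup.mem_bot.mp (hdisj.le_bot ⟨h1, h2⟩)
      exact (mul_inv_eq_iff_eq_mul.mp (mul_inv_eq_one.mp h3)).symm
  set K' := K.subgroupOf N with hK'
  set H' := H.subgroupOf N with hH'
  have hN' : H'.IsComplement' K' := by
    refine Subgroup.isComplement'_of_disjoint_and_mul_eq_univ ?_ ?_
    · refine disjoint_iff.mpr (Subgroup.eq_bot_iff_forall _ |>.mpr fun x hx => ?_)
      exact Subtype.ext (Subgroup.mem_bot.mp (hdisj.le_bot ⟨hx.1, hx.2⟩))
    · refine Set.eq_univ_of_forall fun x => ?_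
      obtain ⟨h, hh, k, hk, e⟩ := (show (x : G) ∈ (H : Set G) * (K : Set G) by
        rw [← Subgroup.mul_normal, sup_comm, hKH, Subgroup.coe_top]; trivial)
      have hkN : k ∈ N := by
        rw [show k = h⁻¹ * x by rw [← e, inv_mul_cancel_left]]
        exact mul_mem (inv_mem (hHN hh)) x.2
      exact ⟨⟨h, hHN hh⟩, hh, ⟨k, hkN⟩, hk, Subtype.ext e⟩
  have hcardH : Nat.card H' = Nat.card H :=
    Nat.card_congr (Subgroup.subgroupOfEquivOfLe hHN).toEquiv
  have hcop' : (Nat.card K').Coprime (Nat.card H') := by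
    rw [hcardH]
    refine hcop.coprime_dvd_left ?_
    rw [hK', ← Subgroup.inf_subgroupOf_right,
      Nat.card_congr (Subgroup.subgroupOfEquivOfLe inf_le_right).toEquiv]
    exact Subgroup.card_dvd_of_le inf_le_left
  rw [card_coprime_degree K H hG hcop, show Nat.card {η : IrrCharacter N //
      (charDegree (η : N → ℂ)).Coprime (Nat.card H)} = Nat.card {η : IrrCharacter N //
      (charDegree (η : N → ℂ)).Coprime (Nat.card H')} by rw [hcardH],
    card_coprime_degree K' H' hN' hcop']
  congr 1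
  swap
  · exact Nat.card_congr
      { toFun := fun l => l.comp (Subgroup.subgroupOfEquivOfLe hHN).toMonoidHom
        invFun := fun l => l.comp (Subgroup.subgroupOfEquivOfLe hHN).symm.toMonoidHom
        left_inv := fun l => MonoidHom.ext fun x => by simp
        right_inv := fun l => MonoidHom.ext fun x => by simp }
  -- the invariant characters
  set C := K ⊓ Subgroup.centralizer (H : Set G) with hC
  have hall : ∀ θ : IrrCharacter K', ∀ g n,
      (θ : K' → ℂ) (CharsMore.conjBy K' g n) = (θ : K' → ℂ) n := by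
    intro θ g n
    obtain ⟨h, hh, k, hk, e⟩ := (show g ∈ (H' : Set N) * (K' : Set N) by
      rw [hN'.mul_eq]; trivial)
    subst e
    have hfix : CharsMore.conjBy K' h (CharsMore.conjBy K' k n) = CharsMore.conjBy K' k n := by
      refine Subtype.ext (Subtype.ext ?_)
      set m : K' := CharsMore.conjBy K' k n
      show (h : G) * ((m : N) : G) * (h : G)⁻¹ = ((m : N) : G)
      have hcm : (h : G) * ((m : N) : G) = ((m : N) : G) * (h : G) :=
        Subgroup.mem_centralizer_iff.mp (hKN _ (m : N).2 m.2) _ hh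
      rw [hcm, mul_inv_cancel_right]
    have e2 : CharsMore.conjBy K' (h * k) n = CharsMore.conjBy K' h (CharsMore.conjBy K' k n) :=
      Subtype.ext (by simp [mul_assoc])
    rw [e2, hfix]
    exact (CharsMore.mem_inertia K').mp
      (CharsMore.le_inertia K' (isClassFunction_irr θ) hk) n
  rw [Nat.card_congr (Equiv.subtypeUnivEquiv hall)]
  let eC : K' ≃* C :=
    { toFun := fun n => ⟨((n : N) : G), n.2, hKN _ (n : N).2 n.2⟩
      invFun := fun c => ⟨⟨c, Subgroup.centralizer_le_normalizer _ c.2.2⟩, c.2.1⟩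
      left_inv := fun n => rfl
      right_inv := fun c => rfl
      map_mul' := fun a b => rfl }
  rw [show Nat.card (IrrCharacter K') = Nat.card (IrrCharacter C) from Nat.card_congr
    { toFun := fun θ => ⟨fun c => (θ : K' → ℂ) (eC.symm c),
        isIrrCharacter_comp eC.symm.toMonoidHom eC.symm.surjective θ.2⟩
      invFun := fun θ => ⟨fun n => (θ : C → ℂ) (eC n),
        isIrrCharacter_comp eC.toMonoidHom eC.surjective θ.2⟩
      left_inv := fun θ => Subtype.ext (funext fun n => by simp)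
      right_inv := fun θ => Subtype.ext (funext fun c => by simp) },
    ← card_inv_irr hHK hcop hsolv]
  refine Nat.card_congr (Equiv.subtypeEquivRight fun θ => ⟨fun h s _ g g' e => ?_, fun h g n => ?_⟩)
  · rw [show g' = CharsMore.conjBy K s g from Subtype.ext e]
    exact h s g
  · obtain ⟨a, ha, k, hk, rfl⟩ := (show g ∈ (H : Set G) * (K : Set G) by rw [hG.mul_eq]; trivial)
    rw [show CharsMore.conjBy K (a * k) n = CharsMore.conjBy K a (CharsMore.conjBy K k n) from
      Subtype.ext (by simp [mul_assoc]), h a ha _ _ rfl]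
    exact (CharsMore.mem_inertia K).mp (CharsMore.le_inertia K (isClassFunction_irr θ) hk) n

end CfsgLib.Glauberman
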