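import Cfsg.Agent.Lib.Glauberman.Solvable
import Cfsg.Agent.Lib.CharsMore.Clifford
import Cfsg.Agent.Lib.Blocks.NormalPPrime
import Cfsg.Agent.Lib.Coprime.Action

/-!
# Invariant constituents of restrictions
-/

set_option autoImplicit false
set_option linter.style.haveILetI false
set_option linter.unusedSectionVars false

namespace CfsgLib.Glauberman

open Cfsg CfsgLib.Chars

universe u

variable {Γ : Type u} [Group Γ] [Finite Γ]

theorem exists_inv_under {G S N : Subgroup Γ} [Fintype G] [Fintype N]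
    (hSG : S ≤ Subgroup.normalizer (G : Set Γ)) (hNG : N ≤ G) [hn : (N.subgroupOf G).Normal]
    (hSN : S ≤ Subgroup.normalizer (N : Set Γ)) (hcop : (N.relIndex G).Coprime (Nat.card S))
    (hsolv : Group.IsSolvable S ∨ Group.IsSolvable (G ⧸ N.subgroupOf G)) (χ : IrrCharacter G)
    (hinv : InvBy S G (χ : G → ℂ)) :
    ∃ θ : IrrCharacter N, classInner (fun n : N => (χ : G → ℂ) ⟨n, hNG n.2⟩) (θ : N → ℂ) ≠ 0 ∧
      InvBy S N (θ : N → ℂ) := by
  classical
  set Δ : Subgroup Γ := G ⊔ S with hΔ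
  have hGN : G ≤ Subgroup.normalizer (N : Set Γ) :=
    (Subgroup.normal_subgroupOf_iff_le_normalizer hNG).mp hn
  have hΔN : Δ ≤ Subgroup.normalizer (N : Set Γ) := sup_le hGN hSN
  have hNΔ : N ≤ Δ := hNG.trans le_sup_left
  haveI : (N.subgroupOf Δ).Normal := (Subgroup.normal_subgroupOf_iff_le_normalizer hNΔ).mpr hΔN
  let cj : Δ →* MulAut N := conjHom Δ N hΔN
  let tw : Δ →* Equiv.Perm (IrrCharacter N) :=
    { toFun := fun x =>
        { toFun := fun θ => twist cj x θ
          invFun := fun θ => twist cj x⁻¹ θ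
          left_inv := fun θ => Subtype.ext (funext fun n => by simp [twist_apply])
          right_inv := fun θ => Subtype.ext (funext fun n => by simp [twist_apply]) }
      map_one' := Equiv.ext fun θ => Subtype.ext (funext fun n => by simp [twist_apply])
      map_mul' := fun x y => Equiv.ext fun θ => Subtype.ext (funext fun n => by
        simp [twist_apply]) }
  have hker : N.subgroupOf Δ ≤ tw.ker := fun x hx => MonoidHom.mem_ker.mpr
    (Equiv.ext fun θ => Subtype.ext (funext fun n => by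
      show (θ : N → ℂ) (cj x⁻¹ n) = (θ : N → ℂ) n
      rw [show cj x⁻¹ n = (⟨_, inv_mem (Subgroup.mem_subgroupOf.mp hx)⟩ : N) * n *
        (⟨_, inv_mem (Subgroup.mem_subgroupOf.mp hx)⟩ : N)⁻¹ from Subtype.ext rfl,
        isClassFunction_irr θ]))
  letI : MulAction (Δ ⧸ N.subgroupOf Δ) (IrrCharacter N) :=
    MulAction.compHom _ (QuotientGroup.lift (N.subgroupOf Δ) tw hker)
  have hsm : ∀ (x : Δ) (θ : IrrCharacter N) (n n' : N), (n : Γ) = (x : Γ)⁻¹ * n' * x →
      ((((x : Δ ⧸ N.subgroupOf Δ) • θ : IrrCharacter N) : N → ℂ) n') = (θ : N → ℂ) n := by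
    intro x θ n n' e
    show (θ : N → ℂ) (cj x⁻¹ n') = _
    refine congrArg (θ : N → ℂ) (Subtype.ext ?_)
    rw [conjHom_apply, e]
    simp
  set q := QuotientGroup.mk' (N.subgroupOf Δ)
  set A := (S.subgroupOf Δ).map q with hA
  set K := (G.subgroupOf Δ).map q with hK
  have hGΔ : (G.subgroupOf Δ).Normal :=
    (Subgroup.normal_subgroupOf_iff_le_normalizer le_sup_left).mpr
      (sup_le Subgroup.le_normalizer hSG)
  have hAK : A ≤ Subgroup.normalizer (K : Set (Δ ⧸ N.subgroupOf Δ)) := by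
    haveI : K.Normal := hGΔ.map q (QuotientGroup.mk'_surjective _)
    rw [Subgroup.normalizer_eq_top]
    exact le_top
  have hcardK : Nat.card K = N.relIndex G := by
    rw [← Subgroup.relIndex_bot_left, hK, ← Subgroup.relIndex_comap, MonoidHom.comap_bot,
      QuotientGroup.ker_mk', Subgroup.relIndex_subgroupOf le_sup_left]
  have hcardA : Nat.card A ∣ Nat.card S := by
    rw [← Nat.card_congr (Subgroup.subgroupOfEquivOfLe (show S ≤ Δ from le_sup_right)).toEquiv]
    exact Subgroup.card_dvd_of_surjective _ (q.subgroupMap_surjective _)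
  have hsolv' : Group.IsSolvable A ∨ Group.IsSolvable K := by
    rcases hsolv with h | h
    · haveI := h
      exact Or.inl (Group.isSolvable_of_surjective (f := (q.subgroupMap _).comp
        (Subgroup.subgroupOfEquivOfLe (show S ≤ Δ from le_sup_right)).symm.toMonoidHom)
        ((q.subgroupMap_surjective _).comp (MulEquiv.surjective _)))
    · haveI := h
      let f : G →* K := (q.subgroupMap _).comp
        (Subgroup.subgroupOfEquivOfLe (show G ≤ Δ from le_sup_left)).symm.toMonoidHom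
      have hf : N.subgroupOf G ≤ f.ker := fun x hx => MonoidHom.mem_ker.mpr
        (Subtype.ext ((QuotientGroup.eq_one_iff _).mpr hx))
      exact Or.inr (Group.isSolvable_of_surjective (f := QuotientGroup.lift _ f hf)
        (QuotientGroup.lift_surjective_of_surjective _ f
          ((q.subgroupMap_surjective _).comp (MulEquiv.surjective _)) hf))
  -- the constituents form one `G`-orbit
  let e1 : N.subgroupOf G ≃* N := Subgroup.subgroupOfEquivOfLe hNG
  haveI := Fintype.ofFinite (N.subgroupOf G)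
  obtain ⟨θ₁, hθ₁⟩ := Blocks.exists_constituent_restrict (N.subgroupOf G) χ
  let θ : IrrCharacter N := ⟨fun n => (θ₁ : N.subgroupOf G → ℂ) (e1.symm n),
    isIrrCharacter_comp e1.symm.toMonoidHom e1.symm.surjective θ₁.2⟩
  have hover : ∀ φ : IrrCharacter N,
      classInner (fun n : N => (χ : G → ℂ) ⟨n, hNG n.2⟩) (φ : N → ℂ) =
      classInner (fun n : N.subgroupOf G => (χ : G → ℂ) n) (fun n => (φ : N → ℂ) (e1 n)) :=
    fun φ => (CharsMore.inner_comp_equiv e1 _ _).symm
  have hθ : classInner (fun n : N => (χ : G → ℂ) ⟨n, hNG n.2⟩) (θ : N → ℂ) ≠ 0 := by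
    rw [hover]
    convert hθ₁ using 3 with n
    exact congrArg (θ₁ : N.subgroupOf G → ℂ) (e1.symm_apply_apply n)
  have hconj : ∀ (x : Δ), (∀ g g' : G, (g' : Γ) = (x : Γ) * g * (x : Γ)⁻¹ →
      (χ : G → ℂ) g' = (χ : G → ℂ) g) → ∀ φ : IrrCharacter N,
      classInner (fun n : N => (χ : G → ℂ) ⟨n, hNG n.2⟩) (φ : N → ℂ) ≠ 0 →
      classInner (fun n : N => (χ : G → ℂ) ⟨n, hNG n.2⟩) (twist cj x φ : N → ℂ) ≠ 0 := by
    intro x hx φ hφ
    rw [← CharsMore.inner_comp_equiv (cj x⁻¹)] at hφ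
    convert hφ using 3 with n
    rotate_left
    · rfl
    · refine hx ⟨cj x⁻¹ n, hNG (cj x⁻¹ n).2⟩ ⟨n, hNG n.2⟩ ?_
      show (n : Γ) = (x : Γ) * (cj x⁻¹ n : Γ) * (x : Γ)⁻¹
      rw [conjHom_apply]
      simp [mul_assoc]
  have horb : ∀ a ∈ A, ∃ k ∈ K, k • θ = a • θ := by
    rintro _ ⟨s, hs, rfl⟩
    have hs' := hconj s (fun g g' e => hinv _ hs g g' e) θ hθ
    rw [hover] at hs' 
    have hθ' := hθ
    rw [hover] at hθ'
    obtain ⟨g, hg⟩ := CharsMore.restrict_constituents_conj (N.subgroupOf G) χ.2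
      (isIrrCharacter_comp e1.toMonoidHom e1.surjective θ.2)
      (isIrrCharacter_comp e1.toMonoidHom e1.surjective (twist cj s θ).2) hθ' hs'
    refine ⟨q ⟨(g : Γ)⁻¹, Subgroup.mem_sup_left (inv_mem g.2)⟩, ⟨⟨(g : Γ)⁻¹, Subgroup.mem_sup_left (inv_mem g.2)⟩, inv_mem g.2, rfl⟩, ?_⟩
    refine Subtype.ext (funext fun n => ?_)
    obtain ⟨m, rfl⟩ := e1.surjective n
    show _ = (twist cj s θ : N → ℂ) (e1 m)
    refine Eq.trans ?_ (congrFun hg m)
    refine hsm _ θ (e1 (CharsMore.conjBy (N.subgroupOf G) g m)) (e1 m) ?_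
    show ((g * (m : G) * g⁻¹ : G) : Γ) = ((g : Γ)⁻¹)⁻¹ * ((m : G) : Γ) * (g : Γ)⁻¹
    simp
  obtain ⟨_, ⟨k, hk, rfl⟩, hfix⟩ := Coprime.exists_fixed_point hAK
    (by rw [hcardK]; exact (hcop.coprime_dvd_right hcardA).symm) hsolv' θ horb
  refine ⟨twist cj k θ, hconj k (fun g g' e => ?_) θ hθ, fun s hs g g' e => ?_⟩
  · rw [show g' = (⟨k, hk⟩ : G) * g * (⟨k, hk⟩ : G)⁻¹ from Subtype.ext e, isClassFunction_irr χ]
  · have h := hfix (q ⟨s, Subgroup.mem_sup_right hs⟩) ⟨_, hs, rfl⟩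
    show ((q k • θ : IrrCharacter N) : N → ℂ) g' = ((q k • θ : IrrCharacter N) : N → ℂ) g
    conv_lhs => rw [← h]
    exact hsm _ _ g g' (by rw [e]; simp [mul_assoc])

end CfsgLib.Glauberman
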