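import Cfsg.Agent.Lib.Blocks.Covering
import Cfsg.Agent.Lib.Blocks.OrbitSum
import Cfsg.Agent.Lib.Blocks.Center
import Cfsg.Agent.Lib.BlockOrth.Integrality

/-!
# The Glauberman correspondence for a `p`-group of operators, by reduction modulo `p`

A `p`-group `P` acts on a `p'`-group `G` through `φ`, and `ι : C →* G` is the inclusion of the
fixed points. Restriction to `C` is multiplicative modulo a maximal ideal over `p` on the
invariant class functions, so the invariant irreducible characters of `G` and the irreducible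
characters of `C` match through their central idempotents.
-/

set_option autoImplicit false
set_option linter.style.haveILetI false
set_option linter.unusedSectionVars false

namespace CfsgLib.Glauberman

open Cfsg CfsgLib.Chars CfsgLib.Blocks
open scoped ComplexConjugate

universe u v w

/-- A function invariant under an action. -/
def Inv {P : Type w} [Group P] {G : Type u} [Group G] (φ : P →* MulAut G) {α : Type*}
    (f : G → α) : Prop :=
  ∀ (s : P) (g : G), f (φ s g) = f g

/-- `ι` is the inclusion of the fixed points of a coprime action of a `p`-group. -/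
structure PFix (p : ℕ) {P : Type w} [Group P] {G : Type u} [Group G] {C : Type v} [Group C]
    (φ : P →* MulAut G) (ι : C →* G) : Prop where
  pgroup : IsPGroup p P
  inj : Function.Injective ι
  fixed : ∀ g, (∀ s, φ s g = g) ↔ ∃ c, ι c = g
  fusion : ∀ c d, IsConj (ι c) (ι d) → IsConj c d
  cop : ¬ p ∣ Nat.card G

section Red

variable (M : Ideal AlgInt) [M.IsPrime]

open scoped Classical in
/-- Reduction modulo `M`, extended by zero. -/
noncomputable def rd (z : ℂ) : ResField M :=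
  if h : z ∈ loc M then red (M := M) ⟨z, h⟩ else 0

variable {M}

theorem rd_coe (x : loc M) : rd M (x : ℂ) = red (M := M) x := by rw [rd, dif_pos x.2]

theorem rd_natCast (n : ℕ) : rd M (n : ℂ) = (n : ResField M) := by
  rw [rd, dif_pos (natCast_mem_loc n), ← map_natCast (red (M := M)) n]
  exact congrArg _ (Subtype.ext (map_natCast (loc M).subtype n).symm)

theorem rd_one : rd M 1 = 1 := by simpa using rd_natCast (M := M) 1

theorem rd_zero : rd M 0 = 0 := by simpa using rd_natCast (M := M) 0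

theorem rd_add {x y : ℂ} (hx : x ∈ loc M) (hy : y ∈ loc M) : rd M (x + y) = rd M x + rd M y := by
  rw [rd, rd, rd, dif_pos hx, dif_pos hy, dif_pos (add_mem hx hy), ← map_add]
  rfl

theorem rd_mul {x y : ℂ} (hx : x ∈ loc M) (hy : y ∈ loc M) : rd M (x * y) = rd M x * rd M y := by
  rw [rd, rd, rd, dif_pos hx, dif_pos hy, dif_pos (mul_mem hx hy), ← map_mul]
  rfl

theorem rd_sum {κ : Type*} (s : Finset κ) {f : κ → ℂ} (hf : ∀ i ∈ s, f i ∈ loc M) :
    rd M (∑ i ∈ s, f i) = ∑ i ∈ s, rd M (f i) := by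
  classical
  induction s using Finset.induction_on with
  | empty => simp [rd_zero]
  | insert a s ha ih =>
    rw [Finset.sum_insert ha, Finset.sum_insert ha, rd_add (hf a (Finset.mem_insert_self a s))
      (sum_mem fun i hi => hf i (Finset.mem_insert_of_mem hi)),
      ih fun i hi => hf i (Finset.mem_insert_of_mem hi)]

theorem rd_ite (c : Prop) [Decidable c] :
    rd M (if c then 1 else 0) = if c then 1 else 0 := by
  split <;> simp [rd_one, rd_zero]

end Red

variable {p : ℕ} [Fact p.Prime] {M : Ideal AlgInt} [M.IsPrime]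
  {P : Type w} [Group P] {G : Type u} [Group G] [Fintype G] {C : Type v} [Group C] [Fintype C]
  {φ : P →* MulAut G} {ι : C →* G}

theorem PFix.cop_fixed (h : PFix p φ ι) : ¬ p ∣ Nat.card C := fun hd => h.cop
  (hd.trans ((Nat.card_congr (MonoidHom.ofInjective h.inj).toEquiv) ▸
    ι.range.card_subgroup_dvd_card))

/-- An invariant sum reduces to the fixed points. -/
theorem PFix.sum_eq (h : PFix p φ ι) (hpM : (p : AlgInt) ∈ M) (F : G → ResField M)
    (hF : Inv φ F) : ∑ g, F g = ∑ c, F (ι c) := by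
  classical
  haveI := charP_resField (M := M) Fact.out hpM
  letI : MulAction P G := MulAction.compHom G φ
  rw [sum_eq_sum_fixedPoints p h.pgroup F hF]
  refine (Finset.sum_bij (fun c _ => ι c) (fun c _ => ?_) (fun a _ b _ e => h.inj e)
    (fun g hg => ?_) fun _ _ => rfl).symm
  · exact Finset.mem_filter.mpr ⟨Finset.mem_univ _, (h.fixed _).mpr ⟨c, rfl⟩⟩
  · obtain ⟨c, hc⟩ := (h.fixed g).mp (Finset.mem_filter.mp hg).2
    exact ⟨c, Finset.mem_univ _, hc⟩

omit [Fintype G] [Fintype C] in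
theorem isClassFunction_comap {f : G → ℂ} (hf : IsClassFunction G f) :
    IsClassFunction C (f ∘ ι) := fun x y => by
  simp only [Function.comp_apply, map_mul, map_inv]
  exact hf _ _

omit [Fintype G] [Fintype C] in
theorem isLocClassFun_comap {f : G → ℂ} (hf : IsLocClassFun M f) :
    IsLocClassFun M (f ∘ ι) :=
  ⟨isClassFunction_comap hf.1, fun c => hf.2 _⟩

theorem deg_facts (hpM : (p : AlgInt) ∈ M) {H : Type*} [Group H] [Fintype H]
    (hH : ¬ p ∣ Nat.card H) (χ : IrrCharacter H) :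
    ((χ : H → ℂ) 1)⁻¹ ∈ loc M ∧ rd M ((χ : H → ℂ) 1) ≠ 0 := by
  obtain ⟨n, -, hn, hdvd⟩ := irr_degree_dvd_card χ.2
  have hpn : ¬ p ∣ n := fun hd => hH (hd.trans hdvd)
  haveI := charP_resField (M := M) Fact.out hpM
  rw [hn, rd_natCast]
  exact ⟨inv_natCast_mem_loc Fact.out hpM hpn,
    fun h0 => hpn ((CharP.cast_eq_zero_iff _ p n).mp h0)⟩

theorem isLocClassFun_idemCoeff (hpM : (p : AlgInt) ∈ M) {H : Type*} [Group H] [Fintype H]
    (hH : ¬ p ∣ Nat.card H) (χ : IrrCharacter H) :
    IsLocClassFun M (idemCoeff (χ : H → ℂ)) :=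
  ⟨isClassFunction_idemCoeff χ, fun g => mul_mem (inv_natCast_mem_loc Fact.out hpM hH)
    (mul_mem (irr_mem_loc χ 1) (conj_irr_mem_loc χ g))⟩

theorem rd_omega (hpM : (p : AlgInt) ∈ M) {H : Type*} [Group H] [Fintype H]
    (hH : ¬ p ∣ Nat.card H) (χ : IrrCharacter H) {f : H → ℂ} (hf : ∀ g, f g ∈ loc M) :
    rd M (omega (χ : H → ℂ) f) = (∑ g, rd M (f g) * rd M ((χ : H → ℂ) g)) *
      rd M ((χ : H → ℂ) 1)⁻¹ := by
  rw [omega, div_eq_mul_inv, rd_mul (sum_mem fun g _ => mul_mem (hf g) (irr_mem_loc χ g))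
    (deg_facts hpM hH χ).1, rd_sum _ fun g _ => mul_mem (hf g) (irr_mem_loc χ g)]
  exact congrArg (· * _) (Finset.sum_congr rfl fun g _ => rd_mul (hf g) (irr_mem_loc χ g))

theorem rd_omega_congr (hpM : (p : AlgInt) ∈ M) {H : Type*} [Group H] [Fintype H]
    (hH : ¬ p ∣ Nat.card H) (χ : IrrCharacter H) {f f' : H → ℂ} (hf : ∀ g, f g ∈ loc M)
    (hf' : ∀ g, f' g ∈ loc M) (e : ∀ g, rd M (f g) = rd M (f' g)) :
    rd M (omega (χ : H → ℂ) f) = rd M (omega (χ : H → ℂ) f') := by
  rw [rd_omega hpM hH χ hf, rd_omega hpM hH χ hf']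
  simp only [e]

theorem omega_mem (hpM : (p : AlgInt) ∈ M) {H : Type*} [Group H] [Fintype H]
    (hH : ¬ p ∣ Nat.card H) (χ : IrrCharacter H) {f : H → ℂ} (hf : ∀ g, f g ∈ loc M) :
    omega (χ : H → ℂ) f ∈ loc M := by
  rw [omega, div_eq_mul_inv]
  exact mul_mem (sum_mem fun g _ => mul_mem (hf g) (irr_mem_loc χ g)) (deg_facts hpM hH χ).1

omit [Fintype G] in
/-- Conjugation of characters by the action. -/
noncomputable def twist (φ : P →* MulAut G) (s : P) (χ : IrrCharacter G) : IrrCharacter G :=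
  ⟨fun g => (χ : G → ℂ) (φ s⁻¹ g),
    isIrrCharacter_comp (φ s⁻¹).toMonoidHom (φ s⁻¹).surjective χ.2⟩

omit [Fintype G] in
theorem twist_apply (s : P) (χ : IrrCharacter G) (g : G) :
    (twist φ s χ : G → ℂ) g = (χ : G → ℂ) (φ s⁻¹ g) := rfl

theorem inv_idemCoeff {χ : IrrCharacter G} (hχ : Inv φ (χ : G → ℂ)) :
    Inv φ (idemCoeff (χ : G → ℂ)) := fun s g => by simp only [idemCoeff, hχ s g]

theorem omega_twist {f : G → ℂ} (hf : Inv φ f) (s : P) (χ : IrrCharacter G) :
    omega (twist φ s χ : G → ℂ) f = omega (χ : G → ℂ) f := by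
  rw [omega, omega, twist_apply, map_one]
  congr 1
  refine Fintype.sum_equiv (φ s⁻¹).toEquiv _ _ fun g => ?_
  rw [twist_apply, show (φ s⁻¹).toEquiv g = φ s⁻¹ g from rfl, hf]

/-- The reduced value of an irreducible character of `C` on the idempotent of one of `G`. -/
noncomputable def wt (M : Ideal AlgInt) [M.IsPrime] (ι : C →* G) (χ : IrrCharacter G)
    (β : IrrCharacter C) : ResField M :=
  rd M (omega (β : C → ℂ) (idemCoeff (χ : G → ℂ) ∘ ι))

/-- The Glauberman correspondence. -/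
def Rel (M : Ideal AlgInt) [M.IsPrime] (ι : C →* G) (χ : IrrCharacter G) (β : IrrCharacter C) :
    Prop :=
  wt M ι χ β = 1

variable (h : PFix p φ ι) (hpM : (p : AlgInt) ∈ M)

include h hpM

/-- Restriction to the fixed points is multiplicative modulo `M`. -/
theorem rd_conv {f g : G → ℂ} (hf : IsLocClassFun M f) (hg : IsLocClassFun M g) (hfi : Inv φ f)
    (hgi : Inv φ g) (c : C) :
    rd M (conv f g (ι c)) = rd M (conv (f ∘ ι) (g ∘ ι) c) := by
  simp only [conv, Function.comp_apply]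
  rw [rd_sum _ (fun y _ => mul_mem (hf.2 y) (hg.2 _)),
    rd_sum _ (fun y _ => mul_mem (hf.2 _) (hg.2 _)), h.sum_eq hpM]
  · exact Finset.sum_congr rfl fun y _ => by rw [map_mul, map_inv]
  · intro s y
    show rd M (f (φ s y) * g ((φ s y)⁻¹ * ι c)) = _
    rw [hfi]
    conv_lhs => rw [show (φ s y)⁻¹ * ι c = φ s (y⁻¹ * ι c) by
      rw [map_mul, map_inv, (h.fixed _).mpr ⟨c, rfl⟩ s], hgi]

theorem wt_mul {χ ξ : IrrCharacter G} (hχ : Inv φ (χ : G → ℂ)) (hξ : Inv φ (ξ : G → ℂ))
    (β : IrrCharacter C) [Decidable (χ = ξ)] :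
    wt M ι χ β * wt M ι ξ β = if χ = ξ then wt M ι χ β else 0 := by
  classical
  have h1 := isLocClassFun_idemCoeff hpM h.cop χ
  have h2 := isLocClassFun_idemCoeff hpM h.cop ξ
  have e : conv (idemCoeff (χ : G → ℂ)) (idemCoeff (ξ : G → ℂ)) =
      if χ = ξ then idemCoeff (χ : G → ℂ) else 0 := by
    refine classFun_ext_omega (isClassFunction_conv h1.1 h2.1) ?_ fun ψ => ?_
    · split_ifs
      exacts [h1.1, isClassFunction_zero]
    rw [omega_conv ψ h1.1, idemCoeff_omega, idemCoeff_omega]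
    by_cases e : χ = ξ
    · subst e
      rw [if_pos rfl, idemCoeff_omega]
      split <;> simp
    · rw [if_neg e, omega]
      by_cases e1 : χ = ψ
      · subst e1
        simp [Ne.symm e]
      · simp [e1]
  rw [wt, wt, ← rd_mul (omega_mem hpM h.cop_fixed β (isLocClassFun_comap h1).2)
      (omega_mem hpM h.cop_fixed β (isLocClassFun_comap h2).2), ← omega_conv β (isClassFunction_comap h1.1)]
  rw [rd_omega_congr hpM h.cop_fixed β
    (f' := fun c => conv (idemCoeff (χ : G → ℂ)) (idemCoeff (ξ : G → ℂ)) (ι c))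
    ((isLocClassFun_comap h1).conv (isLocClassFun_comap h2)).2 (fun c => (h1.conv h2).2 _)
    (fun c => (rd_conv h hpM h1 h2 (inv_idemCoeff hχ) (inv_idemCoeff hξ) c).symm), e]
  split_ifs with e'
  · rfl
  · rw [show (fun c : C => (0 : G → ℂ) (ι c)) = fun _ => (0 : ℂ) from rfl, omega]
    simp [rd_zero]

theorem wt_eq_zero_or_one {χ : IrrCharacter G} (hχ : Inv φ (χ : G → ℂ)) (β : IrrCharacter C) :
    wt M ι χ β = 0 ∨ wt M ι χ β = 1 := by
  classical
  have e := wt_mul h hpM hχ hχ β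
  rw [if_pos rfl] at e
  exact eq_zero_or_one_of_sq_eq_self (by rw [sq]; exact e)

theorem Rel.eq_of_right {χ ξ : IrrCharacter G} (hχ : Inv φ (χ : G → ℂ))
    (hξ : Inv φ (ξ : G → ℂ)) {β : IrrCharacter C} (h1 : Rel M ι χ β) (h2 : Rel M ι ξ β) :
    χ = ξ := by
  classical
  by_contra hne
  have e := wt_mul h hpM hχ hξ β
  rw [if_neg hne, h1, h2, one_mul] at e
  exact one_ne_zero e

/-- The expansion of an invariant class function on the fixed points. -/
theorem rd_comap_expand [Fintype (IrrCharacter G)] {f : G → ℂ} (hf : IsLocClassFun M f)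
    (hfi : Inv φ f) (c : C)
    [DecidablePred fun χ : IrrCharacter G => Inv φ (χ : G → ℂ)] :
    rd M (f (ι c)) = ∑ χ ∈ Finset.univ.filter (fun χ : IrrCharacter G => Inv φ (χ : G → ℂ)),
      rd M (omega (χ : G → ℂ) f) * rd M (idemCoeff (χ : G → ℂ) (ι c)) := by
  classical
  haveI := charP_resField (M := M) Fact.out hpM
  have hm := fun χ : IrrCharacter G => omega_mem hpM h.cop χ hf.2
  have he := fun χ : IrrCharacter G => (isLocClassFun_idemCoeff hpM h.cop χ).2 (ι c)
  rw [classFun_eq_sum_omega hf.1, rd_sum _ fun χ _ => mul_mem (hm χ) (he χ)]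
  letI : MulAction P (IrrCharacter G) :=
    { smul := twist φ
      one_smul := fun χ => Subtype.ext (funext fun g => by
        show (χ : G → ℂ) (φ 1⁻¹ g) = _
        simp)
      mul_smul := fun s t χ => Subtype.ext (funext fun g => by
        show (χ : G → ℂ) (φ (s * t)⁻¹ g) = (χ : G → ℂ) (φ t⁻¹ (φ s⁻¹ g))
        simp [mul_inv_rev]) }
  rw [sum_eq_sum_fixedPoints p h.pgroup (fun χ : IrrCharacter G =>
    rd M (omega (χ : G → ℂ) f * idemCoeff (χ : G → ℂ) (ι c)))]
  · refine Finset.sum_congr ?_ fun χ _ => rd_mul (hm χ) (he χ)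
    ext χ
    simp only [Finset.mem_filter, Finset.mem_univ, true_and]
    constructor
    · intro hfx s g
      have e := congrFun (congrArg Subtype.val (hfx s⁻¹)) g
      show (χ : G → ℂ) (φ s g) = _
      rw [← e]
      show _ = (χ : G → ℂ) (φ s⁻¹⁻¹ g)
      rw [inv_inv]
    · exact fun hinv s => Subtype.ext (funext fun g => hinv s⁻¹ g)
  · intro s χ
    show rd M (omega (twist φ s χ : G → ℂ) f * idemCoeff (twist φ s χ : G → ℂ) (ι c)) = _
    rw [omega_twist hfi]
    congr 2
    simp only [idemCoeff, twist_apply, map_one, (h.fixed _).mpr ⟨c, rfl⟩ s⁻¹]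

/-- Central characters on invariant class functions, through the correspondence. -/
theorem rd_omega_comap {f : G → ℂ} (hf : IsLocClassFun M f) (hfi : Inv φ f) (β : IrrCharacter C)
    [Fintype (IrrCharacter G)] [DecidablePred fun χ : IrrCharacter G => Inv φ (χ : G → ℂ)] :
    rd M (omega (β : C → ℂ) (f ∘ ι)) =
      ∑ χ ∈ Finset.univ.filter (fun χ : IrrCharacter G => Inv φ (χ : G → ℂ)),
        rd M (omega (χ : G → ℂ) f) * wt M ι χ β := by
  have he := fun χ : IrrCharacter G => isLocClassFun_idemCoeff hpM h.cop χ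
  rw [rd_omega hpM h.cop_fixed β (isLocClassFun_comap hf).2, Finset.sum_congr rfl fun c _ => by
    rw [Function.comp_apply, rd_comap_expand h hpM hf hfi c, Finset.sum_mul], Finset.sum_comm,
    Finset.sum_mul]
  refine Finset.sum_congr rfl fun χ _ => ?_
  rw [wt, rd_omega hpM h.cop_fixed β (isLocClassFun_comap (he χ)).2]
  simp only [Finset.sum_mul, Finset.mul_sum, Function.comp_apply]
  exact Finset.sum_congr rfl fun c _ => by ring

theorem Rel.rd_omega_comap {χ : IrrCharacter G} (hχ : Inv φ (χ : G → ℂ)) {β : IrrCharacter C}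
    (hr : Rel M ι χ β) {f : G → ℂ} (hf : IsLocClassFun M f) (hfi : Inv φ f) :
    rd M (omega (β : C → ℂ) (f ∘ ι)) = rd M (omega (χ : G → ℂ) f) := by
  classical
  haveI := irrFintype G
  rw [Glauberman.rd_omega_comap h hpM hf hfi β, Finset.sum_eq_single χ]
  · rw [hr, mul_one]
  · intro ξ hξ hne
    rcases wt_eq_zero_or_one h hpM (Finset.mem_filter.mp hξ).2 β with e | e
    · rw [e, mul_zero]
    · exact absurd (Rel.eq_of_right h hpM (Finset.mem_filter.mp hξ).2 hχ e hr) hne
  · exact fun hn => absurd hχ fun hh => hn (by simpa using hh)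

omit hpM in
/-- Class functions of the fixed points extend. -/
theorem exists_extend {a : C → ℂ} (ha : IsLocClassFun M a) :
    ∃ f : G → ℂ, IsLocClassFun M f ∧ Inv φ f ∧ f ∘ ι = a := by
  classical
  let f : G → ℂ := fun g => if hg : ∃ c, IsConj g (ι c) then a hg.choose else 0
  have hval : ∀ g c, IsConj g (ι c) → f g = a c := by
    intro g c hc
    have hg : ∃ c, IsConj g (ι c) := ⟨c, hc⟩
    show dite _ _ _ = _
    rw [dif_pos hg]
    exact classFun_of_isConj ha.1 (h.fusion _ _ (hg.choose_spec.symm.trans hc))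
  have hzero : ∀ g, (¬ ∃ c, IsConj g (ι c)) → f g = 0 := fun g hg => dif_neg hg
  refine ⟨f, ⟨fun g x => ?_, fun g => ?_⟩, fun s g => ?_, funext fun c => hval _ c (IsConj.refl _)⟩
  · by_cases hg : ∃ c, IsConj g (ι c)
    · obtain ⟨c, hc⟩ := hg
      rw [hval g c hc, hval _ c ((isConj_iff.mpr ⟨x, rfl⟩ : IsConj g (x * g * x⁻¹)).symm.trans hc)]
    · rw [hzero g hg, hzero _ fun ⟨c, hc⟩ => hg ⟨c, (isConj_iff.mpr ⟨x, rfl⟩).trans hc⟩]
  · show dite _ _ _ ∈ _
    split_ifs with hg
    exacts [ha.2 _, zero_mem _]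
  · have key : ∀ (s : P) (g : G) c, IsConj g (ι c) → IsConj (φ s g) (ι c) := fun s g c hc => by
      have e := MonoidHom.map_isConj (φ s).toMonoidHom hc
      rwa [MulEquiv.coe_toMonoidHom, (h.fixed _).mpr ⟨c, rfl⟩ s] at e
    by_cases hg : ∃ c, IsConj g (ι c)
    · obtain ⟨c, hc⟩ := hg
      rw [hval g c hc, hval _ c (key s g c hc)]
    · rw [hzero g hg, hzero _ fun ⟨c, hc⟩ => hg ⟨c, by simpa using key s⁻¹ _ c hc⟩]

theorem Rel.eq_of_left {χ : IrrCharacter G} (hχ : Inv φ (χ : G → ℂ)) {β β' : IrrCharacter C}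
    (h1 : Rel M ι χ β) (h2 : Rel M ι χ β') : β = β' := by
  classical
  by_contra hne
  obtain ⟨f, hf, hfi, e⟩ := exists_extend h (isLocClassFun_idemCoeff hpM h.cop_fixed β)
  have a1 := Rel.rd_omega_comap h hpM hχ h1 hf hfi
  have a2 := Rel.rd_omega_comap h hpM hχ h2 hf hfi
  rw [e, idemCoeff_omega, if_pos rfl, rd_one] at a1
  rw [e, idemCoeff_omega, if_neg hne, rd_zero, ← a1] at a2
  exact zero_ne_one a2

/-- Every irreducible character of the fixed points corresponds to an invariant one. -/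
theorem exists_rel_left (β : IrrCharacter C) :
    ∃ χ : IrrCharacter G, Inv φ (χ : G → ℂ) ∧ Rel M ι χ β := by
  classical
  haveI := irrFintype G
  obtain ⟨f, hf, hfi, e⟩ := exists_extend h (isLocClassFun_idemCoeff hpM h.cop_fixed β)
  have a := Glauberman.rd_omega_comap h hpM hf hfi β
  rw [e, idemCoeff_omega, if_pos rfl, rd_one] at a
  obtain ⟨χ, hχ, hne⟩ := Finset.exists_ne_zero_of_sum_ne_zero (a ▸ one_ne_zero)
  exact ⟨χ, (Finset.mem_filter.mp hχ).2,
    ((wt_eq_zero_or_one h hpM (Finset.mem_filter.mp hχ).2 β).resolve_left (right_ne_zero_of_mul hne))⟩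

/-- Every invariant irreducible character corresponds to one of the fixed points. -/
theorem exists_rel {χ : IrrCharacter G} (hχ : Inv φ (χ : G → ℂ)) :
    ∃ β : IrrCharacter C, Rel M ι χ β := by
  classical
  haveI := irrFintype C
  by_contra hno
  have he := isLocClassFun_idemCoeff hpM h.cop χ
  have h0 : ∀ β : IrrCharacter C, wt M ι χ β = 0 := fun β =>
    (wt_eq_zero_or_one h hpM hχ β).resolve_right fun e => hno ⟨β, e⟩
  have e1 : rd M (idemCoeff (χ : G → ℂ) 1) = 0 := by
    have hb := fun β : IrrCharacter C => (isLocClassFun_idemCoeff hpM h.cop_fixed β).2 1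
    rw [show idemCoeff (χ : G → ℂ) 1 = (idemCoeff (χ : G → ℂ) ∘ ι) 1 by simp,
      classFun_eq_sum_omega (isClassFunction_comap he.1),
      rd_sum _ fun β _ => mul_mem (omega_mem hpM h.cop_fixed β (isLocClassFun_comap he).2) (hb β)]
    refine Finset.sum_eq_zero fun β _ => ?_
    rw [rd_mul (omega_mem hpM h.cop_fixed β (isLocClassFun_comap he).2) (hb β),
      show rd M (omega (β : C → ℂ) (idemCoeff (χ : G → ℂ) ∘ ι)) = 0 from h0 β, zero_mul]
  obtain ⟨n, -, hn, -⟩ := irr_degree_dvd_card χ.2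
  have hG := inv_natCast_mem_loc (M := M) (Fact.out : p.Prime) hpM h.cop
  have hn0 := (deg_facts hpM h.cop χ).2
  rw [idemCoeff, hn, Complex.conj_natCast, rd_mul hG (mul_mem (natCast_mem_loc n) (natCast_mem_loc n)),
    rd_mul (natCast_mem_loc n) (natCast_mem_loc n)] at e1
  rw [hn] at hn0
  have hG0 : rd M ((Nat.card G : ℂ)⁻¹) ≠ 0 := fun e => by
    have e' := rd_mul (M := M) hG (natCast_mem_loc (Nat.card G))
    rw [inv_mul_cancel₀ (card_ne_zero G), rd_one, e, zero_mul] at e'
    exact one_ne_zero e'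
  exact mul_ne_zero hG0 (mul_ne_zero hn0 hn0) e1

/-- Corresponding characters agree on the fixed points up to a scalar modulo `M`. -/
theorem Rel.values {χ : IrrCharacter G} (hχ : Inv φ (χ : G → ℂ)) {β : IrrCharacter C}
    (hr : Rel M ι χ β) :
    ∃ a : ResField M, ∀ c : C, rd M ((χ : G → ℂ) (ι c)) = a * rd M ((β : C → ℂ) c) := by
  classical
  haveI := irrFintype C
  have he := isLocClassFun_idemCoeff hpM h.cop χ
  have hb := fun β : IrrCharacter C => isLocClassFun_idemCoeff hpM h.cop_fixed β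
  have e : ∀ c : C, rd M (idemCoeff (χ : G → ℂ) (ι c)) = rd M (idemCoeff (β : C → ℂ) c) := by
    intro c
    rw [show idemCoeff (χ : G → ℂ) (ι c) = (idemCoeff (χ : G → ℂ) ∘ ι) c from rfl,
      classFun_eq_sum_omega (isClassFunction_comap he.1),
      rd_sum _ fun γ _ => mul_mem (omega_mem hpM h.cop_fixed γ (isLocClassFun_comap he).2) ((hb γ).2 c),
      Finset.sum_eq_single β]
    · rw [rd_mul (omega_mem hpM h.cop_fixed β (isLocClassFun_comap he).2) ((hb β).2 c),
        show rd M (omega (β : C → ℂ) (idemCoeff (χ : G → ℂ) ∘ ι)) = 1 from hr, one_mul]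
    · intro γ _ hne
      rw [rd_mul (omega_mem hpM h.cop_fixed γ (isLocClassFun_comap he).2) ((hb γ).2 c),
        show rd M (omega (γ : C → ℂ) (idemCoeff (χ : G → ℂ) ∘ ι)) = 0 from
          (wt_eq_zero_or_one h hpM hχ γ).resolve_right fun e =>
            hne (Rel.eq_of_left h hpM hχ e hr), zero_mul]
    · simp
  have hG := inv_natCast_mem_loc (M := M) (Fact.out : p.Prime) hpM h.cop
  have hC := inv_natCast_mem_loc (M := M) (Fact.out : p.Prime) hpM h.cop_fixed
  have hd := (deg_facts hpM h.cop χ).1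
  refine ⟨rd M ((Nat.card G : ℂ) * ((χ : G → ℂ) 1)⁻¹ *
    ((Nat.card C : ℂ)⁻¹ * (β : C → ℂ) 1)), fun c => ?_⟩
  have e2 := e c⁻¹
  have hGc := natCast_mem_loc (M := M) (Nat.card G)
  have hx : (χ : G → ℂ) (ι c) =
      (Nat.card G : ℂ) * ((χ : G → ℂ) 1)⁻¹ * idemCoeff (χ : G → ℂ) (ι c⁻¹) := by
    rw [idemCoeff, map_inv, irr_inv χ (ι c), Complex.conj_conj]
    field_simp [irr_degree_ne_zero χ.2]
  rw [hx, rd_mul (mul_mem hGc hd) (he.2 _), e2, idemCoeff,
    irr_inv β c, Complex.conj_conj, ← rd_mul (mul_mem hGc hd)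
      (mul_mem hC (mul_mem (irr_mem_loc β 1) (irr_mem_loc β c))),
    ← rd_mul (mul_mem (mul_mem hGc hd) (mul_mem hC (irr_mem_loc β 1))) (irr_mem_loc β c)]
  congr 1
  ring

/-- The multiplicities in the restriction to the fixed points. -/
theorem Rel.multiplicity {χ : IrrCharacter G} (hχ : Inv φ (χ : G → ℂ)) {β : IrrCharacter C}
    (hr : Rel M ι χ β) :
    ∃ a : ResField M, (a = 1 ∨ a = -1) ∧ ∀ γ : IrrCharacter C, ∀ m : ℕ,
      classInner (fun c => (χ : G → ℂ) (ι c)) (γ : C → ℂ) = (m : ℂ) →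
      (γ = β → (m : ResField M) = a) ∧ (γ ≠ β → (m : ResField M) = 0) := by
  classical
  haveI := charP_resField (M := M) Fact.out hpM
  obtain ⟨a, ha⟩ := Rel.values h hpM hχ hr
  have hC := inv_natCast_mem_loc (M := M) (Fact.out : p.Prime) hpM h.cop_fixed
  have hC0 : ((Nat.card C : ℕ) : ResField M) ≠ 0 :=
    fun e => h.cop_fixed ((CharP.cast_eq_zero_iff _ p _).mp e)
  have hinner : ∀ γ : IrrCharacter C,
      ∑ c, rd M ((β : C → ℂ) c) * rd M (conj ((γ : C → ℂ) c)) =
        (Nat.card C : ResField M) * if β = γ then 1 else 0 := by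
    intro γ
    have e := inner_irr β γ
    rw [inner_def, inv_mul_eq_iff_eq_mul₀ (card_ne_zero C)] at e
    have e' := congrArg (rd M) e
    rw [rd_sum _ (fun c _ => mul_mem (irr_mem_loc β c) (conj_irr_mem_loc γ c)),
      rd_mul (natCast_mem_loc _) (by split <;> simp [one_mem, zero_mem]), rd_natCast, rd_ite,
      Finset.sum_congr rfl fun c _ => rd_mul (irr_mem_loc β c) (conj_irr_mem_loc γ c)] at e'
    exact e'
  have hsq : a * a = 1 := by
    have e := inner_irr χ χ
    rw [if_pos rfl, inner_def, inv_mul_eq_iff_eq_mul₀ (card_ne_zero G), mul_one] at e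
    have e' := congrArg (rd M) e
    rw [rd_sum _ (fun g _ => mul_mem (irr_mem_loc χ g) (conj_irr_mem_loc χ g)), rd_natCast] at e'
    have hcard : (Nat.card G : ResField M) = (Nat.card C : ResField M) := by
      have := h.sum_eq hpM (fun _ => (1 : ResField M)) (fun _ _ => rfl)
      simpa [Nat.card_eq_fintype_card] using this
    rw [h.sum_eq hpM _ (fun s g => by rw [hχ s g]), hcard] at e'
    have hterm : ∀ c : C, rd M ((χ : G → ℂ) (ι c) * conj ((χ : G → ℂ) (ι c))) =
        a * a * (rd M ((β : C → ℂ) c) * rd M (conj ((β : C → ℂ) c))) := by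
      intro c
      rw [rd_mul (irr_mem_loc χ _) (conj_irr_mem_loc χ _), ← irr_inv χ (ι c), ← map_inv, ha, ha,
        irr_inv β c]
      ring
    rw [Finset.sum_congr rfl fun c _ => hterm c, ← Finset.mul_sum, hinner β, if_pos rfl,
      mul_one] at e'
    exact mul_right_cancel₀ hC0 (e'.trans (one_mul _).symm)
  refine ⟨a, mul_self_eq_one_iff.mp hsq, fun γ m hm => ?_⟩
  rw [inner_def, inv_mul_eq_iff_eq_mul₀ (card_ne_zero C)] at hm
  have e' := congrArg (rd M) hm
  rw [rd_sum _ (fun c _ => mul_mem (irr_mem_loc χ _) (conj_irr_mem_loc γ c)),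
    rd_mul (natCast_mem_loc _) (natCast_mem_loc _), rd_natCast, rd_natCast] at e'
  have hterm : ∀ c : C, rd M ((χ : G → ℂ) (ι c) * conj ((γ : C → ℂ) c)) =
      a * (rd M ((β : C → ℂ) c) * rd M (conj ((γ : C → ℂ) c))) := fun c => by
    rw [rd_mul (irr_mem_loc χ _) (conj_irr_mem_loc γ _), ha]
    ring
  rw [Finset.sum_congr rfl fun c _ => hterm c, ← Finset.mul_sum, hinner γ, mul_left_comm] at e'
  have e'' := (mul_left_cancel₀ hC0 e').symm
  exact ⟨fun hγ => by rw [e'', if_pos hγ.symm, mul_one],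
    fun hγ => by rw [e'', if_neg (Ne.symm hγ), mul_zero]⟩

omit h hpM in
/-- The correspondence commutes with isomorphisms. -/
theorem Rel.equivariant {G' : Type*} [Group G'] [Fintype G'] {C' : Type*} [Group C'] [Fintype C']
    {ι' : C' →* G'} (e : G' ≃* G) (e' : C' ≃* C) (hcomm : ∀ c, e (ι' c) = ι (e' c))
    {χ : IrrCharacter G} {β : IrrCharacter C} (hr : Rel M ι χ β) {χ' : IrrCharacter G'}
    {β' : IrrCharacter C'} (hχ' : ∀ g, (χ' : G' → ℂ) g = (χ : G → ℂ) (e g))
    (hβ' : ∀ c, (β' : C' → ℂ) c = (β : C → ℂ) (e' c)) : Rel M ι' χ' β' := by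
  show rd M _ = 1
  rw [← (hr : rd M _ = 1)]
  congr 1
  rw [omega, omega, hβ', map_one]
  congr 1
  refine Fintype.sum_equiv e'.toEquiv _ _ fun c => ?_
  show _ = idemCoeff (χ : G → ℂ) (ι (e' c)) * (β : C → ℂ) (e' c)
  rw [hβ', Function.comp_apply, ← hcomm]
  simp only [idemCoeff, hχ', map_one, Nat.card_congr e.toEquiv]

/-- If the corresponding character lies over the corresponding character of a normal subgroup,
so does the original one. -/
theorem Rel.over {N : Subgroup G} [N.Normal] [Fintype N] [Fintype (N.comap ι)]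
    {φN : P →* MulAut N} (hcompat : ∀ s (n : N), (φN s n : G) = φ s n)
    {ιN : N.comap ι →* N} (hιN : ∀ d, (ιN d : G) = ι d)
    (hN : PFix p φN ιN) {θ : IrrCharacter N} (hθ : Inv φN (θ : N → ℂ))
    {η : IrrCharacter (N.comap ι)} (hθη : Rel M ιN θ η) {χ : IrrCharacter G}
    (hχ : Inv φ (χ : G → ℂ)) {β : IrrCharacter C} (hr : Rel M ι χ β)
    (hβ : classInner (fun d : N.comap ι => (β : C → ℂ) d) (η : N.comap ι → ℂ) ≠ 0) :
    classInner (fun n : N => (χ : G → ℂ) n) (θ : N → ℂ) ≠ 0 := by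
  classical
  intro hnot
  let O : Set (IrrCharacter N) := {ψ | ∃ g : G, conjIrr N g θ = ψ}
  have hO : ∀ g ψ, conjIrr N g ψ ∈ O ↔ ψ ∈ O := by
    intro g ψ
    constructor
    · rintro ⟨x, hx⟩
      exact ⟨x * g⁻¹, by rw [conjIrr_mul, hx, ← conjIrr_mul, mul_inv_cancel, conjIrr_one]⟩
    · rintro ⟨x, rfl⟩
      exact ⟨x * g, conjIrr_mul N x g θ⟩
  obtain ⟨θ', hθ'⟩ := exists_constituent_restrict N χ
  have hout : θ' ∉ O := by
    rintro ⟨g, rfl⟩
    rw [coe_conjIrr, CharsMore.inner_restrict_conjFn N (isClassFunction_irr χ)] at hθ'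
    exact hθ' hnot
  have hbl : IsLocClassFun M (blockCoeff O) := by
    refine ⟨isClassFunction_blockCoeff O, fun n => ?_⟩
    haveI := irrFintype N
    rw [blockCoeff_eq]
    exact sum_mem fun ψ _ => mul_mem (by split <;> simp [one_mem, zero_mem])
      ((isLocClassFun_idemCoeff hpM hN.cop ψ).2 n)
  have hL : IsLocClassFun M (liftIdem N O) := by
    refine ⟨isClassFunction_liftIdem N hO, fun g => ?_⟩
    by_cases hg : g ∈ N
    · rw [liftIdem, extendByZero_of_mem N _ hg]
      exact hbl.2 _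
    · rw [liftIdem_eq_zero N O hg]
      exact zero_mem _
  have hOinv : ∀ s ψ, twist φN s ψ ∈ O ↔ ψ ∈ O := by
    have key : ∀ s ψ, ψ ∈ O → twist φN s ψ ∈ O := by
      rintro s ψ ⟨x, rfl⟩
      refine ⟨φ s x, Subtype.ext (funext fun n => ?_)⟩
      simp only [coe_conjIrr, twist_apply, CharsMore.conjFn]
      rw [← hθ s⁻¹]
      refine congrArg _ ((φN s).injective (Subtype.ext ?_))
      have e : φ s ((φN s).symm n : G) = (n : G) := by
        rw [← hcompat, MulEquiv.apply_symm_apply]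
      simp [hcompat, e]
    intro s ψ
    refine ⟨fun hh => ?_, key s ψ⟩
    have := key s⁻¹ _ hh
    convert this using 1
    exact Subtype.ext (funext fun n => by simp [twist_apply])
  have hbi : Inv φN (blockCoeff O) := by
    intro s n
    refine congrFun (classFun_ext_omega (G := N) (a := fun n => blockCoeff O (φN s n))
      (fun x y => by simp only [map_mul, map_inv]; exact isClassFunction_blockCoeff O _ _)
      (isClassFunction_blockCoeff O) fun ψ => ?_) n
    have e : omega (ψ : N → ℂ) (fun n => blockCoeff O (φN s n)) =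
        omega (twist φN s ψ : N → ℂ) (blockCoeff O) := by
      rw [omega, omega, twist_apply, map_one]
      congr 1
      exact Fintype.sum_equiv (φN s).toEquiv _ _ fun m => by simp [twist_apply]
    rw [e, omega_blockCoeff, omega_blockCoeff]
    by_cases hh : ψ ∈ O
    · rw [if_pos ((hOinv s ψ).2 hh), if_pos hh]
    · rw [if_neg (mt (hOinv s ψ).1 hh), if_neg hh]
  have hLi : Inv φ (liftIdem N O) := by
    intro s g
    by_cases hg : g ∈ N
    · obtain ⟨n, rfl⟩ : ∃ n : N, (n : G) = g := ⟨⟨g, hg⟩, rfl⟩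
      rw [← hcompat s n, liftIdem, extendByZero_coe, extendByZero_coe]
      exact hbi s n
    · have hg' : φ s g ∉ N := fun hh => hg (by
        have := (φN s⁻¹ ⟨_, hh⟩).2
        rwa [hcompat, show φ s⁻¹ (φ s g) = g by simp] at this)
      rw [liftIdem_eq_zero N O hg, liftIdem_eq_zero N O hg']
  have h1 := Rel.rd_omega_comap h hpM hχ hr hL hLi
  rw [omega_liftIdem N hO χ hθ', if_neg hout, rd_zero,
    ← omega_eq_omega_constituent (N.comap ι) (isClassFunction_comap hL.1)
      (fun c hc => liftIdem_eq_zero N O hc) β η hβ,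
    show resFun (N.comap ι) (liftIdem N O ∘ ι) = blockCoeff O ∘ ιN from funext fun d => by
      show liftIdem N O (ι d) = _
      rw [← hιN, liftIdem, extendByZero_coe]
      rfl,
    Rel.rd_omega_comap hN hpM hθ hθη hbl hbi, omega_blockCoeff,
    if_pos (show θ ∈ O from ⟨1, conjIrr_one N θ⟩), rd_one] at h1
  exact one_ne_zero h1

end CfsgLib.Glauberman
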