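import Cfsg.Agent.Lib.Glauberman.Solvable

/-!
# Counting invariant characters and classes; invariant constituents
-/

set_option autoImplicit false
set_option linter.style.haveILetI false
set_option linter.unusedSectionVars false

namespace CfsgLib.Glauberman

open Cfsg CfsgLib.Chars CfsgLib.Blocks

universe u

variable {Γ : Type u} [Group Γ] [Finite Γ] {G S : Subgroup Γ}

theorem card_inv_irr (hSG : S ≤ Subgroup.normalizer (G : Set Γ))
    (hcop : (Nat.card G).Coprime (Nat.card S)) (hsolv : Group.IsSolvable S) :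
    Nat.card {χ : IrrCharacter G // InvBy S G (χ : G → ℂ)} =
      Nat.card (IrrCharacter (G ⊓ Subgroup.centralizer (S : Set Γ) : Subgroup Γ)) := by
  obtain ⟨R, -, h, -, -⟩ := exists_corr S hsolv ∅ G G le_rfl hSG hSG Subgroup.le_normalizer hcop
    (fun x hx => hx.elim)
  exact h.card_eq

theorem card_inv_classes (hSG : S ≤ Subgroup.normalizer (G : Set Γ))
    (hcop : (Nat.card G).Coprime (Nat.card S)) (hsolv : Group.IsSolvable S) :
    Nat.card {K : ConjClasses G // InvBy S G (fun g => ConjClasses.mk g = K)} =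
      Nat.card (ConjClasses (G ⊓ Subgroup.centralizer (S : Set Γ) : Subgroup Γ)) := by
  classical
  letI : MulAction Γ Γ := MulAction.compHom _ (MulAut.conj : Γ →* MulAut Γ)
  set C := G ⊓ Subgroup.centralizer (S : Set Γ)
  let ι : C →* G := Subgroup.inclusion inf_le_left
  have hfix : ∀ c : C, ∀ s ∈ S, s * (c : Γ) * s⁻¹ = c := fun c s hs => by
    rw [Subgroup.mem_centralizer_iff.mp c.2.2 s hs, mul_inv_cancel_right]
  have hinvC : ∀ c : C, InvBy S G (fun g => ConjClasses.mk g = ConjClasses.mk (ι c)) := by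
    intro c s hs g g' e
    apply propext
    simp only [ConjClasses.mk_eq_mk_iff_isConj, isConj_iff]
    have key : ∀ (t : Γ), t ∈ S → ∀ a b : G, (b : Γ) = t * a * t⁻¹ →
        (∃ k, k * a * k⁻¹ = ι c) → ∃ k, k * b * k⁻¹ = ι c := by
      rintro t ht a b hab ⟨k, hk⟩
      have hk' : t * (k : Γ) * t⁻¹ ∈ G := (Subgroup.mem_normalizer_iff.mp (hSG ht) k).mp k.2
      refine ⟨⟨_, hk'⟩, Subtype.ext ?_⟩
      have hk2 : (k : Γ) * a * (k : Γ)⁻¹ = c := congrArg Subtype.val hk
      calc t * (k : Γ) * t⁻¹ * b * (t * (k : Γ) * t⁻¹)⁻¹ = t * ((k : Γ) * a * (k : Γ)⁻¹) * t⁻¹ := by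
            rw [hab]; group
        _ = _ := by rw [hk2, hfix c t ht]; rfl
    exact ⟨key s⁻¹ (inv_mem hs) g' g (by simp [e, mul_assoc]), key s hs g g' e⟩
  have hfun : ∀ a b : C, ConjClasses.mk a = ConjClasses.mk b →
      ConjClasses.mk (ι a) = ConjClasses.mk (ι b) := fun a b h =>
    ConjClasses.mk_eq_mk_iff_isConj.mpr (MonoidHom.map_isConj ι (ConjClasses.mk_eq_mk_iff_isConj.mp h))
  refine (Nat.card_congr (Equiv.ofBijective (fun D => (⟨ConjClasses.mk (ι (classRep D)), hinvC _⟩ :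
    {K : ConjClasses G // InvBy S G (fun g => ConjClasses.mk g = K)})) ⟨fun D E e => ?_, ?_⟩)).symm
  · obtain ⟨k, hk⟩ := isConj_iff.mp (ConjClasses.mk_eq_mk_iff_isConj.mp (congrArg Subtype.val e))
    obtain ⟨m, hm, hmc⟩ := Coprime.exists_centralizing_smul_eq (A := S) (K := G) hSG hcop.symm
      (Or.inl hsolv) (x := ((classRep D : C) : Γ)) (y := ((classRep E : C) : Γ))
      (hfix _) (hfix _) ⟨k, k.2, congrArg Subtype.val hk⟩
    rw [← mk_classRep D, ← mk_classRep E]
    exact ConjClasses.mk_eq_mk_iff_isConj.mpr (isConj_iff.mpr ⟨⟨m, hm⟩, Subtype.ext hmc⟩)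
  · rintro ⟨K, hK⟩
    obtain ⟨g, rfl⟩ := ConjClasses.mk_surjective K
    obtain ⟨k, hk, hfk⟩ := Coprime.exists_fixed_point (A := S) (K := G) hSG hcop.symm (Or.inl hsolv)
      (g : Γ) (fun s hs => by
        have hsg : s * (g : Γ) * s⁻¹ ∈ G := (Subgroup.mem_normalizer_iff.mp (hSG hs) g).mp g.2
        have e : ConjClasses.mk (⟨_, hsg⟩ : G) = ConjClasses.mk g := (hK s hs g ⟨_, hsg⟩ rfl).mpr rfl
        obtain ⟨k, hk⟩ := isConj_iff.mp (ConjClasses.mk_eq_mk_iff_isConj.mp e.symm)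
        exact ⟨k, k.2, congrArg Subtype.val hk⟩)
    have hc : k * (g : Γ) * k⁻¹ ∈ C :=
      ⟨G.mul_mem (G.mul_mem hk g.2) (G.inv_mem hk), Subgroup.mem_centralizer_iff.mpr fun s hs =>
        mul_inv_eq_iff_eq_mul.mp (hfk s hs)⟩
    refine ⟨ConjClasses.mk ⟨_, hc⟩, Subtype.ext ?_⟩
    show ConjClasses.mk (ι (classRep _)) = ConjClasses.mk g
    rw [hfun _ _ (mk_classRep (ConjClasses.mk (⟨_, hc⟩ : C)))]
    exact (ConjClasses.mk_eq_mk_iff_isConj.mpr (isConj_iff.mpr ⟨⟨k, hk⟩, Subtype.ext rfl⟩)).symm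

theorem card_inv_irr_eq_classes (hSG : S ≤ Subgroup.normalizer (G : Set Γ))
    (hcop : (Nat.card G).Coprime (Nat.card S)) (hsolv : Group.IsSolvable S) :
    Nat.card {χ : IrrCharacter G // InvBy S G (χ : G → ℂ)} =
      Nat.card {K : ConjClasses G // InvBy S G (fun g => ConjClasses.mk g = K)} := by
  haveI := Fintype.ofFinite (G ⊓ Subgroup.centralizer (S : Set Γ) : Subgroup Γ)
  rw [card_inv_irr hSG hcop hsolv, card_inv_classes hSG hcop hsolv]
  exact card_irr_eq_card_classes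

/-- An invariant character of an invariant normal subgroup lies under an invariant character. -/
theorem exists_inv_over {N : Subgroup Γ} (hNG : N ≤ G) (hSG : S ≤ Subgroup.normalizer (G : Set Γ))
    (hSN : S ≤ Subgroup.normalizer (N : Set Γ)) (hGN : G ≤ Subgroup.normalizer (N : Set Γ))
    (hcop : (Nat.card G).Coprime (Nat.card S)) (hsolv : Group.IsSolvable S) (θ : IrrCharacter N)
    (hθ : InvBy S N (θ : N → ℂ)) :
    ∃ χ : IrrCharacter G, InvBy S G (χ : G → ℂ) ∧ LiesOver hNG (χ : G → ℂ) (θ : N → ℂ) := by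
  classical
  set C := G ⊓ Subgroup.centralizer (S : Set Γ) with hC
  set D := N ⊓ Subgroup.centralizer (S : Set Γ) with hD
  obtain ⟨R, RN, hR, hRN, hover⟩ : ∃ (R : IrrCharacter G → IrrCharacter C → Prop)
      (RN : IrrCharacter N → IrrCharacter D → Prop),
      IsCorr ∅ S G C R ∧ IsCorr ∅ S N D RN ∧
      ∀ χ β θ η, R χ β → RN θ η → LiesOver (show D ≤ C from inf_le_inf_right _ hNG) β.1 η.1 →
        LiesOver hNG χ.1 θ.1 :=
    exists_corr S hsolv ∅ G N hNG hSG hSN hGN hcop (fun x hx => hx.elim)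
  obtain ⟨η, hη⟩ := hRN.total θ hθ
  have hDC : D ≤ C := inf_le_inf_right _ hNG
  haveI : (D.subgroupOf C).Normal := by
    refine (Subgroup.normal_subgroupOf_iff_le_normalizer hDC).2 fun x hx => ?_
    refine Subgroup.mem_normalizer_iff.mpr fun y => ?_
    exact and_congr (Subgroup.mem_normalizer_iff.mp (hGN hx.1) y)
      (Subgroup.mem_normalizer_iff.mp (Subgroup.le_normalizer hx.2) y)
  haveI := Fintype.ofFinite C
  haveI := Fintype.ofFinite D
  haveI := Fintype.ofFinite (D.subgroupOf C)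
  let e : D.subgroupOf C ≃* D := Subgroup.subgroupOfEquivOfLe hDC
  obtain ⟨β, hβ⟩ := exists_character_over (D.subgroupOf C) (⟨fun d => (η : D → ℂ) (e d),
    isIrrCharacter_comp e.toMonoidHom e.surjective η.2⟩ : IrrCharacter (D.subgroupOf C))
  obtain ⟨χ, hχ⟩ := hR.surj β
  refine ⟨χ, hR.inv χ β hχ, hover χ β θ η hχ hη ?_⟩
  rw [liesOver_iff, ← CharsMore.inner_comp_equiv e]
  exact hβ

end CfsgLib.Glauberman
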