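import Cfsg.Agent.Lib.Glauberman.Count
import Cfsg.Agent.Lib.CharsMore.Gallagher
import Cfsg.Agent.Lib.CharsMore.Extend
import Cfsg.Agent.Lib.CharApps.Galois
import Cfsg.Agent.Lib.Blocks.Counting
import Cfsg.Agent.S0867

/-!
# The Glauberman correspondence for a cyclic group of operators
-/

set_option autoImplicit false
set_option linter.style.haveILetI false
set_option linter.unusedSectionVars false

namespace CfsgLib.Glauberman

open Cfsg CfsgLib.Chars
open scoped ComplexConjugate IntermediateField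

universe u

section General

variable {H : Type*} [Group H] [Fintype H]

/-- Characters extending different irreducibles are orthogonal on each coset. -/
theorem coset_orth (N : Subgroup H) [N.Normal] [Fintype N] {χ ψ : H → ℂ}
    (hχ : IsIrrCharacter H χ) (hψ : IsIrrCharacter H ψ)
    (hχN : IsIrrCharacter N (fun n : N => χ n)) (hψN : IsIrrCharacter N (fun n : N => ψ n))
    (hne : (fun n : N => χ n) ≠ fun n : N => ψ n) (g : H) :
    ∑ n : N, χ ((n : H) * g) * conj (ψ ((n : H) * g)) = 0 := by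
  classical
  letI := Chars.irrFintype H
  set F : H → ℂ := fun g => ∑ n : N, χ ((n : H) * g) * conj (ψ ((n : H) * g)) with hF
  suffices hF0 : F = 0 from congrFun hF0 g
  have hc1 := isClassFunction_of_isCharacter (isCharacter_of_irr hχ)
  have hc2 := isClassFunction_of_isCharacter (isCharacter_of_irr hψ)
  have hshift : ∀ (f : H → ℂ) (n : N), ∑ x : H, f ((n : H) * x) = ∑ x : H, f x := fun f n =>
    Fintype.sum_equiv (Equiv.mulLeft (n : H)) _ _ fun _ => rfl
  have hFinv : ∀ (m : N) (g : H), F ((m : H) * g) = F g := fun m g => by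
    simp only [hF]
    exact Fintype.sum_equiv (Equiv.mulRight m) _ _ fun n => by simp [mul_assoc]
  have hFcl : IsClassFunction H F := by
    intro g h
    simp only [hF]
    refine (Fintype.sum_bijective (CharsMore.conjBy N h)
      ⟨fun a b e => Subtype.ext (by simpa using congrArg Subtype.val e),
        CharsMore.conjBy_surjective N h⟩ _ _ fun n => ?_).symm
    have e : ((CharsMore.conjBy N h n : N) : H) * (h * g * h⁻¹) = h * ((n : H) * g) * h⁻¹ := by
      simp [mul_assoc]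
    rw [e, hc1, hc2]
  refine eq_zero_of_inner_irr hFcl fun β => ?_
  by_cases hβ : β ∈ CharsMore.quotIrr N
  · have e : classInner F (β : H → ℂ) =
        (Nat.card N : ℂ) * classInner χ ((β : H → ℂ) * ψ) := by
      simp only [inner_def, hF, Finset.sum_mul, Pi.mul_apply, map_mul]
      rw [Finset.sum_comm, Finset.sum_congr rfl fun (n : N) _ => show
        ∑ x : H, χ ((n : H) * x) * conj (ψ ((n : H) * x)) * conj ((β : H → ℂ) x) =
          ∑ x : H, χ x * (conj ((β : H → ℂ) x) * conj (ψ x)) from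
        Fintype.sum_equiv (Equiv.mulLeft (n : H)) _ _ fun x => by
          rw [Equiv.coe_mulLeft, CharsMore.quotIrr_mul N hβ]; ring,
        Finset.sum_const, Finset.card_univ, ← Nat.card_eq_fintype_card, nsmul_eq_mul]
      ring
    rw [e, inner_irr_of_isIrr hχ (CharsMore.gallagher_irr N hψ hψN hβ), if_neg, mul_zero]
    intro h
    have h1 : (fun n : N => χ n) = (β : H → ℂ) 1 • fun n : N => ψ n := funext fun n => by
      rw [congrFun h n, Pi.smul_apply, Pi.mul_apply, smul_eq_mul, ← mul_one ((n : N) : H),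
        CharsMore.quotIrr_mul N hβ n 1]
    have h2 := inner_irr_of_isIrr hχN hψN
    rw [if_neg hne, h1, Chars.inner_smul_left, inner_irr_self (⟨_, hψN⟩ : IrrCharacter N),
      mul_one] at h2
    exact irr_degree_ne_zero β.2 h2
  · have h0 := CharApps.sum_coset_eq_zero N β (fun h => hβ ((CharsMore.mem_quotIrr N).2 h))
    have h1 : (Nat.card N : ℂ) * ∑ x : H, F x * conj ((β : H → ℂ) x) = 0 := by
      calc (Nat.card N : ℂ) * ∑ x : H, F x * conj ((β : H → ℂ) x)
          = ∑ n : N, ∑ x : H, F ((n : H) * x) * conj ((β : H → ℂ) ((n : H) * x)) := by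
            rw [Finset.sum_congr rfl fun n _ => hshift (fun x => F x * conj ((β : H → ℂ) x)) n,
              Finset.sum_const, Finset.card_univ, nsmul_eq_mul, Nat.card_eq_fintype_card]
        _ = ∑ x : H, F x * conj (∑ n : N, (β : H → ℂ) ((n : H) * x)) := by
            rw [Finset.sum_comm]
            simp only [hFinv, map_sum, Finset.mul_sum]
        _ = 0 := by simp [h0]
    rw [inner_def, (mul_eq_zero.1 h1).resolve_left (Chars.card_ne_zero N), mul_zero]

/-- Multiplicities on a central translate. -/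
theorem inner_shift {C : Type*} [Group C] [Fintype C] (ι : C →* H) {z : H}
    (hz : z ∈ Subgroup.center H) {φ : H → ℂ} (hφ : IsCharacter H φ) (β : IrrCharacter C) :
    IsIntegral ℤ (classInner (fun c => φ (ι c * z)) (β : C → ℂ)) ∧
      (classInner (fun c => φ (ι c * z)) (β : C → ℂ) ≠ 0 →
        classInner (fun c => φ (ι c)) (β : C → ℂ) ≠ 0) := by
  classical
  letI := Chars.irrFintype H
  have hφ' := classFun_eq_sum (isClassFunction_of_isCharacter hφ)
  choose m hm using fun η : IrrCharacter H => inner_irr_right_nat hφ η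
  choose d hd using fun η : IrrCharacter H => inner_irr_right_nat
    (isCharacter_comp ι (isCharacter_of_irr η.2)) β
  have hw : ∀ η : IrrCharacter H, ∃ w : ℂ, IsIntegral ℤ w ∧
      ∀ x, (η : H → ℂ) (x * z) = w * (η : H → ℂ) x := by
    intro η
    obtain ⟨w, -, hw⟩ := Blocks.exists_centralScalar η hz
    refine ⟨w, IsIntegral.of_pow (orderOf_pos z) ?_, fun x => by
      rw [Subgroup.mem_center_iff.mp hz x, hw]⟩
    have hpow : ∀ n : ℕ, (η : H → ℂ) (z ^ n) = w ^ n * (η : H → ℂ) 1 := by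
      intro n
      induction n with
      | zero => simp
      | succ n ih => rw [pow_succ', hw, ih, pow_succ]; ring
    have h1 := hpow (orderOf z)
    rw [pow_orderOf_eq_one] at h1
    rw [(mul_eq_right₀ (irr_degree_ne_zero η.2)).mp h1.symm]
    exact isIntegral_one
  choose w hwi hw using hw
  have hsh : classInner (fun c => φ (ι c * z)) (β : C → ℂ) =
      ∑ η : IrrCharacter H, ((m η * d η : ℕ) : ℂ) * w η := by
    rw [show (fun c => φ (ι c * z)) = ∑ η : IrrCharacter H,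
        ((m η : ℂ) * w η) • fun c => (η : H → ℂ) (ι c) by
      funext c
      rw [congrFun hφ' (ι c * z)]
      simp only [Finset.sum_apply, Pi.smul_apply, smul_eq_mul, hm, hw]
      exact Finset.sum_congr rfl fun η _ => by ring, inner_sum_left]
    refine Finset.sum_congr rfl fun η _ => ?_
    rw [Chars.inner_smul_left, hd, Nat.cast_mul]
    ring
  refine ⟨hsh ▸ IsIntegral.sum _ fun η _ => (isIntegral_natCast _).mul (hwi η), fun h0 h1 => h0 ?_⟩
  have hs1 : classInner (fun c => φ (ι c)) (β : C → ℂ) =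
      ((∑ η : IrrCharacter H, m η * d η : ℕ) : ℂ) := by
    rw [show (fun c => φ (ι c)) = ∑ η : IrrCharacter H,
        (m η : ℂ) • fun c => (η : H → ℂ) (ι c) by
      funext c
      rw [congrFun hφ' (ι c)]
      simp only [Finset.sum_apply, Pi.smul_apply, smul_eq_mul, hm], inner_sum_left, Nat.cast_sum]
    refine Finset.sum_congr rfl fun η _ => ?_
    rw [Chars.inner_smul_left, hd, Nat.cast_mul]
  rw [hs1, Nat.cast_eq_zero, Finset.sum_eq_zero_iff] at h1
  rw [hsh]
  exact Finset.sum_eq_zero fun η hη => by rw [h1 η hη, Nat.cast_zero, zero_mul]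

/-- Galois conjugation preserves the determinantal order. -/
theorem detOrder_galois {χ : H → ℂ} (hχ : IsIrrCharacter H χ) (σ : ℂ →+* ℂ) :
    detOrder (fun g => σ (χ g)) = detOrder χ := by
  have hirr := isIrrCharacter_ringHom σ hχ
  obtain ⟨n, ρ, hρ, rfl⟩ := hχ
  haveI := hρ
  haveI : (ringHomRep σ ρ).IsIrreducible :=
    (isIrreducible_iff_inner_self _).mpr (by
      rw [character_ringHomRep]; exact inner_irr_self ⟨_, hirr⟩)
  rw [detOrder, detOrder, CharsMore.detChar_eq ρ rfl,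
    CharsMore.detChar_eq (ringHomRep σ ρ) (character_ringHomRep σ ρ)]
  have h : CharsMore.linFun (CharsMore.detHom (ringHomRep σ ρ)) =
      MonoidHom.compLeft σ.toMonoidHom H (CharsMore.linFun (CharsMore.detHom ρ)) := funext fun g => by
    show (CharsMore.detHom (ringHomRep σ ρ) g : ℂ) = σ (CharsMore.detHom ρ g : ℂ)
    rw [CharsMore.coe_detHom, CharsMore.coe_detHom]
    show LinearMap.det (Matrix.toLin' ((LinearMap.toMatrix' (ρ g)).map σ)) = _
    rw [LinearMap.det_toLin', ← LinearMap.det_toMatrix' (f := ρ g), RingHom.map_det]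
    rfl
  rw [h]
  exact orderOf_injective _ (fun a b e => funext fun g => σ.injective (congrFun e g)) _

theorem detOrder_dvd_card {χ : H → ℂ} (hχ : IsIrrCharacter H χ) :
    detOrder χ ∣ Nat.card H := by
  obtain ⟨n, ρ, hρ, rfl⟩ := hχ
  haveI := hρ
  rw [detOrder, CharsMore.detChar_eq ρ rfl, CharsMore.orderOf_linFun]
  exact orderOf_dvd_of_pow_eq_one (MonoidHom.ext fun g => by
    rw [MonoidHom.pow_apply, ← map_pow, pow_card_eq_one', map_one, MonoidHom.one_apply])

end General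

section Cyclic

variable {Γ : Type u} [Group Γ] [Fintype Γ] {G C : Subgroup Γ} [G.Normal] [Fintype G] [Fintype C]
  {s : Γ}

/-- The standing hypotheses. -/
structure CyclicSetup (G C : Subgroup Γ) (s : Γ) : Prop where
  cop : (Nat.card G).Coprime (orderOf s)
  top : G ⊔ Subgroup.zpowers s = ⊤
  cen : C = G ⊓ Subgroup.centralizer (Subgroup.zpowers s : Set Γ)

namespace CyclicSetup

theorem index_eq (h : CyclicSetup G C s) : G.index = orderOf s := by
  rw [← Subgroup.relIndex_top_right, ← h.top, sup_comm, Subgroup.relIndex_sup_right, ← Nat.card_zpowers,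
    ← Subgroup.relIndex_bot_left, ← Subgroup.inf_relIndex_right,
    Coprime.inf_eq_bot_of_coprime (by rw [Nat.card_zpowers]; exact h.cop)]

theorem card_eq (h : CyclicSetup G C s) : Nat.card Γ = Nat.card G * orderOf s := by
  rw [← h.index_eq, Subgroup.card_mul_index]

theorem mem_left (h : CyclicSetup G C s) (c : C) : (c : Γ) ∈ G := by
  have := c.2
  simp only [h.cen] at this
  exact this.1

theorem comm (h : CyclicSetup G C s) (c : C) : Commute (c : Γ) s := by
  have := c.2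
  simp only [h.cen] at this
  exact (Subgroup.mem_centralizer_iff.mp this.2 s (Subgroup.mem_zpowers s)).symm

theorem mem_of_comm (h : CyclicSetup G C s) {u : Γ} (hu : u ∈ G) (hc : Commute u s) : u ∈ C := by
  rw [h.cen]
  refine ⟨hu, Subgroup.mem_centralizer_iff.mpr ?_⟩
  rintro _ ⟨i, rfl⟩
  exact ((hc.zpow_right i).symm).eq

theorem pow_card_left {u : Γ} (hu : u ∈ G) {e : ℕ} (he : e ≡ 0 [MOD Nat.card G]) : u ^ e = 1 :=
  congrArg Subtype.val (pow_eq_one_iff_modEq.mpr
    (Nat.ModEq.of_dvd (orderOf_dvd_natCard (⟨u, hu⟩ : G)) he))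

end CyclicSetup

theorem sum_coset_gen (hcop : (Nat.card G).Coprime (orderOf s))
    (hC : ∀ u, u ∈ C ↔ u ∈ G ∧ Commute u s) {F : Γ → ℂ} (hF : IsClassFunction Γ F) :
    (Nat.card C : ℂ) * ∑ g : G, F ((g : Γ) * s) = (Nat.card G : ℂ) * ∑ c : C, F ((c : Γ) * s) := by
  classical
  have hmemC : ∀ c : C, (c : Γ) ∈ G := fun c => ((hC c).mp c.2).1
  have hcomC : ∀ c : C, Commute (c : Γ) s := fun c => ((hC c).mp c.2).2
  let N : G × C → G := fun p => ⟨(p.1 : Γ) * (p.2 * s) * (p.1 : Γ)⁻¹ * s⁻¹, by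
    rw [show (p.1 : Γ) * ((p.2 : Γ) * s) * (p.1 : Γ)⁻¹ * s⁻¹ =
      p.1 * p.2 * (s * (p.1 : Γ)⁻¹ * s⁻¹) by group]
    exact mul_mem (mul_mem p.1.2 (hmemC _))
      (Subgroup.Normal.conj_mem inferInstance _ (inv_mem p.1.2) s)⟩
  have hN : ∀ p, (N p : Γ) * s = (p.1 : Γ) * (p.2 * s) * (p.1 : Γ)⁻¹ := fun p =>
    inv_mul_cancel_right _ _
  obtain ⟨e, he1, he0⟩ := Nat.chineseRemainder hcop.symm 1 0
  have hpow : ∀ c : C, ((c : Γ) * s) ^ e = s := fun c => by
    rw [(hcomC c).mul_pow, CyclicSetup.pow_card_left (hmemC c) he0, one_mul]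
    conv_rhs => rw [← pow_one s]
    exact pow_eq_pow_iff_modEq.mpr he1
  have hfib : ∀ p q, N p = N q → Commute ((q.1 : Γ)⁻¹ * p.1) s := by
    intro p q hpq
    have h1 : (p.1 : Γ) * (p.2 * s) * (p.1 : Γ)⁻¹ = (q.1 : Γ) * (q.2 * s) * (q.1 : Γ)⁻¹ := by
      rw [← hN, ← hN, hpq]
    have h2 := congrArg (fun x => x ^ e) h1
    simp only [conj_pow, hpow] at h2
    show (q.1 : Γ)⁻¹ * p.1 * s = s * ((q.1 : Γ)⁻¹ * p.1)
    calc (q.1 : Γ)⁻¹ * p.1 * s = (q.1 : Γ)⁻¹ * ((p.1 : Γ) * s * (p.1 : Γ)⁻¹) * p.1 := by group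
      _ = _ := by rw [h2]; group
  have hcard : ∀ g ∈ Finset.univ.image N, (Finset.univ.filter fun p => N p = g).card = Nat.card C := by
    intro g hg
    obtain ⟨q, -, rfl⟩ := Finset.mem_image.mp hg
    rw [Nat.card_eq_fintype_card, ← Finset.card_univ]
    symm
    refine Finset.card_bij (fun (u : C) _ => ((q.1 * ⟨u, hmemC u⟩ : G), u⁻¹ * q.2 * u)) ?_ ?_ ?_
    · intro u _
      refine Finset.mem_filter.mpr ⟨Finset.mem_univ _, Subtype.ext ?_⟩
      show (q.1 : Γ) * u * ((u : Γ)⁻¹ * q.2 * u * s) * ((q.1 : Γ) * u)⁻¹ * s⁻¹ = _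
      rw [mul_assoc ((u : Γ)⁻¹ * q.2) (u : Γ) s, (hcomC u).eq]
      show _ = (q.1 : Γ) * ((q.2 : Γ) * s) * (q.1 : Γ)⁻¹ * s⁻¹
      group
    · intro u _ v _ huv
      exact Subtype.ext (congrArg (fun x : G => (x : Γ)) (mul_left_cancel (congrArg Prod.fst huv)) : _)
    · intro p hp
      have hp' := (Finset.mem_filter.mp hp).2
      have hu : (q.1 : Γ)⁻¹ * p.1 ∈ C :=
        (hC _).mpr ⟨mul_mem (inv_mem q.1.2) p.1.2, hfib p q hp'⟩
      refine ⟨⟨_, hu⟩, Finset.mem_univ _, Prod.ext (Subtype.ext (mul_inv_cancel_left _ _))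
        (Subtype.ext ?_)⟩
      show ((q.1 : Γ)⁻¹ * p.1)⁻¹ * q.2 * ((q.1 : Γ)⁻¹ * p.1) = p.2
      have h1 : (q.1 : Γ) * (q.2 * s) * (q.1 : Γ)⁻¹ = (p.1 : Γ) * (p.2 * s) * (p.1 : Γ)⁻¹ := by
        rw [← hN, ← hN, hp']
      refine mul_right_cancel (b := s) ?_
      rw [mul_assoc _ _ s, (hfib p q hp').eq]
      calc ((q.1 : Γ)⁻¹ * p.1)⁻¹ * q.2 * (s * ((q.1 : Γ)⁻¹ * p.1))
          = (p.1 : Γ)⁻¹ * ((q.1 : Γ) * (q.2 * s) * (q.1 : Γ)⁻¹) * p.1 := by group
        _ = _ := by rw [h1]; group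
  have htot : (Finset.univ.image N).card = Fintype.card G := by
    have h1 := Finset.card_eq_sum_card_image N (Finset.univ : Finset (G × C))
    rw [Finset.sum_congr rfl hcard, Finset.sum_const, smul_eq_mul, Finset.card_univ,
      Fintype.card_prod, Nat.card_eq_fintype_card] at h1
    exact Nat.eq_of_mul_eq_mul_right Fintype.card_pos h1.symm
  have himg : Finset.univ.image N = Finset.univ := Finset.eq_univ_of_card _ htot
  have h2 : ∑ p : G × C, F ((N p : Γ) * s) = (Nat.card C : ℂ) * ∑ g : G, F ((g : Γ) * s) := by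
    rw [← Finset.sum_fiberwise_of_maps_to (g := N) (t := Finset.univ) (fun p _ => Finset.mem_univ _),
      Finset.mul_sum]
    refine Finset.sum_congr rfl fun g _ => ?_
    rw [Finset.sum_congr rfl fun p hp => by rw [(Finset.mem_filter.mp hp).2], Finset.sum_const,
      hcard g (himg ▸ Finset.mem_univ g), nsmul_eq_mul]
  rw [← h2, Fintype.sum_prod_type, Finset.sum_congr rfl fun k _ => Finset.sum_congr rfl
    fun c _ => show F ((N (k, c) : Γ) * s) = F ((c : Γ) * s) by rw [hN]; exact hF _ _,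
    Finset.sum_const, Finset.card_univ, nsmul_eq_mul, Nat.card_eq_fintype_card]

namespace CyclicSetup

theorem sum_coset (h : CyclicSetup G C s) {F : Γ → ℂ} (hF : IsClassFunction Γ F) :
    (Nat.card C : ℂ) * ∑ g : G, F ((g : Γ) * s) = (Nat.card G : ℂ) * ∑ c : C, F ((c : Γ) * s) :=
  sum_coset_gen h.cop (fun u => ⟨fun hu => ⟨h.mem_left ⟨u, hu⟩, h.comm ⟨u, hu⟩⟩,
    fun hu => h.mem_of_comm hu.1 hu.2⟩) hF

/-- `χh` is the canonical extension of an irreducible character of `G`. -/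
def IsCanon (G : Subgroup Γ) (s : Γ) (χ : G → ℂ) (χh : Γ → ℂ) : Prop :=
  IsIrrCharacter Γ χh ∧ IsIrrCharacter G χ ∧ (∀ g : G, χh g = χ g) ∧
    (detOrder χh).Coprime (orderOf s)

theorem canon_unique (h : CyclicSetup G C s) {χ : G → ℂ} {χh χh' : Γ → ℂ}
    (h1 : IsCanon G s χ χh) (h2 : IsCanon G s χ χh') : χh' = χh := by
  obtain ⟨hχh, hχ, hr, hd⟩ := h1
  obtain ⟨hχh', -, hr', hd'⟩ := h2
  obtain ⟨d, hdeg⟩ := irr_degree_nat hχ
  have hinv : ∀ (g : Γ) (n : G),
      χ ⟨g * n * g⁻¹, Subgroup.Normal.conj_mem inferInstance (n : Γ) n.2 g⟩ = χ n := fun g n => by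
    rw [← hr, ← hr]
    exact isClassFunction_of_isCharacter (isCharacter_of_irr hχh) _ _
  obtain ⟨ψ, -, huniq⟩ := Cfsg.Agent.S0867.result G χ hχ hinv d hdeg.2 (by
    rw [h.index_eq]
    exact Nat.Coprime.mul_right (h.cop.coprime_dvd_left (detOrder_dvd_card hχ)).symm
      (h.cop.coprime_dvd_left (by
        obtain ⟨d', -, hd', hdvd⟩ := irr_degree_dvd_card hχ
        exact (Nat.cast_injective (hdeg.2.symm.trans hd') : d = d') ▸ hdvd)).symm)
  rw [huniq χh hχh hr (by rw [h.index_eq]; exact hd.symm),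
    huniq χh' hχh' hr' (by rw [h.index_eq]; exact hd'.symm)]

theorem galois_canon (h : CyclicSetup G C s) {χ : G → ℂ} {χh : Γ → ℂ} (hc : IsCanon G s χ χh)
    {σ : ℂ ≃+* ℂ} {k : ℕ} (hσ : ∀ z : ℂ, z ^ Nat.card Γ = 1 → σ z = z ^ k)
    (hk : k ≡ 1 [MOD Nat.card G]) (y : Γ) : σ (χh y) = χh y := by
  obtain ⟨hχh, hχ, hr, hd⟩ := hc
  have hfix : ∀ g : G, σ (χh g) = χ g := fun g => by
    rw [hr, CharApps.galois_apply σ hσ (isCharacter_of_irr hχ) g
      (orderOf_dvd_iff_pow_eq_one.mp ((orderOf_dvd_natCard g).trans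
        (Subgroup.card_subgroup_dvd_card G))),
      (pow_eq_pow_iff_modEq.mpr (Nat.ModEq.of_dvd (orderOf_dvd_natCard g) hk) : g ^ k = g ^ 1),
      pow_one]
  have h2 : IsCanon G s χ (fun g => σ.toRingHom (χh g)) :=
    ⟨isIrrCharacter_ringHom σ.toRingHom hχh, hχ, hfix, by rw [detOrder_galois hχh]; exact hd⟩
  exact congrFun (h.canon_unique ⟨hχh, hχ, hr, hd⟩ h2) y

theorem gen_indep (h : CyclicSetup G C s) {χ : G → ℂ} {χh : Γ → ℂ} (hc : IsCanon G s χ χh)
    (c : C) {k : ℕ} (hk : k.Coprime (orderOf s)) :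
    χh ((c : Γ) * s ^ k) = χh ((c : Γ) * s) := by
  obtain ⟨k', h1, h2⟩ := Nat.chineseRemainder h.cop 1 k
  have hk' : k'.Coprime (Nat.card Γ) := by
    rw [h.card_eq]
    refine Nat.Coprime.mul_right ?_ ?_
    · rw [Nat.coprime_iff_gcd_eq_one, h1.gcd_eq, Nat.gcd_one_left]
    · rw [Nat.coprime_iff_gcd_eq_one, h2.gcd_eq]; exact hk
  haveI : NeZero (Nat.card Γ) := ⟨Nat.card_pos.ne'⟩
  obtain ⟨σ, hσ⟩ := CharApps.exists_galois_pow (Nat.card Γ) hk'
  have h3 : ((c : Γ) * s) ^ k' = (c : Γ) * s ^ k := by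
    rw [(h.comm c).mul_pow, pow_eq_pow_iff_modEq.mpr h2]
    congr 1
    have : (⟨(c : Γ), h.mem_left c⟩ : G) ^ k' = (⟨(c : Γ), h.mem_left c⟩ : G) ^ 1 :=
      pow_eq_pow_iff_modEq.mpr (Nat.ModEq.of_dvd (orderOf_dvd_natCard _) h1)
    simpa using congrArg Subtype.val this
  rw [← h3, ← CharApps.galois_apply σ hσ (isCharacter_of_irr hc.1) _ pow_card_eq_one',
    h.galois_canon hc hσ h1]

theorem isClassFunction_shift (h : CyclicSetup G C s) {F : Γ → ℂ} (hF : IsClassFunction Γ F) :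
    IsClassFunction C fun c : C => F ((c : Γ) * s) := fun c d => by
  show F (((d : Γ) * c * (d : Γ)⁻¹) * s) = F ((c : Γ) * s)
  rw [← hF ((c : Γ) * s) (d : Γ)]
  congr 1
  simp only [mul_assoc, (h.comm d).inv_left.eq]

theorem inner_shift_eq (h : CyclicSetup G C s) {χ χ' : G → ℂ} {χh χh' : Γ → ℂ}
    (hc : IsCanon G s χ χh) (hc' : IsCanon G s χ' χh') [Decidable (χ = χ')] :
    classInner (fun c : C => χh ((c : Γ) * s)) (fun c : C => χh' ((c : Γ) * s)) =
      if χ = χ' then 1 else 0 := by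
  obtain ⟨hχh, hχ, hr, hd⟩ := hc
  obtain ⟨hχh', hχ', hr', -⟩ := id hc'
  have hsum : (Nat.card C : ℂ)⁻¹ * ∑ c : C, χh ((c : Γ) * s) * conj (χh' ((c : Γ) * s)) =
      (Nat.card G : ℂ)⁻¹ * ∑ g : G, χh ((g : Γ) * s) * conj (χh' ((g : Γ) * s)) := by
    have := h.sum_coset (F := fun y => χh y * conj (χh' y)) fun g x => by
      simp only [isClassFunction_of_isCharacter (isCharacter_of_irr hχh) g x,
        isClassFunction_of_isCharacter (isCharacter_of_irr hχh') g x]
    rw [inv_mul_eq_div, inv_mul_eq_div, div_eq_div_iff (Chars.card_ne_zero C) (Chars.card_ne_zero G)]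
    linear_combination -this
  rw [inner_def, hsum]
  have hres : (fun g : G => χh g) = χ := funext hr
  have hres' : (fun g : G => χh' g) = χ' := funext hr'
  split_ifs with he
  · subst he
    rw [h.canon_unique ⟨hχh, hχ, hr, hd⟩ hc']
    exact CharsMore.coset_norm_avg G hχh (hres ▸ hχ) s
  · rw [coset_orth G hχh hχh' (hres ▸ hχ) (hres' ▸ hχ') (by rw [hres, hres']; exact he) s, mul_zero]

theorem coeff_int (h : CyclicSetup G C s) {χ : G → ℂ} {χh : Γ → ℂ} (hc : IsCanon G s χ χh)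
    (β : IrrCharacter C) :
    ∃ m : ℤ, classInner (fun c : C => χh ((c : Γ) * s)) (β : C → ℂ) = m ∧
      (m ≠ 0 → classInner (fun c : C => χ ⟨c, h.mem_left c⟩) (β : C → ℂ) ≠ 0) := by
  classical
  haveI : NeZero (Nat.card Γ) := ⟨Nat.card_pos.ne'⟩
  have hχc := isCharacter_of_irr hc.1
  have hmem : classInner (fun c : C => χh ((c : Γ) * s)) (β : C → ℂ) ∈
      ℚ⟮CharApps.rootN (Nat.card Γ)⟯ := by
    rw [inner_def]
    refine mul_mem (inv_mem (natCast_mem _ _)) (sum_mem fun c _ => mul_mem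
      (CharApps.char_mem_cyclo hχc _ pow_card_eq_one') ?_)
    rw [← irr_inv β c]
    exact CharApps.char_mem_cyclo (isCharacter_of_irr β.2) _ (orderOf_dvd_iff_pow_eq_one.mp
      ((orderOf_dvd_natCard _).trans (Subgroup.card_subgroup_dvd_card C)))
  -- the abstract product `C × ⟨s⟩`
  let μ : C × Subgroup.zpowers s →* Γ :=
    C.subtype.noncommCoprod (Subgroup.zpowers s).subtype (fun c x => by
      obtain ⟨_, i, rfl⟩ := x
      exact (h.comm c).zpow_right i)
  let z : C × Subgroup.zpowers s := (1, ⟨s, Subgroup.mem_zpowers s⟩)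
  haveI := Fintype.ofFinite (Subgroup.zpowers s)
  have hz : z ∈ Subgroup.center (C × Subgroup.zpowers s) :=
    Subgroup.mem_center_iff.mpr fun x => Prod.ext (by simp [z]) (mul_comm' _ _)
  have hφ : IsCharacter (C × Subgroup.zpowers s) fun p => χh (μ p) := isCharacter_comp μ hχc
  obtain ⟨hint, hne⟩ := inner_shift (MonoidHom.inl C (Subgroup.zpowers s)) hz hφ β
  have he1 : (fun c : C => χh (μ (MonoidHom.inl C (Subgroup.zpowers s) c * z))) =
      fun c : C => χh ((c : Γ) * s) := funext fun c => by simp [μ, z]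
  have he2 : (fun c : C => χh (μ (MonoidHom.inl C (Subgroup.zpowers s) c))) =
      fun c : C => χ ⟨c, h.mem_left c⟩ := funext fun c => by
    rw [← hc.2.2.1 ⟨c, h.mem_left c⟩]; simp [μ]
  rw [he1] at hint hne
  rw [he2] at hne
  obtain ⟨m, hm⟩ := CharApps.exists_int_of_rat hint (CharApps.exists_rat_of_fixed hmem
    fun k σ hk hσ => by
      have hk1 : k.Coprime (Nat.card C) := hk.coprime_dvd_right (Subgroup.card_subgroup_dvd_card C)
      have hk2 : k.Coprime (orderOf s) := hk.coprime_dvd_right (orderOf_dvd_natCard s)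
      rw [inner_def, map_mul, map_inv₀, map_natCast, map_sum]
      congr 1
      refine Fintype.sum_equiv (powCoprime hk1.symm) _ _ fun c => ?_
      rw [powCoprime_apply, map_mul, ← irr_inv β, ← irr_inv β,
        CharApps.galois_apply σ hσ hχc _ pow_card_eq_one',
        CharApps.galois_apply σ hσ (isCharacter_of_irr β.2) _ (orderOf_dvd_iff_pow_eq_one.mp
          ((orderOf_dvd_natCard _).trans (Subgroup.card_subgroup_dvd_card C))),
        (h.comm c).mul_pow, inv_pow, ← SubmonoidClass.coe_pow, h.gen_indep hc _ hk2])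
  exact ⟨m, hm.symm, fun hm0 => hne (by rw [← hm]; exact_mod_cast hm0)⟩

theorem exists_beta (h : CyclicSetup G C s) {χ : G → ℂ} {χh : Γ → ℂ} (hc : IsCanon G s χ χh) :
    ∃ (β : IrrCharacter C) (ε : ℤ), (ε = 1 ∨ ε = -1) ∧
      ∀ c : C, χh ((c : Γ) * s) = (ε : ℂ) * (β : C → ℂ) c := by
  classical
  haveI := irrFintype C
  choose m hm _ using fun β => h.coeff_int hc β
  have hcl := h.isClassFunction_shift (isClassFunction_of_isCharacter (isCharacter_of_irr hc.1))
  have hone : ∑ β : IrrCharacter C, m β * m β = 1 := by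
    have h1 := inner_eq_sum hcl (fun c : C => χh ((c : Γ) * s))
    rw [h.inner_shift_eq hc hc, if_pos rfl] at h1
    simp only [hm, map_intCast] at h1
    exact_mod_cast h1.symm
  obtain ⟨β₀, -, hβ₀⟩ := Finset.exists_ne_zero_of_sum_ne_zero (hone.symm ▸ one_ne_zero)
  have h0 : ∀ β, β ≠ β₀ → m β = 0 := by
    intro β hβ
    by_contra hne
    have h1 : ∑ x ∈ ({β, β₀} : Finset _), m x * m x ≤ 1 :=
      hone ▸ Finset.sum_le_sum_of_subset_of_nonneg (Finset.subset_univ _)
        fun x _ _ => mul_self_nonneg _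
    rw [Finset.sum_pair hβ] at h1
    have h2 : m β * m β > 0 := mul_self_pos.mpr hne
    have h3 : m β₀ * m β₀ > 0 := mul_self_pos.mpr (left_ne_zero_of_mul hβ₀)
    omega
  rw [Finset.sum_eq_single β₀ (fun β _ hβ => by rw [h0 β hβ, mul_zero]) (by simp)] at hone
  refine ⟨β₀, m β₀, (Int.mul_eq_one_iff_eq_one_or_neg_one.mp hone).imp And.left And.left, fun c => ?_⟩
  have := congrFun (classFun_eq_sum hcl) c
  rw [this, Finset.sum_apply, Finset.sum_eq_single β₀ (fun β _ hβ => by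
    rw [Pi.smul_apply, hm, h0 β hβ, Int.cast_zero, zero_smul]) (by simp), Pi.smul_apply, hm,
    smul_eq_mul]

theorem constituent (h : CyclicSetup G C s) {χ : G → ℂ} {χh : Γ → ℂ} (hc : IsCanon G s χ χh)
    {β : IrrCharacter C} {ε : ℤ} (hε : ε ≠ 0)
    (hβ : ∀ c : C, χh ((c : Γ) * s) = (ε : ℂ) * (β : C → ℂ) c) :
    classInner (fun c : C => χ ⟨c, h.mem_left c⟩) (β : C → ℂ) ≠ 0 := by
  obtain ⟨m, hm, hne⟩ := h.coeff_int hc β
  refine hne fun h0 => hε ?_
  rw [show (fun c : C => χh ((c : Γ) * s)) = (ε : ℂ) • (β : C → ℂ) from funext hβ,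
    Chars.inner_smul_left, inner_irr_self, mul_one, h0] at hm
  exact_mod_cast hm

theorem exists_canon (h : CyclicSetup G C s) {χ : IrrCharacter G}
    (hinv : InvBy (Subgroup.zpowers s) G (χ : G → ℂ)) :
    ∃ χh : IrrCharacter Γ, IsCanon G s (χ : G → ℂ) χh := by
  obtain ⟨d, -, hd, hdvd⟩ := irr_degree_dvd_card χ.2
  have hΓinv : ∀ (x : Γ) (n : G), (χ : G → ℂ)
      ⟨x * n * x⁻¹, Subgroup.Normal.conj_mem inferInstance (n : Γ) n.2 x⟩ = (χ : G → ℂ) n := by
    intro x n
    obtain ⟨y, hy, t, ht, rfl⟩ := Subgroup.mem_sup_of_normal_left.mp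
      (show x ∈ G ⊔ Subgroup.zpowers s by rw [h.top]; trivial)
    have hm : t * (n : Γ) * t⁻¹ ∈ G := Subgroup.Normal.conj_mem inferInstance _ n.2 t
    rw [show (⟨y * t * n * (y * t)⁻¹, Subgroup.Normal.conj_mem inferInstance (n : Γ) n.2 (y * t)⟩ : G)
      = (⟨y, hy⟩ : G) * ⟨_, hm⟩ * (⟨y, hy⟩ : G)⁻¹ from Subtype.ext (by simp [mul_assoc]),
      isClassFunction_irr χ, hinv t ht n ⟨_, hm⟩ rfl]
  have hcop : (detOrder (χ : G → ℂ)).Coprime (orderOf s) :=
    h.cop.coprime_dvd_left (detOrder_dvd_card χ.2)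
  obtain ⟨χh, ⟨h1, h2, h3⟩, -⟩ := Cfsg.Agent.S0867.result G (χ : G → ℂ) χ.2 hΓinv d hd (by
    rw [h.index_eq]
    exact Nat.Coprime.mul_right hcop.symm (h.cop.coprime_dvd_left hdvd).symm)
  exact ⟨⟨χh, h1⟩, h1, χ.2, h2, h3 ▸ hcop⟩

theorem surj_beta (h : CyclicSetup G C s) (β : IrrCharacter C) :
    ∃ (χ : IrrCharacter G) (χh : IrrCharacter Γ) (ε : ℤ),
      InvBy (Subgroup.zpowers s) G (χ : G → ℂ) ∧ IsCanon G s (χ : G → ℂ) χh ∧
      (ε = 1 ∨ ε = -1) ∧ ∀ c : C, (χh : Γ → ℂ) ((c : Γ) * s) = (ε : ℂ) * (β : C → ℂ) c := by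
  classical
  let X := {χ : IrrCharacter G // InvBy (Subgroup.zpowers s) G (χ : G → ℂ)}
  choose χh hχh using fun χ : X => h.exists_canon χ.2
  choose f ε hε hf using fun χ : X => h.exists_beta (hχh χ)
  have hinj : Function.Injective f := by
    intro χ χ' e
    by_contra hne
    have h1 := h.inner_shift_eq (hχh χ) (hχh χ')
    rw [if_neg fun e' => hne (Subtype.ext (Subtype.ext e')),
      show (fun c : C => (χh χ : Γ → ℂ) ((c : Γ) * s)) = (ε χ : ℂ) • (f χ : C → ℂ) from funext (hf χ),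
      show (fun c : C => (χh χ' : Γ → ℂ) ((c : Γ) * s)) = (ε χ' : ℂ) • (f χ' : C → ℂ) from
        funext (hf χ'), e, Chars.inner_smul_left, Chars.inner_smul_right, inner_irr_self, mul_one,
      map_intCast] at h1
    rcases hε χ with e1 | e1 <;> rcases hε χ' with e2 | e2 <;> rw [e1, e2] at h1 <;> norm_num at h1
  have hcard : Nat.card X = Nat.card (IrrCharacter C) := by
    rw [card_inv_irr (fun x _ => Subgroup.normalizer_eq_top (H := G) ▸ Subgroup.mem_top x)
      (by rw [Nat.card_zpowers]; exact h.cop) (Group.isSolvable_of_comm mul_comm')]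
    rw [h.cen]
  obtain ⟨χ, rfl⟩ := ((Nat.bijective_iff_injective_and_card f).mpr ⟨hinj, hcard⟩).2 β
  exact ⟨χ.1, χh χ, ε χ, χ.2, hχh χ, hε χ, hf χ⟩

theorem eval_generator (h : CyclicSetup G C s) {χ : G → ℂ} {χh : Γ → ℂ} (hc : IsCanon G s χ χh)
    (c : C) {x : Γ} (hx : Subgroup.zpowers x = Subgroup.zpowers s) :
    χh ((c : Γ) * x) = χh ((c : Γ) * s) := by
  have hmem : x ∈ Subgroup.zpowers s := hx ▸ Subgroup.mem_zpowers x
  obtain ⟨k, rfl⟩ := Submonoid.mem_powers_iff _ _ |>.mp ((mem_powers_iff_mem_zpowers).mpr hmem)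
  refine h.gen_indep hc c ?_
  have h1 : orderOf (s ^ k) = orderOf s := by rw [← Nat.card_zpowers, hx, Nat.card_zpowers]
  rw [orderOf_pow, Nat.div_eq_self] at h1
  rcases h1 with h1 | h1
  · exact absurd h1 (orderOf_pos s).ne'
  · exact Nat.Coprime.symm h1

theorem of_eq {S : Subgroup Γ} (hcop : (Nat.card G).Coprime (Nat.card S)) (htop : G ⊔ S = ⊤)
    (hcyc : IsCyclic S) (hC : C = G ⊓ Subgroup.centralizer (S : Set Γ)) :
    ∃ s : Γ, Subgroup.zpowers s = S ∧ CyclicSetup G C s := by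
  obtain ⟨⟨g, hg⟩, hgen⟩ := hcyc.exists_generator
  have he : Subgroup.zpowers g = S := le_antisymm (Subgroup.zpowers_le.mpr hg) fun x hx => by
    obtain ⟨i, hi⟩ := hgen ⟨x, hx⟩
    exact ⟨i, congrArg Subtype.val hi⟩
  exact ⟨g, he, ⟨by rwa [← Nat.card_zpowers, he], by rwa [he], by rwa [he]⟩⟩

end CyclicSetup

end Cyclic

end CfsgLib.Glauberman
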