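import Cfsg.Agent.Lib.Glauberman.Cyclic

/-!
# The cyclic correspondence when all nontrivial operators have the same centraliser
-/

set_option autoImplicit false
set_option linter.style.haveILetI false
set_option linter.unusedSectionVars false

namespace CfsgLib.Glauberman

open Cfsg CfsgLib.Chars
open scoped ComplexConjugate

universe u

/-- The integer inequality behind the signs: residues on `[0, n)` with few large squares. -/
theorem residues_one {ι : Type*} [Fintype ι] {n : ℤ} (hn : 2 ≤ n) (r : ι → ℤ)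
    (h0 : ∀ i, 0 ≤ r i ∧ r i < n) (hne : ∃ i, r i ≠ 0)
    (hle : n * ∑ i, r i ≤ ∑ i, r i * r i + (n - 1)) :
    ∃ i₀, (r i₀ = 1 ∨ r i₀ = n - 1) ∧ ∀ i, i ≠ i₀ → r i = 0 := by
  classical
  obtain ⟨i₀, hi₀⟩ := hne
  have hterm : ∀ i, 0 ≤ r i * (n - r i) ∧ (r i ≠ 0 → n - 1 ≤ r i * (n - r i)) := fun i =>
    ⟨mul_nonneg (h0 i).1 (by linarith [(h0 i).2]), fun h => by
      have h1 : 1 ≤ r i := by
        have := (h0 i).1
        omega
      have h2 : r i ≤ n - 1 := by
        have := (h0 i).2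
        omega
      nlinarith [mul_nonneg (by linarith : (0 : ℤ) ≤ r i - 1) (by linarith : (0 : ℤ) ≤ n - 1 - r i)]⟩
  have hsum : ∑ i, r i * (n - r i) ≤ n - 1 := by
    simp only [mul_sub, Finset.sum_sub_distrib, ← Finset.sum_mul]
    linarith
  rw [← Finset.add_sum_erase _ _ (Finset.mem_univ i₀)] at hsum
  have hrest : ∑ i ∈ Finset.univ.erase i₀, r i * (n - r i) = 0 := by
    have h1 := (hterm i₀).2 hi₀
    have h2 : 0 ≤ ∑ i ∈ Finset.univ.erase i₀, r i * (n - r i) :=
      Finset.sum_nonneg fun i _ => (hterm i).1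
    linarith
  refine ⟨i₀, ?_, fun i hi => ?_⟩
  · rw [hrest, add_zero] at hsum
    have h1 := (h0 i₀).2
    have h2 := (h0 i₀).1
    have h3 : (r i₀ - 1) * (n - 1 - r i₀) ≤ 0 := by nlinarith
    by_contra hc
    push Not at hc
    obtain ⟨hc1, hc2⟩ := hc
    have : 0 < (r i₀ - 1) * (n - 1 - r i₀) := mul_pos (by omega) (by omega)
    linarith
  · by_contra hne
    have h1 := (Finset.sum_eq_zero_iff_of_nonneg fun i _ => (hterm i).1).mp hrest i
      (Finset.mem_erase.mpr ⟨hi, Finset.mem_univ i⟩)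
    have := (hterm i).2 hne
    omega

/-- Functions on an abelian group with natural coefficients and total norm one off the identity. -/
theorem exists_sign_of_norm_one {S : Type u} [Group S] [Fintype S] (hS : ∀ a b : S, a * b = b * a)
    (hn : 2 ≤ Nat.card S) {ι : Type*} [Fintype ι] [DecidableEq ι] (F : ι → S → ℂ)
    (k : ι → IrrCharacter S → ℕ) (hk : ∀ i (l : IrrCharacter S), classInner (F i) (l : S → ℂ) = k i l)
    (hnorm : ∀ x : S, x ≠ 1 → ∑ i, F i x * conj (F i x) = 1) :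
    ∃ (i₀ : ι) (ε : ℤ) (l₀ : IrrCharacter S) (a : ι → ℕ), (ε = 1 ∨ ε = -1) ∧
      (∀ i, F i 1 = (Nat.card S : ℂ) * a i + if i = i₀ then (ε : ℂ) else 0) ∧
      ∀ i, ∀ x : S, x ≠ 1 → F i x = if i = i₀ then (ε : ℂ) * (l₀ : S → ℂ) x else 0 := by
  classical
  letI := irrFintype S
  have hcl : ∀ i, IsClassFunction S (F i) := fun i g h => by rw [hS h g, mul_inv_cancel_right]
  have hl1 : ∀ l : IrrCharacter S, (l : S → ℂ) 1 = 1 := fun l => irr_abelian_degree hS l.2
  have hcolS : ∀ x : S, ∑ l : IrrCharacter S, (l : S → ℂ) x = if x = 1 then (Nat.card S : ℂ) else 0 :=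
    fun x => by
    rw [← sum_degree_mul x]
    exact Finset.sum_congr rfl fun l _ => by rw [hl1, one_mul]
  have hcard : (Fintype.card (IrrCharacter S) : ℂ) = (Nat.card S : ℂ) := by
    have h1 := hcolS 1
    simpa [hl1] using h1
  have hexp : ∀ i x, F i x = ∑ l : IrrCharacter S, (k i l : ℂ) * (l : S → ℂ) x := fun i x => by
    rw [congrFun (classFun_eq_sum (hcl i)) x, Finset.sum_apply]
    exact Finset.sum_congr rfl fun l _ => by rw [Pi.smul_apply, hk, smul_eq_mul]
  set n : ℤ := (Nat.card S : ℤ) with hn'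
  have hcardZ : (Fintype.card (IrrCharacter S) : ℤ) = n := by
    rw [hn']; exact_mod_cast hcard
  set m : ι → ℤ := fun i => ∑ l : IrrCharacter S, (k i l : ℤ) with hm
  have hm1 : ∀ i, F i 1 = (m i : ℂ) := fun i => by
    rw [hexp, hm]
    push_cast
    exact Finset.sum_congr rfl fun l _ => by rw [hl1, mul_one]
  have hpar : n * ∑ i, ∑ l : IrrCharacter S, (k i l : ℤ) * k i l = ∑ i, m i * m i + (n - 1) := by
    have h1 : ∀ i, (n : ℂ) * ∑ l : IrrCharacter S, (k i l : ℂ) * k i l =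
        ∑ x : S, F i x * conj (F i x) := fun i => by
      have h2 := inner_eq_sum (hcl i) (F i)
      simp only [hk, map_natCast] at h2
      rw [← h2, inner_def, hn', Int.cast_natCast, mul_inv_cancel_left₀ (Chars.card_ne_zero S)]
    have h3 : ((n * ∑ i, ∑ l : IrrCharacter S, (k i l : ℤ) * k i l : ℤ) : ℂ) =
        ((∑ i, m i * m i + (n - 1) : ℤ) : ℂ) := by
      push_cast
      rw [Finset.mul_sum, Finset.sum_congr rfl fun i _ => h1 i, Finset.sum_comm,
        ← Finset.add_sum_erase _ _ (Finset.mem_univ (1 : S)),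
        Finset.sum_congr rfl (fun x hx => hnorm x (Finset.ne_of_mem_erase hx)), Finset.sum_const,
        Finset.card_erase_of_mem (Finset.mem_univ _), Finset.card_univ, nsmul_eq_mul, mul_one,
        ← Nat.card_eq_fintype_card, Nat.cast_sub (by omega), Nat.cast_one]
      simp only [hm1, map_intCast, hn', Int.cast_natCast]
    exact_mod_cast h3
  have hshift : ∀ a : ι → ℤ, n * ∑ i, ∑ l : IrrCharacter S, ((k i l : ℤ) - a i) * ((k i l : ℤ) - a i) =
      ∑ i, (m i - n * a i) * (m i - n * a i) + (n - 1) := by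
    intro a
    have h1 : ∀ i, n * ∑ l : IrrCharacter S, ((k i l : ℤ) - a i) * ((k i l : ℤ) - a i) =
        n * (∑ l : IrrCharacter S, (k i l : ℤ) * k i l) +
          ((m i - n * a i) * (m i - n * a i) - m i * m i) := fun i => by
      simp only [sub_mul, mul_sub, Finset.sum_sub_distrib, ← Finset.mul_sum, ← Finset.sum_mul,
        Finset.sum_const, Finset.card_univ, nsmul_eq_mul, hcardZ, hm]
      ring
    rw [Finset.mul_sum, Finset.sum_congr rfl fun i _ => h1 i, Finset.sum_add_distrib,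
      ← Finset.mul_sum, hpar, Finset.sum_sub_distrib]
    ring
  set r : ι → ℤ := fun i => m i % n with hr
  have hr0 : ∀ i, m i - n * (m i / n) = r i := fun i => by
    have := Int.emod_add_mul_ediv (m i) n
    rw [hr]; linarith
  have hnpos : 2 ≤ n := by rw [hn']; exact_mod_cast hn
  obtain ⟨i₀, hi₀, hzero⟩ := residues_one hnpos r
    (fun i => ⟨Int.emod_nonneg _ (by omega), Int.emod_lt_of_pos _ (by omega)⟩)
    (by
      by_contra hall
      push Not at hall
      have h1 := hshift fun i => m i / n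
      simp only [hr0, hall, mul_zero, Finset.sum_const_zero, zero_add] at h1
      have h2 : n ∣ n - 1 := ⟨_, h1.symm⟩
      have h3 : n ∣ 1 := by simpa using Int.dvd_sub dvd_rfl h2
      have := Int.le_of_dvd one_pos h3
      omega)
    (by
      have h1 := hshift fun i => m i / n
      simp only [hr0] at h1
      rw [← h1, Finset.mul_sum, Finset.mul_sum]
      refine Finset.sum_le_sum fun i _ => mul_le_mul_of_nonneg_left ?_ (by omega)
      rw [show r i = ∑ l : IrrCharacter S, ((k i l : ℤ) - m i / n) by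
        rw [Finset.sum_sub_distrib, Finset.sum_const, Finset.card_univ, nsmul_eq_mul, hcardZ]
        exact (hr0 i).symm]
      exact Finset.sum_le_sum fun l _ => Int.le_self_sq _ |>.trans_eq (sq _))
  obtain ⟨ε, q, hε, hq⟩ : ∃ (ε : ℤ) (q : ι → ℤ), (ε = 1 ∨ ε = -1) ∧
      ∀ i, m i - n * q i = if i = i₀ then ε else 0 := by
    rcases hi₀ with h | h
    · refine ⟨1, fun i => m i / n, Or.inl rfl, fun i => ?_⟩
      rw [hr0]
      split_ifs with hi
      · rw [hi, h]
      · exact hzero i hi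
    · refine ⟨-1, fun i => m i / n + if i = i₀ then 1 else 0, Or.inr rfl, fun i => ?_⟩
      have := hr0 i
      simp only
      split_ifs with hi
      · rw [hi] at this ⊢
        rw [h] at this
        linarith
      · rw [add_zero, this, hzero i hi]
  have hbsum : ∀ i, ∑ l : IrrCharacter S, ((k i l : ℤ) - q i) = if i = i₀ then ε else 0 := fun i => by
    rw [Finset.sum_sub_distrib, Finset.sum_const, Finset.card_univ, nsmul_eq_mul, hcardZ]
    exact hq i
  have hb2 : ∑ p : ι × IrrCharacter S, ((k p.1 p.2 : ℤ) - q p.1) * ((k p.1 p.2 : ℤ) - q p.1) = 1 := by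
    have h1 := hshift q
    simp only [hq] at h1
    have hεε : ε * ε = 1 := by rcases hε with e | e <;> rw [e] <;> rfl
    simp only [ite_mul, zero_mul, Finset.sum_ite_eq', Finset.mem_univ, if_true, hεε] at h1
    rw [Fintype.sum_prod_type]
    exact mul_left_cancel₀ (show n ≠ 0 by omega) (by rw [h1, mul_one]; ring)
  obtain ⟨⟨i₁, l₀⟩, -, hp⟩ := Finset.exists_ne_zero_of_sum_ne_zero (hb2.symm ▸ one_ne_zero :
    ∑ p : ι × IrrCharacter S, ((k p.1 p.2 : ℤ) - q p.1) * ((k p.1 p.2 : ℤ) - q p.1) ≠ 0)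
  have hothers : ∀ i l, (i, l) ≠ (i₁, l₀) → (k i l : ℤ) - q i = 0 := fun i l hne => by
    rw [← Finset.add_sum_erase _ _ (Finset.mem_univ (i₁, l₀))] at hb2
    have h1 : 0 < ((k i₁ l₀ : ℤ) - q i₁) * ((k i₁ l₀ : ℤ) - q i₁) := lt_of_le_of_ne (mul_self_nonneg _) hp.symm
    have h2 : ∑ p ∈ Finset.univ.erase (i₁, l₀), ((k p.1 p.2 : ℤ) - q p.1) * ((k p.1 p.2 : ℤ) - q p.1) = 0 := by
      have h3 : 0 ≤ ∑ p ∈ Finset.univ.erase (i₁, l₀), ((k p.1 p.2 : ℤ) - q p.1) * ((k p.1 p.2 : ℤ) - q p.1) :=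
        Finset.sum_nonneg fun p _ => mul_self_nonneg _
      linarith
    exact mul_self_eq_zero.mp ((Finset.sum_eq_zero_iff_of_nonneg fun p _ => mul_self_nonneg _).mp h2
      (i, l) (Finset.mem_erase.mpr ⟨hne, Finset.mem_univ _⟩))
  have hi₁ : i₁ = i₀ := by
    by_contra hne
    have h1 := hbsum i₀
    rw [if_pos rfl, Finset.sum_eq_zero fun l _ => hothers i₀ l fun e => hne (congrArg Prod.fst e).symm] at h1
    omega
  subst hi₁
  have hval : (k i₁ l₀ : ℤ) - q i₁ = ε := by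
    have h1 := hbsum i₁
    rw [if_pos rfl, Finset.sum_eq_single l₀ (fun l _ hl => hothers i₁ l fun e =>
      hl (congrArg Prod.snd e)) (by simp)] at h1
    exact h1
  have hqnn : ∀ i, 0 ≤ q i := by
    intro i
    have h1 : (0 : ℤ) ≤ m i := Finset.sum_nonneg fun l _ => Int.natCast_nonneg _
    have h2 := hq i
    by_contra hlt
    push Not at hlt
    have h3 : n * q i ≤ n * (-1) := mul_le_mul_of_nonneg_left (by omega) (by omega)
    split_ifs at h2 <;> rcases hε with e | e <;> omega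
  refine ⟨i₁, ε, l₀, fun i => (q i).toNat, hε, fun i => ?_, fun i x hx => ?_⟩
  · have hqc : (((q i).toNat : ℕ) : ℂ) = (q i : ℂ) := by
      rw [← Int.cast_natCast, Int.toNat_of_nonneg (hqnn i)]
    have h2 := congrArg (fun z : ℤ => (z : ℂ)) (hq i)
    rw [hm1, hqc]
    rw [hn'] at h2
    push_cast at h2
    linear_combination h2
  · rw [hexp, show ∑ l : IrrCharacter S, (k i l : ℂ) * (l : S → ℂ) x =
      ∑ l : IrrCharacter S, (((k i l : ℤ) - q i : ℤ) : ℂ) * (l : S → ℂ) x +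
        (q i : ℂ) * ∑ l : IrrCharacter S, (l : S → ℂ) x by
      rw [Finset.mul_sum, ← Finset.sum_add_distrib]
      exact Finset.sum_congr rfl fun l _ => by push_cast; ring, hcolS, if_neg hx, mul_zero, add_zero]
    split_ifs with hi
    · subst hi
      rw [Finset.sum_eq_single l₀ (fun l _ hl => by
        rw [hothers _ l fun e => hl (congrArg Prod.snd e), Int.cast_zero, zero_mul]) (by simp), hval]
    · exact Finset.sum_eq_zero fun l _ => by
        rw [hothers i l fun e => hi (congrArg Prod.fst e), Int.cast_zero, zero_mul]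

namespace CyclicSetup

variable {Γ : Type u} [Group Γ] [Fintype Γ] {G C : Subgroup Γ} [G.Normal] [Fintype G] [Fintype C]
  {s : Γ}

theorem fpf (h : CyclicSetup G C s) (hfpf : ∀ x ∈ Subgroup.zpowers s, x ≠ 1 →
      G ⊓ Subgroup.centralizer ({x} : Set Γ) = C)
    {χ : G → ℂ} {χh : Γ → ℂ} (hc : IsCanon G s χ χh) {β : IrrCharacter C} {ε₀ : ℤ}
    (hε₀ : ε₀ = 1 ∨ ε₀ = -1) (hβ : ∀ c : C, χh ((c : Γ) * s) = (ε₀ : ℂ) * (β : C → ℂ) c) :
    ∃ ε : ℤ, (ε = 1 ∨ ε = -1) ∧
      (∃ μ : Subgroup.zpowers s → ℂ, IsCharacter (Subgroup.zpowers s) μ ∧ μ 1 = 1 ∧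
        (∀ x, μ x * μ x = 1) ∧
        ∀ (c : C) (x : Subgroup.zpowers s), x ≠ 1 →
          χh ((c : Γ) * x) = (ε : ℂ) * (β : C → ℂ) c * μ x) ∧
      (∃ ϑ : C → ℂ, IsCharacter C ϑ ∧ (fun c : C => χ ⟨c, h.mem_left c⟩) =
        fun c => (Nat.card (Subgroup.zpowers s) : ℂ) * ϑ c + (ε : ℂ) * (β : C → ℂ) c) ∧
      (Nat.card (Subgroup.zpowers s) : ℤ) ∣
        (charDegree χ : ℤ) - ε * (charDegree (β : C → ℂ) : ℤ) := by
  classical
  haveI := irrFintype C
  haveI := Fintype.ofFinite (Subgroup.zpowers s)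
  obtain ⟨hχh, hχ, hr, hd⟩ := id hc
  have hχhc := isCharacter_of_irr hχh
  have hdeg : ∀ d : ℕ, χ 1 = d → charDegree χ = d := fun d hd => by simp [charDegree, hd]
  obtain ⟨dχ, -, hdχ⟩ := irr_degree_nat hχ
  obtain ⟨dβ, hdβ0, hdβ⟩ := irr_degree_nat β.2
  rw [hdeg dχ hdχ, show charDegree (β : C → ℂ) = dβ by simp [charDegree, hdβ]]
  have hc1 : χ ⟨((1 : C) : Γ), h.mem_left 1⟩ = χ 1 := congrArg χ (Subtype.ext rfl)
  by_cases hn : Nat.card (Subgroup.zpowers s) = 1
  · have hs : s = 1 := orderOf_eq_one_iff.mp (by rwa [← Nat.card_zpowers])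
    have hres : ∀ c : C, χ ⟨c, h.mem_left c⟩ = (ε₀ : ℂ) * (β : C → ℂ) c := fun c => by
      rw [← hr, ← hβ c]
      show χh (c : Γ) = χh ((c : Γ) * s)
      simp [hs]
    have h1 := hres 1
    rw [hc1, hdχ, hdβ] at h1
    have hε1 : ε₀ = 1 := by
      rcases hε₀ with e | e
      · exact e
      · have h2 : (dχ : ℤ) = -1 * dβ := by rw [← e]; exact_mod_cast h1
        omega
    refine ⟨1, Or.inl rfl, ⟨fun _ => 1, isCharacter_of_irr (principal _).2, rfl,
      fun _ => mul_one 1, fun c x hx => absurd (Subtype.ext ?_) hx⟩,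
      ⟨fun _ => 0, isCharacter_sum (∅ : Finset C) (χ := fun _ _ => (0 : ℂ))
        (fun i hi => absurd hi (by simp)) |> fun h0 => by simpa [Pi.zero_def] using h0, funext fun c => ?_⟩, ?_⟩
    · obtain ⟨i, hi⟩ := x.2
      show (x : Γ) = 1
      rw [← hi]; simp [hs]
    · rw [hres, hε1, mul_zero, zero_add]
    · rw [hn, Nat.cast_one]; exact one_dvd _
  have hn2 : 2 ≤ Nat.card (Subgroup.zpowers s) := by
    have := Nat.card_pos (α := Subgroup.zpowers s)
    omega
  have hcomm : ∀ a b : Subgroup.zpowers s, a * b = b * a := mul_comm'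
  let μh : C × Subgroup.zpowers s →* Γ :=
    C.subtype.noncommCoprod (Subgroup.zpowers s).subtype (fun c x => by
      obtain ⟨_, i, rfl⟩ := x
      exact (h.comm c).zpow_right i)
  have hμh : ∀ c x, μh (c, x) = (c : Γ) * x := fun c x => rfl
  let F : IrrCharacter C → Subgroup.zpowers s → ℂ := fun γ x =>
    classInner (fun c : C => χh ((c : Γ) * x)) (γ : C → ℂ)
  have hknat : ∀ (γ : IrrCharacter C) (l : IrrCharacter (Subgroup.zpowers s)),
      ∃ k : ℕ, classInner (F γ) (l : Subgroup.zpowers s → ℂ) = k := by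
    intro γ l
    obtain ⟨k, hk⟩ := inner_char_nat (isCharacter_comp μh hχhc)
      (isCharacter_mul (isCharacter_comp (MonoidHom.fst C (Subgroup.zpowers s)) (isCharacter_of_irr γ.2))
        (isCharacter_comp (MonoidHom.snd C (Subgroup.zpowers s)) (isCharacter_of_irr l.2)))
    refine ⟨k, ?_⟩
    rw [← hk]
    simp only [inner_def, F, Nat.card_prod, Nat.cast_mul, mul_inv, Fintype.sum_prod_type, map_mul,
      Finset.mul_sum, Finset.sum_mul]
    rw [Finset.sum_comm]
    refine Finset.sum_congr rfl fun c _ => Finset.sum_congr rfl fun x _ => ?_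
    simp only [Pi.mul_apply, map_mul, MonoidHom.coe_fst, MonoidHom.coe_snd]
    rw [hμh]
    ring
  choose k hk using hknat
  have hfcl : ∀ x : Subgroup.zpowers s, IsClassFunction C fun c : C => χh ((c : Γ) * x) := fun x c d => by
    show χh (((d : Γ) * c * (d : Γ)⁻¹) * x) = χh ((c : Γ) * x)
    rw [← isClassFunction_of_isCharacter hχhc ((c : Γ) * x) (d : Γ)]
    congr 1
    obtain ⟨_, i, rfl⟩ := x
    simp only [mul_assoc, ((h.comm d).zpow_right i).inv_left.eq]
  have hnorm : ∀ x : Subgroup.zpowers s, x ≠ 1 → ∑ γ, F γ x * conj (F γ x) = 1 := by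
    intro x hx
    rw [← inner_eq_sum (hfcl x) (fun c : C => χh ((c : Γ) * x)), inner_def]
    have hx' : (x : Γ) ≠ 1 := fun e => hx (Subtype.ext e)
    have hord : orderOf (x : Γ) ∣ orderOf s := by
      obtain ⟨i, hi⟩ := x.2
      rw [← hi]
      exact orderOf_dvd_of_mem_zpowers ⟨i, rfl⟩
    have hsum := sum_coset_gen (G := G) (C := C) (s := (x : Γ)) (h.cop.coprime_dvd_right hord)
      (fun u => by
        rw [← hfpf x x.2 hx', Subgroup.mem_inf, Subgroup.mem_centralizer_singleton_iff]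
        exact Iff.rfl.and ⟨fun e => e, fun e => e⟩) (F := fun y => χh y * conj (χh y))
      (fun g y => by simp only [isClassFunction_of_isCharacter hχhc g y])
    have havg := CharsMore.coset_norm_avg G hχh ((funext hr : (fun g : G => χh g) = χ) ▸ hχ) (x : Γ)
    rw [← havg, inv_mul_eq_div, inv_mul_eq_div,
      div_eq_div_iff (Chars.card_ne_zero C) (Chars.card_ne_zero G)]
    linear_combination -hsum
  obtain ⟨γ₀, ε, l₀, a, hε, hF1, hFx⟩ :=
    exists_sign_of_norm_one hcomm hn2 F k hk hnorm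
  have hval : ∀ (c : C) (x : Subgroup.zpowers s), x ≠ 1 →
      χh ((c : Γ) * x) = (ε : ℂ) * (l₀ : Subgroup.zpowers s → ℂ) x * (γ₀ : C → ℂ) c := by
    intro c x hx
    rw [congrFun (classFun_eq_sum (hfcl x)) c, Finset.sum_apply, Finset.sum_eq_single γ₀
      (fun γ _ hne => by rw [Pi.smul_apply, show classInner _ (γ : C → ℂ) = F γ x from rfl, hFx γ x hx,
        if_neg hne, zero_smul]) (by simp), Pi.smul_apply,
      show classInner _ (γ₀ : C → ℂ) = F γ₀ x from rfl, hFx γ₀ x hx, if_pos rfl, smul_eq_mul]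
  have hs1 : (⟨s, Subgroup.mem_zpowers s⟩ : Subgroup.zpowers s) ≠ 1 := fun e => hn (by
    rw [Nat.card_zpowers, orderOf_eq_one_iff]; exact congrArg Subtype.val e)
  have hgen : classInner (fun c : C => χh ((c : Γ) * s)) (β : C → ℂ) = ε₀ := by
    rw [show (fun c : C => χh ((c : Γ) * s)) = (ε₀ : ℂ) • (β : C → ℂ) from funext hβ,
      Chars.inner_smul_left, inner_irr_self, mul_one]
  have hFs := hFx β ⟨s, Subgroup.mem_zpowers s⟩ hs1
  rw [show F β ⟨s, Subgroup.mem_zpowers s⟩ = (ε₀ : ℂ) from hgen] at hFs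
  have hγ : β = γ₀ := by
    by_contra hne
    rw [if_neg hne] at hFs
    rcases hε₀ with e | e <;> rw [e] at hFs <;> norm_num at hFs
  subst hγ
  rw [if_pos rfl] at hFs
  obtain ⟨μ, hμ⟩ := CharsMore.exists_hom_of_linear
    ⟨isCharacter_of_irr l₀.2, irr_abelian_degree hcomm l₀.2⟩
  have hμs : (μ ⟨s, Subgroup.mem_zpowers s⟩ : ℂ) * μ ⟨s, Subgroup.mem_zpowers s⟩ = 1 := by
    rw [show (μ ⟨s, Subgroup.mem_zpowers s⟩ : ℂ) = (l₀ : Subgroup.zpowers s → ℂ)
      ⟨s, Subgroup.mem_zpowers s⟩ from congrFun hμ _]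
    have h2 : (ε : ℂ) * ε = 1 := by rcases hε with e | e <;> rw [e] <;> norm_num
    have h3 : (ε₀ : ℂ) * ε₀ = 1 := by rcases hε₀ with e | e <;> rw [e] <;> norm_num
    linear_combination
      (- (l₀ : Subgroup.zpowers s → ℂ) ⟨s, Subgroup.mem_zpowers s⟩ * (ε : ℂ) - (ε₀ : ℂ)) * hFs +
      (- ((l₀ : Subgroup.zpowers s → ℂ) ⟨s, Subgroup.mem_zpowers s⟩ *
        (l₀ : Subgroup.zpowers s → ℂ) ⟨s, Subgroup.mem_zpowers s⟩)) * h2 + h3
  have hμsq : μ * μ = 1 := MonoidHom.ext fun x => by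
    obtain ⟨_, i, rfl⟩ := x
    rw [show (⟨s ^ i, i, rfl⟩ : Subgroup.zpowers s) = ⟨s, Subgroup.mem_zpowers s⟩ ^ i from
      Subtype.ext rfl, map_zpow, show (μ * μ) ⟨s, Subgroup.mem_zpowers s⟩ = 1 from
      Units.ext (by simpa using hμs), one_zpow]
    rfl
  have hres : ∀ c : C, χ ⟨c, h.mem_left c⟩ = (Nat.card (Subgroup.zpowers s) : ℂ) *
      (∑ γ : IrrCharacter C, (a γ : ℂ) * (γ : C → ℂ) c) + (ε : ℂ) * (β : C → ℂ) c := by
    intro c
    have h1 : χ ⟨c, h.mem_left c⟩ = χh ((c : Γ) * ((1 : Subgroup.zpowers s) : Γ)) := by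
      rw [← hr]; simp
    rw [h1, congrFun (classFun_eq_sum (hfcl 1)) c, Finset.sum_apply, Finset.mul_sum]
    calc ∑ γ : IrrCharacter C, (classInner (fun c : C => χh ((c : Γ) * ((1 : Subgroup.zpowers s) : Γ)))
          (γ : C → ℂ) • (γ : C → ℂ)) c
        = ∑ γ : IrrCharacter C, ((Nat.card (Subgroup.zpowers s) : ℂ) * ((a γ : ℂ) * (γ : C → ℂ) c) +
            (if γ = β then (ε : ℂ) else 0) * (γ : C → ℂ) c) := Finset.sum_congr rfl fun γ _ => by
          rw [Pi.smul_apply, show classInner _ (γ : C → ℂ) = F γ 1 from rfl, hF1 γ, smul_eq_mul]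
          ring
      _ = _ := by simp [Finset.sum_add_distrib, Finset.sum_ite_eq', ite_mul]
  refine ⟨ε, hε, ⟨CharsMore.linFun μ, (CharsMore.isCharacter_linFun μ).1,
    (CharsMore.isCharacter_linFun μ).2, fun x => ?_, fun c x hx => ?_⟩,
    ⟨fun c => ∑ γ : IrrCharacter C, (a γ : ℂ) * (γ : C → ℂ) c, ?_, funext hres⟩, ?_⟩
  · have h2 := congrArg (fun f : Subgroup.zpowers s →* ℂˣ => (f x : ℂ)) hμsq
    simpa [CharsMore.linFun] using h2
  · rw [hval c x hx, congrFun hμ x]; ring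
  · rw [show (fun c => ∑ γ : IrrCharacter C, (a γ : ℂ) * (γ : C → ℂ) c) =
      fun c => ∑ γ : IrrCharacter C, (a γ • (γ : C → ℂ)) c from funext fun c => by simp]
    convert isCharacter_sum (Finset.univ : Finset (IrrCharacter C))
      (fun γ _ => isCharacter_nsmul (a γ) (isCharacter_of_irr γ.2)) using 1
    funext c
    simp [Finset.sum_apply]
  · choose dg _ hdg using fun γ : IrrCharacter C => irr_degree_nat γ.2
    refine ⟨((∑ γ : IrrCharacter C, a γ * dg γ : ℕ) : ℤ), ?_⟩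
    have h1 := hres 1
    rw [hc1, hdχ, hdβ, Finset.sum_congr rfl fun γ _ => by rw [hdg]] at h1
    have h2 : (dχ : ℤ) = (Nat.card (Subgroup.zpowers s) : ℤ) *
        ((∑ γ : IrrCharacter C, a γ * dg γ : ℕ) : ℤ) + ε * dβ := by exact_mod_cast h1
    linarith

end CyclicSetup

end CfsgLib.Glauberman
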