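import Cfsg.Agent.Lib.Glauberman.Solvable
import Cfsg.Agent.Lib.CharsMore.Gallagher
import Cfsg.Agent.Lib.CharsMore.Extend
import Cfsg.Agent.Lib.Chars.Linear

/-!
# Invariant constituents through abelian layers of coprime index
-/

set_option autoImplicit false
set_option linter.style.haveILetI false
set_option linter.unusedSectionVars false

namespace CfsgLib.Glauberman

open Cfsg CfsgLib.Chars
open scoped commutatorElement

universe u

theorem inner_ne_zero_of_common {H : Type*} [Group H] [Fintype H] {φ ψ : H → ℂ}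
    (hφ : IsCharacter H φ) (hψ : IsCharacter H ψ) {θ : IrrCharacter H}
    (h1 : classInner φ (θ : H → ℂ) ≠ 0) (h2 : classInner ψ (θ : H → ℂ) ≠ 0) :
    classInner φ ψ ≠ 0 := by
  classical
  haveI := irrFintype H
  choose a ha using fun χ : IrrCharacter H => inner_irr_right_nat hφ χ
  choose b hb using fun χ : IrrCharacter H => inner_irr_right_nat hψ χ
  rw [inner_eq_sum (isClassFunction_of_isCharacter hφ),
    Finset.sum_congr rfl fun (χ : IrrCharacter H) _ => show classInner φ (χ : H → ℂ) *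
      (starRingEnd ℂ) (classInner ψ (χ : H → ℂ)) = ((a χ * b χ : ℕ) : ℂ) by
        rw [ha, hb, map_natCast, Nat.cast_mul], ← Nat.cast_sum, Nat.cast_ne_zero]
  rw [ha, Nat.cast_ne_zero] at h1
  rw [hb, Nat.cast_ne_zero] at h2
  exact fun h0 => mul_ne_zero h1 h2 (Finset.sum_eq_zero_iff.mp h0 θ (Finset.mem_univ θ))

/-- A fixed point for a coprime action on a homogeneous set of an abelian group, by averaging. -/
theorem exists_fixed_of_coprime {A L X : Type*} [Group A] [Finite A] [CommGroup L] [Finite L]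
    [MulAction L X] (B : Subgroup A) (α : A → L →* L) (act : A → X → X)
    (hmul : ∀ a b x, act (a * b) x = act a (act b x))
    (hsmul : ∀ a (l : L) x, act a (l • x) = α a l • act a x)
    (hB : ∀ a, ∀ b ∈ B, ∀ x, act (a * b) x = act a x)
    (htr : ∀ x y : X, ∃ l : L, l • x = y) (hcop : (Nat.card L).Coprime B.index) (x₀ : X) :
    ∃ x : X, ∀ a, act a x = x := by
  classical
  haveI := Fintype.ofFinite (A ⧸ B)
  choose lam hlam using fun a => htr x₀ (act a x₀)
  obtain ⟨v, hv⟩ : ∃ v, ∀ l : L, (l ^ B.index) ^ v = l := by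
    obtain ⟨w, -, hw⟩ := Nat.exists_mul_mod_eq_of_coprime 1 hcop.symm Nat.card_pos.ne'
    refine ⟨w, fun l => ?_⟩
    conv_rhs => rw [← pow_one l]
    rw [← pow_mul, pow_eq_pow_iff_modEq]
    exact (Nat.ModEq.of_dvd (orderOf_dvd_natCard l) hw)
  have hprod : ∀ (s : Finset (A ⧸ B)) (f g : A ⧸ B → L), (∀ q ∈ s, f q • x₀ = g q • x₀) →
      (∏ q ∈ s, f q) • x₀ = (∏ q ∈ s, g q) • x₀ := by
    intro s f g hfg
    induction s using Finset.induction_on with
    | empty => simp
    | insert q t hq ih =>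
      rw [Finset.prod_insert hq, Finset.prod_insert hq, mul_smul,
        ih (fun r hr => hfg r (Finset.mem_insert_of_mem hr)), smul_comm,
        hfg q (Finset.mem_insert_self q t), smul_comm, ← mul_smul]
  have hpow : ∀ (f g : L) (n : ℕ), f • x₀ = g • x₀ → f ^ n • x₀ = g ^ n • x₀ := by
    intro f g n h
    induction n with
    | zero => simp
    | succ n ih => rw [pow_succ, pow_succ, mul_smul, h, smul_comm, ih, smul_comm, ← mul_smul]
  set mu := ∏ q : A ⧸ B, lam q.out with hmu
  refine ⟨mu ^ v • x₀, fun a => ?_⟩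
  have h1 : mu • x₀ = (α a mu * lam a ^ B.index) • x₀ := by
    rw [hmu]
    conv_lhs => rw [← Equiv.prod_comp (MulAction.toPerm a) (fun q : A ⧸ B => lam q.out)]
    rw [map_prod,
      Subgroup.index, Nat.card_eq_fintype_card, ← Finset.card_univ, ← Finset.prod_const,
      ← Finset.prod_mul_distrib]
    refine hprod _ _ _ fun q _ => ?_
    show lam (a • q).out • x₀ = _
    obtain ⟨b, hb⟩ := QuotientGroup.mk_out_eq_mul B (a * q.out)
    have hq : a • q = ((a * q.out : A) : A ⧸ B) := by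
      conv_lhs => rw [← QuotientGroup.out_eq' q]
      exact MulAction.Quotient.smul_mk B a q.out
    rw [hlam, hq, hb, hB _ b b.2, hmul, ← hlam q.out, hsmul, ← hlam a, mul_smul]
  have h2 := hpow _ _ v h1
  rw [mul_pow, ← map_pow, hv, mul_smul] at h2
  rw [hsmul, ← hlam a, ← h2]

variable {M : Type u} [Group M] [Fintype M] {A : Type*} [Group A] [Finite A]

/-- The abelian step. -/
theorem exists_inv_over_abelian (B : Subgroup A) (φ : A →* MulAut M) (N : Subgroup M) [N.Normal]
    [Fintype N] (hN : ∀ a, ∀ n ∈ N, φ a n ∈ N) (hab : ∀ x y : M, ⁅x, y⁆ ∈ N)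
    (hcop : N.index.Coprime B.index) (hB : ∀ b ∈ B, ∃ m ∈ N, ∀ x, φ b x = m * x * m⁻¹)
    (θ : IrrCharacter N)
    (hθ : ∀ a (n : N), (θ : N → ℂ) ⟨φ a n, hN a n n.2⟩ = (θ : N → ℂ) n) :
    ∃ χ : IrrCharacter M, Inv φ (χ : M → ℂ) ∧
      classInner (fun n : N => (χ : M → ℂ) n) (θ : N → ℂ) ≠ 0 := by
  classical
  haveI := irrFintype M
  let L : Subgroup (M →* ℂˣ) :=
    { carrier := {l | ∀ n ∈ N, l n = 1}
      one_mem' := fun n _ => rfl
      mul_mem' := fun {a b} ha hb n hn => by rw [MonoidHom.mul_apply, ha n hn, hb n hn, one_mul]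
      inv_mem' := fun {a} ha n hn => by rw [MonoidHom.inv_apply, ha n hn, inv_one] }
  let X := {χ : IrrCharacter M // classInner (fun n : N => (χ : M → ℂ) n) (θ : N → ℂ) ≠ 0}
  letI : MulAction L X :=
    { smul := fun l χ => ⟨⟨fun g => ((l.1 g : ℂˣ) : ℂ) * (χ.1 : M → ℂ) g,
        isIrrCharacter_linear_mul l.1 χ.1.2⟩, by
          refine (congrArg (fun f => classInner f (θ : N → ℂ)) (funext fun n : N => ?_)).trans_ne χ.2
          show ((l.1 (n : M) : ℂˣ) : ℂ) * _ = _
          rw [l.2 n n.2, Units.val_one, one_mul]⟩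
      one_smul := fun χ => Subtype.ext (Subtype.ext (funext fun g => one_mul _))
      mul_smul := fun a b χ => Subtype.ext (Subtype.ext (funext fun g => by
        show ((a.1 g * b.1 g : ℂˣ) : ℂ) * (χ.1 : M → ℂ) g = (a.1 g : ℂ) * ((b.1 g : ℂ) * _)
        rw [Units.val_mul, mul_assoc])) }
  let α : A → L →* L := fun a =>
    { toFun := fun l => ⟨l.1.comp (φ a⁻¹).toMonoidHom, fun n hn => l.2 _ (hN a⁻¹ n hn)⟩
      map_one' := rfl
      map_mul' := fun l l' => rfl }
  have htw : ∀ a (χ : IrrCharacter M), classInner (fun n : N => (χ : M → ℂ) n) (θ : N → ℂ) ≠ 0 →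
      classInner (fun n : N => (twist φ a χ : M → ℂ) n) (θ : N → ℂ) ≠ 0 := by
    intro a χ h
    let e : N ≃* N :=
      { toFun := fun n => ⟨φ a⁻¹ n, hN a⁻¹ n n.2⟩
        invFun := fun n => ⟨φ a n, hN a n n.2⟩
        left_inv := fun n => Subtype.ext (by simp)
        right_inv := fun n => Subtype.ext (by simp)
        map_mul' := fun x y => Subtype.ext (map_mul _ _ _) }
    rw [← CharsMore.inner_comp_equiv e] at h
    convert h using 3 with n
    · rfl
    · exact (hθ a⁻¹ _).symm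
  let act : A → X → X := fun a χ => ⟨twist φ a χ.1, htw a χ.1 χ.2⟩
  obtain ⟨χ₀, hχ₀⟩ := Blocks.exists_character_over N θ
  have hcopL : (Nat.card L).Coprime B.index := by
    refine Nat.coprime_of_dvd fun q hq hqL hqB => ?_
    haveI : Fact q.Prime := ⟨hq⟩
    obtain ⟨l, hl⟩ := exists_prime_orderOf_dvd_card' q hqL
    have hpw : l ^ N.index = 1 := Subtype.ext (MonoidHom.ext fun g => by
      show (l.1 ^ N.index) g = 1
      rw [MonoidHom.pow_apply, ← map_pow]
      exact l.2 _ (N.pow_index_mem g))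
    exact hq.one_lt.ne' (Nat.eq_one_of_dvd_coprimes hcop (hl ▸ orderOf_dvd_of_pow_eq_one hpw) hqB)
  obtain ⟨χ, hχ⟩ := exists_fixed_of_coprime B α act
    (fun a b χ => Subtype.ext (Subtype.ext (funext fun g => by
      simp [act, twist_apply, mul_inv_rev])))
    (fun a l χ => Subtype.ext (Subtype.ext (funext fun g => rfl)))
    (fun a b hb χ => by
      refine Subtype.ext (Subtype.ext (funext fun g => ?_))
      obtain ⟨m, -, hm⟩ := hB b⁻¹ (inv_mem hb)
      show (χ.1 : M → ℂ) (φ (a * b)⁻¹ g) = (χ.1 : M → ℂ) (φ a⁻¹ g)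
      rw [mul_inv_rev, map_mul, MulAut.mul_apply, hm, isClassFunction_irr χ.1])
    (fun χ ξ => by
      have hχc := isCharacter_of_irr χ.1.2
      have h0 : classInner (indFun N (fun n : N => (χ.1 : M → ℂ) n)) (ξ.1 : M → ℂ) ≠ 0 := by
        rw [inner_indFun N _ (isClassFunction_irr ξ.1)]
        exact inner_ne_zero_of_common (isCharacter_restrict N hχc)
          (isCharacter_restrict N (isCharacter_of_irr ξ.1.2)) χ.2 ξ.2
      rw [CharsMore.indFun_restrict_eq_sum N χ.1.2, inner_sum_left] at h0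
      obtain ⟨β, hβ, hne⟩ := Finset.exists_ne_zero_of_sum_ne_zero h0
      rw [Chars.inner_smul_left] at hne
      have hker : ∀ x ∈ N, (β : M → ℂ) x = (β : M → ℂ) 1 := fun x hx =>
        (CharsMore.mem_quotIrr N).1 hβ hx
      obtain ⟨e, he1, he⟩ := exists_deflate_irr N β.2 hker
      have hβ1 : (β : M → ℂ) 1 = 1 := by
        rw [he]
        refine irr_abelian_degree (fun a b => ?_) he1
        obtain ⟨x, rfl⟩ := QuotientGroup.mk_surjective a
        obtain ⟨y, rfl⟩ := QuotientGroup.mk_surjective b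
        rw [← QuotientGroup.mk_mul, ← QuotientGroup.mk_mul, QuotientGroup.eq]
        have := hab y⁻¹ x⁻¹
        rwa [commutatorElement_def, inv_inv, inv_inv, ← mul_inv_rev, mul_assoc] at this
      obtain ⟨μ, hμ⟩ := CharsMore.exists_hom_of_linear ⟨isCharacter_of_irr β.2, hβ1⟩
      refine ⟨⟨μ, fun n hn => Units.ext ?_⟩, Subtype.ext ?_⟩
      · have := hker n hn
        rw [← hμ] at this
        simpa [CharsMore.linFun] using this
      · have hirr : IsIrrCharacter M ((β : M → ℂ) * (χ.1 : M → ℂ)) := by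
          rw [← hμ]
          exact isIrrCharacter_linear_mul μ χ.1.2
        have h1 := inner_irr_of_isIrr hirr ξ.1.2
        split_ifs at h1 with heq
        · refine Subtype.ext ?_
          show (fun g => (μ g : ℂ) * (χ.1 : M → ℂ) g) = _
          rw [← heq, ← hμ]
          rfl
        · exact absurd h1 (right_ne_zero_of_mul hne))
    hcopL ⟨χ₀, hχ₀⟩
  refine ⟨χ.1, fun a g => ?_, χ.2⟩
  have h := congrFun (congrArg (fun y : X => (y.1 : M → ℂ)) (hχ a⁻¹)) g
  simpa [act, twist_apply] using h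

section Chain

variable {Γ : Type u} [Group Γ] [Finite Γ]

theorem liesOver_trans {G M N : Subgroup Γ} (hMG : M ≤ G) (hNM : N ≤ M) {χ : IrrCharacter G}
    {ψ : IrrCharacter M} {θ : IrrCharacter N} (h1 : LiesOver hMG (χ : G → ℂ) (ψ : M → ℂ))
    (h2 : LiesOver hNM (ψ : M → ℂ) (θ : N → ℂ)) :
    LiesOver (hNM.trans hMG) (χ : G → ℂ) (θ : N → ℂ) := by
  classical
  haveI := Fintype.ofFinite M
  haveI := Fintype.ofFinite N
  rw [liesOver_iff] at h1 h2 ⊢
  have hφ : IsCharacter M (fun m : M => (χ : G → ℂ) ⟨m, hMG m.2⟩) :=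
    isCharacter_comp (Subgroup.inclusion hMG) (isCharacter_of_irr χ.2)
  have hψ : IsCharacter N (fun n : N => (ψ : M → ℂ) ⟨n, hNM n.2⟩) :=
    isCharacter_comp (Subgroup.inclusion hNM) (isCharacter_of_irr ψ.2)
  have hle := CharsMore.inner_restrict_ge (Subgroup.inclusion hNM) hφ (isCharacter_of_irr θ.2) {ψ}
  rw [Finset.sum_singleton] at hle
  have hc : IsCharacter N (fun n : N => (χ : G → ℂ) ⟨n, hMG (hNM n.2)⟩) :=
    isCharacter_comp (Subgroup.inclusion (hNM.trans hMG)) (isCharacter_of_irr χ.2)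
  rw [CharsMore.inner_eq_multNat hc (isCharacter_of_irr θ.2), Nat.cast_ne_zero]
  intro h0
  have h' : CharsMore.multNat (fun m : M => (χ : G → ℂ) ⟨m, hMG m.2⟩) (ψ : M → ℂ) *
      CharsMore.multNat (fun n : N => (ψ : M → ℂ) ⟨n, hNM n.2⟩) (θ : N → ℂ) ≤ 0 :=
    h0 ▸ hle
  exact mul_ne_zero (CharsMore.multNat_ne_zero hφ (isCharacter_of_irr ψ.2) h1)
    (CharsMore.multNat_ne_zero hψ (isCharacter_of_irr θ.2) h2) (Nat.le_zero.mp h')

/-- An invariant constituent of an induced character, through a solvable quotient of coprime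
order. -/
theorem exists_inv_over_layers {A B G N : Subgroup Γ} (hNG : N ≤ G)
    (hAG : A ≤ Subgroup.normalizer (G : Set Γ)) (hAN : A ≤ Subgroup.normalizer (N : Set Γ))
    [hn : (N.subgroupOf G).Normal] (hsolv : Group.IsSolvable (G ⧸ N.subgroupOf G))
    (hBN : B ≤ N) (hcop : (N.relIndex G).Coprime (B.relIndex A)) (θ : IrrCharacter N)
    (hθ : InvBy A N (θ : N → ℂ)) :
    ∃ χ : IrrCharacter G, InvBy A G (χ : G → ℂ) ∧ LiesOver hNG (χ : G → ℂ) (θ : N → ℂ) := by
  classical
  induction hc : Nat.card G using Nat.strong_induction_on generalizing G with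
  | _ c ih =>
  have hGN : G ≤ Subgroup.normalizer (N : Set Γ) :=
    (Subgroup.normal_subgroupOf_iff_le_normalizer hNG).mp hn
  by_cases hGN' : G = N
  · subst hGN'
    haveI := Fintype.ofFinite G
    refine ⟨θ, hθ, ?_⟩
    rw [liesOver_iff]
    show classInner (θ : G → ℂ) (θ : G → ℂ) ≠ 0
    rw [inner_irr_self]
    exact one_ne_zero
  set M : Subgroup Γ := N ⊔ ⁅G, G⁆ with hM
  have hcG : ⁅G, G⁆ ≤ G := Subgroup.commutator_le.mpr fun x hx y hy =>
    G.mul_mem (G.mul_mem (G.mul_mem hx hy) (G.inv_mem hx)) (G.inv_mem hy)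
  have hMG : M ≤ G := sup_le hNG hcG
  have hnc : ∀ x ∈ Subgroup.normalizer (G : Set Γ),
      x ∈ Subgroup.normalizer ((⁅G, G⁆ : Subgroup Γ) : Set Γ) := fun x hx => by
    rw [Coprime.mem_normalizer_iff_conj_smul, Coprime.conj_smul_eq_map, Subgroup.map_commutator,
      ← Coprime.conj_smul_eq_map, Coprime.conj_smul_eq_self_of_mem_normalizer hx]
  have hAM : A ≤ Subgroup.normalizer (M : Set Γ) :=
    Coprime.le_normalizer_sup_sup hAN fun x hx => hnc x (hAG hx)
  have hGM : G ≤ Subgroup.normalizer (M : Set Γ) :=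
    Coprime.le_normalizer_sup_sup hGN fun x hx => hnc x (Subgroup.le_normalizer hx)
  have hlt : Nat.card M < c := by
    refine hc ▸ lt_of_le_of_ne (Subgroup.card_le_of_le hMG) fun e => ?_
    have hMG' : M = G := Subgroup.eq_of_le_of_card_ge hMG e.ge
    have htop : N.subgroupOf G ⊔ ⁅(⊤ : Subgroup G), (⊤ : Subgroup G)⁆ = ⊤ := by
      apply Subgroup.map_injective G.subtype_injective
      rw [Subgroup.map_sup, Subgroup.map_subgroupOf_eq_of_le hNG, Subgroup.map_commutator,
        ← MonoidHom.range_eq_map, G.range_subtype]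
      exact hMG'
    haveI := hsolv
    have hq : ⁅(⊤ : Subgroup (G ⧸ N.subgroupOf G)), (⊤ : Subgroup (G ⧸ N.subgroupOf G))⁆ = ⊤ := by
      have := congrArg (Subgroup.map (QuotientGroup.mk' (N.subgroupOf G))) htop
      rwa [Subgroup.map_sup, QuotientGroup.map_mk'_self, bot_sup_eq, Subgroup.map_commutator,
        Subgroup.map_top_of_surjective _ (QuotientGroup.mk'_surjective _)] at this
    haveI : Nontrivial (G ⧸ N.subgroupOf G) :=
      QuotientGroup.nontrivial_iff.mpr fun h => hGN'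
        (le_antisymm (Subgroup.subgroupOf_eq_top.mp h) hNG)
    exact (Group.IsSolvable.commutator_lt_top_of_nontrivial (G ⧸ N.subgroupOf G)).ne hq
  have hNM : N ≤ M := le_sup_left
  haveI : (N.subgroupOf M).Normal :=
    (Subgroup.normal_subgroupOf_iff_le_normalizer hNM).mpr (hMG.trans hGN)
  have hsolvM : Group.IsSolvable (M ⧸ N.subgroupOf M) := by
    haveI := hsolv
    refine solvable_of_solvable_injective (f := QuotientGroup.map (N.subgroupOf M) (N.subgroupOf G)
      (Subgroup.inclusion hMG) fun x hx => hx) ?_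
    rw [injective_iff_map_eq_one]
    intro q hq
    obtain ⟨x, rfl⟩ := QuotientGroup.mk_surjective q
    have hq' : Subgroup.inclusion hMG x ∈ N.subgroupOf G := (QuotientGroup.eq_one_iff _).mp hq
    exact (QuotientGroup.eq_one_iff x).mpr hq'
  have hd1 : N.relIndex M ∣ N.relIndex G :=
    Dvd.intro _ (Subgroup.relIndex_mul_relIndex N M G hNM hMG)
  have hd2 : M.relIndex G ∣ N.relIndex G :=
    Dvd.intro_left _ (Subgroup.relIndex_mul_relIndex N M G hNM hMG)
  obtain ⟨ψ, hψ, hψθ⟩ := ih _ hlt hNM hAM hsolvM (hcop.coprime_dvd_left hd1) rfl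
  haveI := Fintype.ofFinite G
  haveI := Fintype.ofFinite M
  haveI : (M.subgroupOf G).Normal := (Subgroup.normal_subgroupOf_iff_le_normalizer hMG).mpr hGM
  haveI := Fintype.ofFinite (M.subgroupOf G)
  let e : M.subgroupOf G ≃* M := Subgroup.subgroupOfEquivOfLe hMG
  let ψ' : IrrCharacter (M.subgroupOf G) :=
    ⟨fun m => (ψ : M → ℂ) (e m), isIrrCharacter_comp e.toMonoidHom e.surjective ψ.2⟩
  obtain ⟨χ, hχ, hov⟩ := exists_inv_over_abelian (B.subgroupOf A) (conjHom A G hAG)
    (M.subgroupOf G) (fun a n hn => (Subgroup.mem_normalizer_iff.mp (hAM a.2) n).mp hn)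
    (fun x y => Subgroup.mem_sup_right (Subgroup.commutator_mem_commutator x.2 y.2))
    (hcop.coprime_dvd_left hd2)
    (fun b hb => ⟨⟨(b : Γ), hNG (hBN hb)⟩, hNM (hBN hb), fun x => rfl⟩)
    ψ' (fun a n => hψ a a.2 (e n) _ rfl)
  refine ⟨χ, (inv_conjHom_iff hAG).mp hχ, liesOver_trans hMG hNM ?_ hψθ⟩
  rw [liesOver_iff, ← CharsMore.inner_comp_equiv e]
  exact hov

end Chain

end CfsgLib.Glauberman
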