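import Cfsg.Agent.Lib.Glauberman.Solvable

/-!
# The Glauberman correspondence for a `p`-group: multiplicities
-/

set_option autoImplicit false
set_option linter.style.haveILetI false
set_option linter.unusedSectionVars false

namespace CfsgLib.Glauberman

open Cfsg CfsgLib.Chars CfsgLib.Blocks

universe u

variable {Γ : Type u} [Group Γ] [Finite Γ]

/-- The multiplicity form of the correspondence for a `p`-group of operators. -/
theorem exists_pgroup_rel {p : ℕ} [Fact p.Prime] {G S C : Subgroup Γ} [Fintype C]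
    (hSG : S ≤ Subgroup.normalizer (G : Set Γ)) (hcop : (Nat.card G).Coprime (Nat.card S))
    (hS : IsPGroup p S) (hC : C = G ⊓ Subgroup.centralizer (S : Set Γ)) (hCG : C ≤ G) :
    ∃ R : IrrCharacter G → IrrCharacter C → Prop,
      (∀ (χ χ' : IrrCharacter G) β, InvBy S G (χ : G → ℂ) → InvBy S G (χ' : G → ℂ) → R χ β → R χ' β → χ = χ') ∧
      (∀ χ : IrrCharacter G, InvBy S G (χ : G → ℂ) → ∃ β, R χ β) ∧
      (∀ β, ∃ χ : IrrCharacter G, InvBy S G (χ : G → ℂ) ∧ R χ β) ∧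
      (∀ (χ : IrrCharacter G) β, InvBy S G (χ : G → ℂ) → R χ β → ∃ ε : ℤ, (ε = 1 ∨ ε = -1) ∧
        ∀ γ : IrrCharacter C, ∀ m : ℕ,
          classInner (fun c : C => (χ : G → ℂ) ⟨c, hCG c.2⟩) (γ : C → ℂ) = (m : ℂ) →
            (γ = β → (m : ℤ) ≡ ε [ZMOD p]) ∧ (γ ≠ β → p ∣ m)) := by
  classical
  by_cases hp : p ∣ Nat.card G
  · obtain rfl : S = ⊥ := by
      by_contra hne
      obtain ⟨k, hk⟩ := hS.exists_card_eq
      have hk0 : k ≠ 0 := fun h0 => hne (Subgroup.eq_bot_of_card_eq _ (by rw [hk, h0, pow_zero]))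
      exact (Fact.out : p.Prime).one_lt.ne'
        (Nat.eq_one_of_dvd_coprimes hcop hp (hk ▸ dvd_pow_self p hk0))
    obtain rfl : C = G := hC.trans (inf_eq_left.mpr fun x _ =>
      Subgroup.mem_centralizer_iff.mpr fun y hy => by
        rw [Subgroup.mem_bot.mp hy, one_mul, mul_one])
    have hinv : ∀ χ : IrrCharacter C, InvBy ⊥ C (χ : C → ℂ) := fun χ s hs g g' e => by
      rw [show g' = g from Subtype.ext (by simpa [Subgroup.mem_bot.mp hs] using e)]
    refine ⟨fun χ β => χ = β, fun χ χ' β _ _ h h' => h.trans h'.symm, fun χ _ => ⟨χ, rfl⟩,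
      fun β => ⟨β, hinv β, rfl⟩, fun χ β _ h => ⟨1, Or.inl rfl, fun γ m hm => ?_⟩⟩
    subst h
    have h2 : classInner (χ : C → ℂ) (γ : C → ℂ) = (m : ℂ) := hm
    rw [inner_irr] at h2
    constructor
    · rintro rfl
      rw [if_pos rfl] at h2
      rw [show m = 1 from (Nat.cast_eq_one (R := ℂ)).mp h2.symm]
      rfl
    · intro hne
      rw [if_neg (Ne.symm hne)] at h2
      rw [show m = 0 from Nat.cast_eq_zero.mp h2.symm]
      exact dvd_zero p
  · haveI := Fintype.ofFinite G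
    obtain ⟨M, hMmax, hpM⟩ := BlockOrth.exists_maximal_above p
    haveI := hMmax.isPrime
    have hfix := pfix hSG hS hp hCG (fun g hg => by rw [hC]; exact ⟨fun h => h.2, fun h => ⟨hg, h⟩⟩)
    haveI := charP_resField (M := M) (Fact.out : p.Prime) hpM
    refine ⟨fun χ β => Rel M (Subgroup.inclusion hCG) χ β,
      fun χ χ' β h h' => Rel.eq_of_right hfix hpM ((inv_conjHom_iff hSG).mpr h)
        ((inv_conjHom_iff hSG).mpr h'),
      fun χ h => exists_rel hfix hpM ((inv_conjHom_iff hSG).mpr h), fun β => ?_,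
      fun χ β hinv hr => ?_⟩
    · obtain ⟨χ, h, hr⟩ := exists_rel_left hfix hpM β
      exact ⟨χ, (inv_conjHom_iff hSG).mp h, hr⟩
    · obtain ⟨a, ha, hm⟩ := Rel.multiplicity hfix hpM ((inv_conjHom_iff hSG).mpr hinv) hr
      obtain ⟨ε, hε, hεa⟩ : ∃ ε : ℤ, (ε = 1 ∨ ε = -1) ∧ (ε : ResField M) = a := by
        rcases ha with rfl | rfl
        exacts [⟨1, Or.inl rfl, Int.cast_one⟩, ⟨-1, Or.inr rfl, by simp⟩]
      refine ⟨ε, hε, fun γ m hγ => ⟨fun e => ?_, fun e => ?_⟩⟩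
      · rw [← CharP.intCast_eq_intCast (ResField M) p, Int.cast_natCast, hεa]
        exact (hm γ m hγ).1 e
      · exact (CharP.cast_eq_zero_iff _ p m).mp ((hm γ m hγ).2 e)

theorem not_dvd_of_modEq_sign {p : ℕ} [Fact p.Prime] {m : ℕ} {ε : ℤ} (hε : ε = 1 ∨ ε = -1)
    (h : (m : ℤ) ≡ ε [ZMOD p]) : ¬ p ∣ m := fun hd => by
  have h1 : (p : ℤ) ∣ ε := by
    have h2 := Int.modEq_iff_dvd.mp h
    have h3 : (p : ℤ) ∣ (m : ℤ) := Int.natCast_dvd_natCast.mpr hd
    simpa using dvd_add h2 h3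
  rcases hε with rfl | rfl <;>
    exact (Fact.out : p.Prime).one_lt.ne' (by simpa using Int.natCast_dvd.mp h1)

end CfsgLib.Glauberman
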