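import Cfsg.Agent.Lib.Glauberman.RelativeStable

/-!
# The relative correspondence over a normal Sylow subgroup

A `p`-group acts on `K`, and `Q` is a stable normal `p`-subgroup of index prime to `p`; `C` is the
preimage of the fixed points on `K ⧸ Q`. Each invariant irreducible character of `K` has exactly
one invariant constituent on `C` of multiplicity prime to `p`, and this is a bijection.
-/

set_option autoImplicit false
set_option linter.style.haveILetI false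
set_option linter.unusedSectionVars false

namespace CfsgLib.Glauberman

open Cfsg CfsgLib.Chars CfsgLib.Blocks CfsgLib.CharsMore

universe u w

variable {p : ℕ} [Fact p.Prime] {P : Type w} [Group P] {K : Type u} [Group K] [Fintype K]
  {φ : P →* MulAut K} {Q C : Subgroup K} [Q.Normal]

/-- `C` is the preimage of the fixed points of a `p`-group on `K ⧸ Q`. -/
structure RelFix (p : ℕ) (φ : P →* MulAut K) (Q C : Subgroup K) : Prop where
  pgroup : IsPGroup p P
  pQ : IsPGroup p Q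
  cop : ¬ p ∣ Q.index
  mem : ∀ k, k ∈ C ↔ ∀ s, φ s k * k⁻¹ ∈ Q
  stable : ∀ s, ∀ n ∈ Q, φ s n ∈ Q

theorem RelFix.le (h : RelFix p φ Q C) : Q ≤ C := fun q hq =>
  (h.mem q).2 fun s => mul_mem (h.stable s q hq) (inv_mem hq)

theorem RelFix.stableC (h : RelFix p φ Q C) : ∀ s, ∀ c ∈ C, φ s c ∈ C := fun s c hc => by
  have e : φ s c = φ s c * c⁻¹ * c := by simp
  rw [e]
  exact mul_mem (h.le ((h.mem c).1 hc s)) hc

/-- Restriction of a character of `K` to `C`. -/
def resC (C : Subgroup K) (χ : K → ℂ) : C → ℂ := fun c => χ c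

theorem inv_indFun (T : Subgroup K) (hT : ∀ s, ∀ t ∈ T, φ s t ∈ T) {ψ : T → ℂ}
    (hψ : Inv (restrictAct φ T hT) ψ) : Inv φ (indFun T ψ) := by
  intro s g
  rw [indFun_apply, indFun_apply]
  congr 1
  refine (Fintype.sum_equiv (φ s).toEquiv _ _ fun x => ?_).symm
  show extendByZero T ψ (x⁻¹ * g * x) = extendByZero T ψ ((φ s x)⁻¹ * φ s g * φ s x)
  rw [show (φ s x)⁻¹ * φ s g * φ s x = φ s (x⁻¹ * g * x) by simp]
  by_cases hm : x⁻¹ * g * x ∈ T
  · rw [extendByZero_of_mem T ψ hm, extendByZero_of_mem T ψ (hT s _ hm)]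
    exact (hψ s ⟨_, hm⟩).symm
  · rw [extendByZero_of_not_mem T ψ hm, extendByZero_of_not_mem T ψ fun h' => hm ?_]
    simpa using hT s⁻¹ _ h'

theorem inertia_stable (h : RelFix p φ Q C) {θ : Q → ℂ}
    (hθ : Inv (restrictAct φ Q h.stable) θ) :
    ∀ s, ∀ t ∈ inertia Q θ, φ s t ∈ inertia Q θ := by
  intro s t ht
  rw [mem_inertia] at ht ⊢
  intro n
  have hn : φ s⁻¹ n ∈ Q := h.stable _ _ n.2
  rw [show conjBy Q (φ s t) n = restrictAct φ Q h.stable s (conjBy Q t ⟨_, hn⟩) from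
    Subtype.ext (by simp [restrictAct_apply]), hθ, ht]
  exact hθ s⁻¹ n

/-- Two fixed constituents are conjugate by an element of `C`. -/
theorem exists_conj_mem (h : RelFix p φ Q C) {θ θ' : IrrCharacter Q}
    (hθ : Inv (restrictAct φ Q h.stable) (θ : Q → ℂ))
    (hθ' : Inv (restrictAct φ Q h.stable) (θ' : Q → ℂ)) {k₀ : K}
    (hk : conjFn Q k₀ (θ : Q → ℂ) = θ') : ∃ c ∈ C, conjFn Q c (θ : Q → ℂ) = θ' := by
  classical
  set φq := quotAct φ Q h.stable with hφq
  set Y : Set (K ⧸ Q) := {x | ∃ k : K, conjFn Q k (θ : Q → ℂ) = θ' ∧ (k : K ⧸ Q) = x} with hY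
  have hQT : Q ≤ inertia Q (θ : Q → ℂ) := le_inertia Q (isClassFunction_irr θ)
  have hT1 : ∀ t ∈ inertia Q (θ : Q → ℂ), conjFn Q t (θ : Q → ℂ) = θ := fun t ht =>
    funext fun n => (mem_inertia Q).1 ht n
  have hst : ∀ s x, x ∈ Y → φq s x ∈ Y := by
    rintro s _ ⟨k, hk', rfl⟩
    refine ⟨φ s k, funext fun n => ?_, rfl⟩
    have hn : φ s⁻¹ n ∈ Q := h.stable _ _ n.2
    show (θ : Q → ℂ) (conjBy Q (φ s k) n) = _
    rw [show conjBy Q (φ s k) n = restrictAct φ Q h.stable s (conjBy Q k ⟨_, hn⟩) from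
      Subtype.ext (by simp [restrictAct_apply]), hθ]
    exact (congrFun hk' ⟨_, hn⟩).trans (hθ' s⁻¹ n)
  let a : P →* Equiv.Perm Y :=
    { toFun := fun s =>
        { toFun := fun x => ⟨φq s x, hst s x x.2⟩
          invFun := fun x => ⟨φq s⁻¹ x, hst s⁻¹ x x.2⟩
          left_inv := fun x => Subtype.ext (by simp)
          right_inv := fun x => Subtype.ext (by simp) }
      map_one' := Equiv.ext fun x => Subtype.ext (by simp)
      map_mul' := fun s t => Equiv.ext fun x => Subtype.ext (by simp) }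
  have e : Y ≃ (inertia Q (θ : Q → ℂ)).map (QuotientGroup.mk' Q) :=
    (Equiv.mulRight (k₀ : K ⧸ Q)⁻¹).subtypeEquiv fun x => by
      simp only [Equiv.coe_mulRight, Subgroup.mem_map, QuotientGroup.mk'_apply]
      constructor
      · rintro ⟨k, hk', rfl⟩
        refine ⟨k * k₀⁻¹, (mem_inertia Q).2 fun n => ?_, by simp⟩
        have e1 : conjFn Q (k * k₀⁻¹) (θ : Q → ℂ) = θ := by
          rw [conjFn_mul, hk', ← hk, ← conjFn_mul, mul_inv_cancel, conjFn_one]
        exact congrFun e1 n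
      · rintro ⟨t, ht, hte⟩
        refine ⟨t * k₀, ?_, ?_⟩
        · rw [conjFn_mul, hT1 t ht, hk]
        · rw [QuotientGroup.mk_mul, hte, inv_mul_cancel_right]
  have hcard : ¬ p ∣ Nat.card Y := fun hd => h.cop (by
    rw [Nat.card_congr e] at hd
    rw [Subgroup.index_eq_card]
    exact hd.trans (Subgroup.card_subgroup_dvd_card _))
  obtain ⟨⟨x, k, hk', rfl⟩, hfix⟩ := exists_fixed_of_perm h.pgroup a hcard
  refine ⟨k, (h.mem k).2 fun s => ?_, hk'⟩
  have e1 : φq s (k : K ⧸ Q) = (k : K ⧸ Q) := congrArg Subtype.val (hfix s)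
  rwa [quotAct_mk, QuotientGroup.eq_iff_div_mem, div_eq_mul_inv] at e1

/-- `C`'s copy of `Q`, mapped to `Q`. -/
def toQ (Q C : Subgroup K) : Q.subgroupOf C →* Q :=
  ((C.subtype).comp (Q.subgroupOf C).subtype).codRestrict Q fun n => n.2

theorem toQ_bijective (hQC : Q ≤ C) : Function.Bijective (toQ Q C) :=
  ⟨fun _ _ h => Subtype.ext (Subtype.ext (congrArg (fun z : Q => (z : K)) h)),
    fun q => ⟨⟨⟨q, hQC q.2⟩, q.2⟩, rfl⟩⟩

/-- The copy of a character of `Q` on `C`'s copy of `Q`. -/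
noncomputable def irrQC (hQC : Q ≤ C) (θ : IrrCharacter Q) : IrrCharacter (Q.subgroupOf C) :=
  ⟨fun n => (θ : Q → ℂ) (toQ Q C n), isIrrCharacter_comp (toQ Q C) (toQ_bijective hQC).2 θ.2⟩

/-- The part of the correspondence over one fixed constituent. -/
theorem over_fixed (h : RelFix p φ Q C) [Fintype Q] [Fintype C] [Fintype (Q.subgroupOf C)]
    (θ : IrrCharacter Q) (hθ : Inv (restrictAct φ Q h.stable) (θ : Q → ℂ)) :
    (∀ χ : IrrCharacter K, Inv φ (χ : K → ℂ) →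
      classInner (fun n : Q => (χ : K → ℂ) n) (θ : Q → ℂ) ≠ 0 →
      ∃ ξ : IrrCharacter C, Inv (restrictAct φ C h.stableC) (ξ : C → ℂ) ∧
        ((multNat (resC C (χ : K → ℂ)) (ξ : C → ℂ) : ZMod p) = 1 ∨
          (multNat (resC C (χ : K → ℂ)) (ξ : C → ℂ) : ZMod p) = -1) ∧
        ∀ ξ' : IrrCharacter C,
          classInner (fun n : Q.subgroupOf C => (ξ' : C → ℂ) n) (irrQC h.le θ : _ → ℂ) ≠ 0 →
            ξ' ≠ ξ → p ∣ multNat (resC C (χ : K → ℂ)) (ξ' : C → ℂ)) ∧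
    (∀ ξ : IrrCharacter C,
      classInner (fun n : Q.subgroupOf C => (ξ : C → ℂ) n) (irrQC h.le θ : _ → ℂ) ≠ 0 →
      ∃ χ : IrrCharacter K, Inv φ (χ : K → ℂ) ∧
        ¬ p ∣ multNat (resC C (χ : K → ℂ)) (ξ : C → ℂ)) ∧
    (∀ (χ χ' : IrrCharacter K) (ξ : IrrCharacter C), Inv φ (χ : K → ℂ) → Inv φ (χ' : K → ℂ) →
      classInner (fun n : Q => (χ : K → ℂ) n) (θ : Q → ℂ) ≠ 0 →
      classInner (fun n : Q => (χ' : K → ℂ) n) (θ : Q → ℂ) ≠ 0 →
      classInner (fun n : Q.subgroupOf C => (ξ : C → ℂ) n) (irrQC h.le θ : _ → ℂ) ≠ 0 →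
      ¬ p ∣ multNat (resC C (χ : K → ℂ)) (ξ : C → ℂ) →
      ¬ p ∣ multNat (resC C (χ' : K → ℂ)) (ξ : C → ℂ) → χ = χ') := by
  classical
  set T := inertia Q (θ : Q → ℂ) with hTdef
  have hQT : Q ≤ T := le_inertia Q (isClassFunction_irr θ)
  have hTst := inertia_stable h hθ
  haveI := Fintype.ofFinite T
  letI := irrFintype T
  set N := Q.subgroupOf T with hNdef
  haveI := Fintype.ofFinite N
  let eN : N ≃* Q := Subgroup.subgroupOfEquivOfLe hQT
  let θN : IrrCharacter N :=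
    ⟨fun n => (θ : Q → ℂ) (eN n), isIrrCharacter_comp eN.toMonoidHom eN.surjective θ.2⟩
  have hNst : ∀ s, ∀ n ∈ N, restrictAct φ T hTst s n ∈ N := fun s n hn =>
    h.stable s _ hn
  have hpN : IsPGroup p N := h.pQ.of_equiv eN.symm
  have hidx : ¬ p ∣ N.index := fun hd =>
    h.cop (hd.trans (Dvd.intro _ (Subgroup.relIndex_mul_index hQT)))
  have hθT : ∀ (g : T) (n : N), (θN : N → ℂ) (conjBy N g n) = (θN : N → ℂ) n := fun g n =>
    ((mem_inertia Q).1 g.2 (eN n) :)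
  have hθP : Inv (restrictAct (restrictAct φ T hTst) N hNst) (θN : N → ℂ) := fun s n => hθ s (eN n)
  -- the inertia group in `C`
  let θC := irrQC h.le θ
  set TC := T.subgroupOf C with hTCdef
  haveI := Fintype.ofFinite TC
  have hTC : TC = inertia (Q.subgroupOf C) (θC : _ → ℂ) := by
    ext g
    rw [mem_inertia, hTCdef, Subgroup.mem_subgroupOf, hTdef, mem_inertia]
    refine ⟨fun hg n => hg (toQ Q C n), fun hg q => ?_⟩
    obtain ⟨n, rfl⟩ := (toQ_bijective h.le).2 q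
    exact hg n
  let ιD : TC →* T := (C.subtype.comp TC.subtype).codRestrict T fun d => d.2
  have hinj : Function.Injective ιD := fun a b e =>
    Subtype.ext (Subtype.ext (congrArg (fun z : T => (z : K)) e))
  have hD : ∀ t, (∃ d, ιD d = t) ↔ ∀ s, restrictAct φ T hTst s t * t⁻¹ ∈ N := fun t =>
    ⟨fun ⟨d, hd⟩ s => (h.mem (t : K)).1 (by rw [← hd]; exact (d : C).2) s,
      fun ht => ⟨⟨⟨t, (h.mem (t : K)).2 ht⟩, t.2⟩, rfl⟩⟩
  haveI := Fintype.ofFinite (N.comap ιD)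
  obtain ⟨hA, hB, hU⟩ :=
    stable_case N ιD h.pgroup hpN hidx hNst hinj hD θN hθT hθP
  -- conversions
  have overT : ∀ ψ : T → ℂ, OverT N θN ψ ↔
      classInner (fun n : Q => ψ ⟨n, hQT n.2⟩) (θ : Q → ℂ) ≠ 0 := fun ψ => by
    rw [← inner_comp_equiv eN]
    rfl
  have hQCT : Q.subgroupOf C ≤ TC := fun c hc => hQT hc
  let ε : (N.comap ιD) ≃* Q.subgroupOf C :=
    MulEquiv.ofBijective
      (((TC.subtype).comp (N.comap ιD).subtype).codRestrict (Q.subgroupOf C) fun x => x.2)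
      ⟨fun a b e => Subtype.ext (Subtype.ext (congrArg (fun z : Q.subgroupOf C => (z : C)) e)),
        fun n => ⟨⟨⟨(n : C), hQCT n.2⟩, n.2⟩, rfl⟩⟩
  have overD : ∀ η : TC → ℂ, OverD N ιD θN η ↔
      classInner (fun n : Q.subgroupOf C => η ⟨n, hQCT n.2⟩) (θC : _ → ℂ) ≠ 0 := fun η => by
    rw [← inner_comp_equiv ε]
    rfl
  -- the correspondent of an invariant character is invariant
  have hcorr : ∀ χ : IrrCharacter K, Inv φ (χ : K → ℂ) →
      classInner (fun n : Q => (χ : K → ℂ) n) (θ : Q → ℂ) ≠ 0 →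
      ∃ ψ : IrrCharacter T, indFun T (ψ : T → ℂ) = (χ : K → ℂ) ∧
        Inv (restrictAct φ T hTst) (ψ : T → ℂ) ∧ OverT N θN (ψ : T → ℂ) := by
    intro χ hχ hov
    obtain ⟨ψ, hψ, hind, hψθ, -⟩ := exists_correspondent Q hQT θ.2 hTdef χ.2 hov
    have hψθ' : classInner (fun n : Q => ψ ⟨n, hQT n.2⟩) (θ : Q → ℂ) ≠ 0 := by
      rw [hψθ]
      exact hov
    refine ⟨⟨ψ, hψ⟩, hind, fun s t => ?_, (overT ψ).2 hψθ'⟩
    have hirr : IsIrrCharacter T (fun t => ψ (restrictAct φ T hTst s t)) :=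
      isIrrCharacter_comp (restrictAct φ T hTst s).toMonoidHom
        (restrictAct φ T hTst s).surjective hψ
    have hover : classInner (fun n : Q => ψ (restrictAct φ T hTst s ⟨n, hQT n.2⟩))
        (θ : Q → ℂ) ≠ 0 := by
      rw [← inner_comp_equiv (restrictAct φ Q h.stable s)] at hψθ'
      refine fun h0 => hψθ' (Eq.trans ?_ h0)
      congr 1
      exact funext fun n => hθ s n
    have he : indFun T (fun t => ψ (restrictAct φ T hTst s t)) = indFun T ψ := by
      rw [hind]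
      funext g
      rw [← hχ s g, ← hind, indFun_apply, indFun_apply]
      congr 1
      refine Fintype.sum_equiv (φ s).toEquiv _ _ fun x => ?_
      show _ = extendByZero T ψ ((φ s x)⁻¹ * φ s g * φ s x)
      rw [show (φ s x)⁻¹ * φ s g * φ s x = φ s (x⁻¹ * g * x) by simp]
      by_cases hm : x⁻¹ * g * x ∈ T
      · rw [extendByZero_of_mem T _ hm, extendByZero_of_mem T ψ (hTst s _ hm)]
        rfl
      · rw [extendByZero_of_not_mem T _ hm, extendByZero_of_not_mem T ψ fun h' => hm ?_]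
        simpa using hTst s⁻¹ _ h'
    exact congrFun (indFun_injective_of_over Q hQT θ.2 hTdef hirr hover hψ hψθ' he) t
  -- multiplicities
  have hcalc : ∀ (χ : IrrCharacter K) (ψ : IrrCharacter T) (η : IrrCharacter TC),
      indFun T (ψ : T → ℂ) = (χ : K → ℂ) → OverT N θN (ψ : T → ℂ) →
      OverD N ιD θN (η : TC → ℂ) →
      ∀ ξ : IrrCharacter C, indFun TC (η : TC → ℂ) = (ξ : C → ℂ) →
      multNat (resC C (χ : K → ℂ)) (ξ : C → ℂ) =
        multNat (fun d => (ψ : T → ℂ) (ιD d)) (η : TC → ℂ) := by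
    intro χ ψ η hind hψ hη ξ hξ
    have hχc := isCharacter_of_irr χ.2
    have hresC : IsCharacter C (resC C (χ : K → ℂ)) := isCharacter_restrict C hχc
    have hηc := isCharacter_of_irr η.2
    apply Nat.cast_injective (R := ℂ)
    rw [← inner_eq_multNat hresC (isCharacter_of_irr ξ.2),
      ← inner_eq_multNat (φ := fun d => (ψ : T → ℂ) (ιD d))
        (isCharacter_comp ιD (isCharacter_of_irr ψ.2)) hηc,
      ← conj_inner hresC (isCharacter_of_irr ξ.2), ← hξ,
      Chars.inner_indFun TC _ (isClassFunction_of_isCharacter hresC),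
      conj_inner (isCharacter_restrict TC hresC) hηc]
    have e : (fun d : TC => resC C (χ : K → ℂ) d) = ∑ ψ' : IrrCharacter T,
        classInner (fun t : T => (χ : K → ℂ) t) (ψ' : T → ℂ) •
          fun d => (ψ' : T → ℂ) (ιD d) := by
      funext d
      have h1 := congrFun (classFun_eq_sum (isClassFunction_of_isCharacter
        (isCharacter_restrict T hχc))) (ιD d)
      simp only [Finset.sum_apply, Pi.smul_apply, smul_eq_mul] at h1 ⊢
      exact h1
    rw [e, Chars.inner_sum_left, Finset.sum_eq_single ψ]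
    · have hne : classInner (fun t : T => (χ : K → ℂ) t) (ψ : T → ℂ) ≠ 0 := by
        rw [conj_inner (isCharacter_of_irr ψ.2) (isCharacter_restrict T hχc),
          ← Chars.inner_indFun T _ (isClassFunction_irr χ), hind, inner_irr_self]
        exact one_ne_zero
      obtain ⟨-, -, hm1⟩ := correspondence_core Q hQT θ.2 hTdef ψ.2 ((overT _).1 hψ) χ.2 hne
      rw [Chars.inner_smul_left, inner_eq_multNat (isCharacter_restrict T hχc)
        (isCharacter_of_irr ψ.2), hm1, Nat.cast_one, one_mul]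
    · intro ψ' _ hne
      rw [Chars.inner_smul_left]
      by_contra h0
      obtain ⟨h1, h2⟩ := mul_ne_zero_iff.1 h0
      have hjD : ∀ n : N, ∃ d, ιD d = (n : T) := fun n =>
        (hD (n : T)).2 fun s => mul_mem (hNst s n n.2) (inv_mem n.2)
      let jD : N.comap ιD →* N := (ιD.comp (N.comap ιD).subtype).codRestrict N fun x => x.2
      have hjb : Function.Bijective jD :=
        ⟨fun a b he => Subtype.ext (hinj (congrArg (fun z : N => (z : T)) he)), fun n => by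
          obtain ⟨d, hd⟩ := hjD n
          exact ⟨⟨d, show ιD d ∈ N by rw [hd]; exact n.2⟩, Subtype.ext hd⟩⟩
      have h3 : classInner (fun x : N.comap ιD => (ψ' : T → ℂ) (ιD x))
          (fun x => (θN : N → ℂ) ⟨ιD x, x.2⟩) ≠ 0 :=
        inner_comp_ne_zero (N.comap ιD).subtype (χ := fun d => (ψ' : T → ℂ) (ιD d))
          (isCharacter_comp ιD (isCharacter_of_irr ψ'.2)) η
          (isCharacter_of_irr (isIrrCharacter_comp jD hjb.2 θN.2)) h2 hη
      have h4 : OverT N θN (ψ' : T → ℂ) := by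
        intro h5
        rw [← inner_comp_equiv (MulEquiv.ofBijective jD hjb)] at h5
        exact h3 h5
      have h4' := (overT _).1 h4
      have hind' := (correspondence_core Q hQT θ.2 hTdef ψ'.2 h4' χ.2 h1).1
      exact hne (Subtype.ext (indFun_injective_of_over Q hQT θ.2 hTdef ψ'.2 h4' ψ.2
        ((overT _).1 hψ) (hind'.trans hind.symm)))
    · exact fun hh => absurd (Finset.mem_univ ψ) hh
  -- correspondents in `C`
  have hcorrC : ∀ ξ : IrrCharacter C,
      classInner (fun n : Q.subgroupOf C => (ξ : C → ℂ) n) (θC : _ → ℂ) ≠ 0 →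
      ∃ η : IrrCharacter TC, indFun TC (η : TC → ℂ) = (ξ : C → ℂ) ∧
        OverD N ιD θN (η : TC → ℂ) := by
    intro ξ hξ
    obtain ⟨η, hη, hind, hηθ, -⟩ := exists_correspondent (Q.subgroupOf C) hQCT θC.2 hTC ξ.2 hξ
    exact ⟨⟨η, hη⟩, hind, (overD η).2 (by rw [hηθ]; exact hξ)⟩
  have hTCst : ∀ s, ∀ t ∈ TC, restrictAct φ C h.stableC s t ∈ TC := fun s t ht => hTst s _ ht
  refine ⟨fun χ hχ hov => ?_, fun ξ hξ => ?_, fun χ χ' ξ hχ hχ' ho ho' hξ h1 h2 => ?_⟩
  · obtain ⟨ψ, hind, hψinv, hψ⟩ := hcorr χ hχ hov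
    obtain ⟨η, hη, hm, hall⟩ := hA ψ hψinv hψ
    obtain ⟨hηinv, -⟩ := hB η hη
    have hirr : IsIrrCharacter C (indFun TC (η : TC → ℂ)) :=
      isIrr_indFun_of_over (Q.subgroupOf C) hQCT θC.2 hTC η.2 ((overD _).1 hη)
    refine ⟨⟨_, hirr⟩, inv_indFun TC hTCst fun s d => hηinv s _ _ (Subtype.ext rfl), ?_,
      fun ξ' hξ' hne => ?_⟩
    · rw [hcalc χ ψ η hind hψ hη ⟨_, hirr⟩ rfl]
      exact hm
    · obtain ⟨η', hind', hη'⟩ := hcorrC ξ' hξ'
      rw [hcalc χ ψ η' hind hψ hη' ξ' hind']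
      refine hall η' hη' fun e => hne (Subtype.ext ?_)
      rw [← hind', e]
  · obtain ⟨η, hind, hη⟩ := hcorrC ξ hξ
    obtain ⟨-, ψ, hψinv, hψ, hm⟩ := hB η hη
    have hirr : IsIrrCharacter K (indFun T (ψ : T → ℂ)) :=
      isIrr_indFun_of_over Q hQT θ.2 hTdef ψ.2 ((overT _).1 hψ)
    refine ⟨⟨_, hirr⟩, inv_indFun T hTst hψinv, ?_⟩
    rw [hcalc ⟨_, hirr⟩ ψ η rfl hψ hη ξ hind]
    exact hm
  · obtain ⟨η, hind, hη⟩ := hcorrC ξ hξ
    obtain ⟨ψ, hi, hψinv, hψ⟩ := hcorr χ hχ ho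
    obtain ⟨ψ', hi', hψinv', hψ'⟩ := hcorr χ' hχ' ho'
    rw [hcalc χ ψ η hi hψ hη ξ hind] at h1
    rw [hcalc χ' ψ' η hi' hψ' hη ξ hind] at h2
    have e := hU ψ ψ' η hψinv hψinv' hψ hψ' hη h1 h2
    exact Subtype.ext (by rw [← hi, ← hi', e])

/-- The relative correspondence. -/
theorem relative_correspondence (h : RelFix p φ Q C) [Fintype C] :
    (∀ χ : IrrCharacter K, Inv φ (χ : K → ℂ) →
      ∃ ξ : IrrCharacter C, Inv (restrictAct φ C h.stableC) (ξ : C → ℂ) ∧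
        ((multNat (resC C (χ : K → ℂ)) (ξ : C → ℂ) : ZMod p) = 1 ∨
          (multNat (resC C (χ : K → ℂ)) (ξ : C → ℂ) : ZMod p) = -1) ∧
        ∀ ξ' : IrrCharacter C, Inv (restrictAct φ C h.stableC) (ξ' : C → ℂ) → ξ' ≠ ξ →
          p ∣ multNat (resC C (χ : K → ℂ)) (ξ' : C → ℂ)) ∧
    (∀ ξ : IrrCharacter C, Inv (restrictAct φ C h.stableC) (ξ : C → ℂ) →
      ∃ χ : IrrCharacter K, Inv φ (χ : K → ℂ) ∧
        ¬ p ∣ multNat (resC C (χ : K → ℂ)) (ξ : C → ℂ)) ∧
    (∀ (χ χ' : IrrCharacter K) (ξ : IrrCharacter C), Inv φ (χ : K → ℂ) → Inv φ (χ' : K → ℂ) →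
      Inv (restrictAct φ C h.stableC) (ξ : C → ℂ) →
      ¬ p ∣ multNat (resC C (χ : K → ℂ)) (ξ : C → ℂ) →
      ¬ p ∣ multNat (resC C (χ' : K → ℂ)) (ξ : C → ℂ) → χ = χ') := by
  classical
  haveI := Fintype.ofFinite Q
  haveI := Fintype.ofFinite (Q.subgroupOf C)
  set QC := Q.subgroupOf C with hQC
  have hidxC : ¬ p ∣ QC.index := fun hd =>
    h.cop (hd.trans (Subgroup.relIndex_dvd_index_of_normal Q C))
  have hQCst : ∀ s, ∀ n ∈ QC, restrictAct φ C h.stableC s n ∈ QC := fun s n hn => h.stable s _ hn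
  let e : QC ≃* Q := MulEquiv.ofBijective (toQ Q C) (toQ_bijective h.le)
  have hunder : ∀ ξ : IrrCharacter C, Inv (restrictAct φ C h.stableC) (ξ : C → ℂ) →
      ∃ θ : IrrCharacter Q, Inv (restrictAct φ Q h.stable) (θ : Q → ℂ) ∧
        classInner (fun n : QC => (ξ : C → ℂ) n) (irrQC h.le θ : _ → ℂ) ≠ 0 := by
    intro ξ hξ
    obtain ⟨θ', hθ', hinv⟩ := exists_inv_constituent QC h.pgroup hidxC hQCst ξ hξ
    refine ⟨⟨fun q => (θ' : QC → ℂ) (e.symm q),
      isIrrCharacter_comp e.symm.toMonoidHom e.symm.surjective θ'.2⟩, fun s q => ?_, ?_⟩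
    · obtain ⟨n, rfl⟩ := e.surjective q
      show (θ' : QC → ℂ) (e.symm (restrictAct φ Q h.stable s (e n))) =
        (θ' : QC → ℂ) (e.symm (e n))
      rw [show restrictAct φ Q h.stable s (e n) =
        e (restrictAct (restrictAct φ C h.stableC) QC hQCst s n) from Subtype.ext rfl,
        e.symm_apply_apply, e.symm_apply_apply]
      exact hinv s n
    · show classInner _ (fun n : QC => (θ' : QC → ℂ) (e.symm (toQ Q C n))) ≠ 0
      rw [show (fun n : QC => (θ' : QC → ℂ) (e.symm (toQ Q C n))) = (θ' : QC → ℂ) from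
        funext fun n => congrArg (θ' : QC → ℂ) (e.symm_apply_apply n)]
      exact hθ'
  have hup : ∀ (χ : IrrCharacter K) (ξ : IrrCharacter C) (θ : IrrCharacter Q),
      multNat (resC C (χ : K → ℂ)) (ξ : C → ℂ) ≠ 0 →
      classInner (fun n : QC => (ξ : C → ℂ) n) (irrQC h.le θ : _ → ℂ) ≠ 0 →
      classInner (fun n : Q => (χ : K → ℂ) n) (θ : Q → ℂ) ≠ 0 := by
    intro χ ξ θ hm hθ h0
    have hresC : IsCharacter C (resC C (χ : K → ℂ)) := isCharacter_restrict C (isCharacter_of_irr χ.2)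
    refine inner_comp_ne_zero QC.subtype hresC ξ (isCharacter_of_irr (irrQC h.le θ).2) ?_ hθ ?_
    · rw [inner_eq_multNat hresC (isCharacter_of_irr ξ.2)]
      exact_mod_cast hm
    · rw [← inner_comp_equiv e] at h0
      exact h0
  refine ⟨fun χ hχ => ?_, fun ξ hξ => ?_, fun χ χ' ξ hχ hχ' hξ h1 h2 => ?_⟩
  · obtain ⟨θ, hov, hθ⟩ := exists_inv_constituent Q h.pgroup h.cop h.stable χ hχ
    obtain ⟨ξ, hξ, hm, hall⟩ := (over_fixed h θ hθ).1 χ hχ hov
    refine ⟨ξ, hξ, hm, fun ξ' hξ' hne => ?_⟩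
    by_cases h0 : multNat (resC C (χ : K → ℂ)) (ξ' : C → ℂ) = 0
    · rw [h0]
      exact dvd_zero p
    obtain ⟨θ', hθ', hov'⟩ := hunder ξ' hξ'
    obtain ⟨k, hk⟩ := restrict_constituents_conj Q χ.2 θ.2 θ'.2 hov (hup χ ξ' θ' h0 hov')
    obtain ⟨c, hc, hce⟩ := exists_conj_mem h hθ hθ' hk
    refine hall ξ' ?_ hne
    rw [show (irrQC h.le θ' : QC → ℂ) = conjFn QC (⟨c, hc⟩ : C) (irrQC h.le θ : _ → ℂ) from
      funext fun n => (congrFun hce (toQ Q C n)).symm,
      inner_restrict_conjFn QC (isClassFunction_irr ξ')] at hov'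
    exact hov'
  · obtain ⟨θ, hθ, hov⟩ := hunder ξ hξ
    exact (over_fixed h θ hθ).2.1 ξ hov
  · obtain ⟨θ, hθ, hov⟩ := hunder ξ hξ
    exact (over_fixed h θ hθ).2.2 χ χ' ξ hχ hχ'
      (hup χ ξ θ (fun e => h1 (e ▸ dvd_zero p)) hov)
      (hup χ' ξ θ (fun e => h2 (e ▸ dvd_zero p)) hov) hov h1 h2

/-- Degrees of corresponding characters. -/
theorem relative_degree (h : RelFix p φ Q C) [Fintype C] {χ : IrrCharacter K}
    (hχ : Inv φ (χ : K → ℂ)) {ξ : IrrCharacter C}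
    (hξ : Inv (restrictAct φ C h.stableC) (ξ : C → ℂ))
    (hall : ∀ ξ' : IrrCharacter C, Inv (restrictAct φ C h.stableC) (ξ' : C → ℂ) → ξ' ≠ ξ →
      p ∣ multNat (resC C (χ : K → ℂ)) (ξ' : C → ℂ)) :
    (charDegree (χ : K → ℂ) : ZMod p) =
      (multNat (resC C (χ : K → ℂ)) (ξ : C → ℂ) : ZMod p) * charDegree (ξ : C → ℂ) := by
  classical
  letI := irrFintype C
  set φC := restrictAct φ C h.stableC with hφC
  have hresC : IsCharacter C (resC C (χ : K → ℂ)) := isCharacter_restrict C (isCharacter_of_irr χ.2)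
  have hsum : charDegree (χ : K → ℂ) = ∑ ξ' : IrrCharacter C,
      multNat (resC C (χ : K → ℂ)) (ξ' : C → ℂ) * charDegree (ξ' : C → ℂ) := by
    apply Nat.cast_injective (R := ℂ)
    push_cast
    rw [← BlockOrth.irr_apply_one]
    have h1 := congrFun (char_eq_sum_multNat hresC) 1
    rw [show resC C (χ : K → ℂ) 1 = (χ : K → ℂ) 1 from rfl] at h1
    rw [h1, Finset.sum_apply]
    exact Finset.sum_congr rfl fun ξ' _ => by rw [Pi.smul_apply, smul_eq_mul, BlockOrth.irr_apply_one]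
  letI : MulAction P (IrrCharacter C) := MulAction.compHom _ (twistHom φC)
  rw [hsum, Nat.cast_sum, sum_eq_sum_fixedPoints p h.pgroup
    (fun ξ' : IrrCharacter C =>
      ((multNat (resC C (χ : K → ℂ)) (ξ' : C → ℂ) * charDegree (ξ' : C → ℂ) : ℕ) : ZMod p))]
  · rw [Finset.sum_eq_single ξ]
    · rw [Nat.cast_mul]
    · intro ξ' hmem hne
      have hinv : Inv φC (ξ' : C → ℂ) :=
        inv_of_twist_eq fun s => (Finset.mem_filter.1 hmem).2 s
      rw [Nat.cast_mul, (CharP.cast_eq_zero_iff (ZMod p) p _).2 (hall ξ' hinv hne), zero_mul]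
    · exact fun hh => absurd (Finset.mem_filter.2 ⟨Finset.mem_univ _, twist_eq_of_inv hξ⟩) hh
  · intro s ξ'
    show ((multNat (resC C (χ : K → ℂ)) (twist φC s ξ' : C → ℂ) *
      charDegree (twist φC s ξ' : C → ℂ) : ℕ) : ZMod p) = _
    have e1 : charDegree (twist φC s ξ' : C → ℂ) = charDegree (ξ' : C → ℂ) := by
      simp [charDegree, twist_apply]
    have e2 : multNat (resC C (χ : K → ℂ)) (twist φC s ξ' : C → ℂ) =
        multNat (resC C (χ : K → ℂ)) (ξ' : C → ℂ) := by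
      apply Nat.cast_injective (R := ℂ)
      rw [← inner_eq_multNat hresC (isCharacter_of_irr (twist φC s ξ').2),
        ← inner_eq_multNat hresC (isCharacter_of_irr ξ'.2),
        ← inner_comp_equiv (φC s⁻¹) (resC C (χ : K → ℂ)) (ξ' : C → ℂ)]
      congr 1
      funext c
      exact (hχ s⁻¹ c).symm
    rw [e1, e2]

end CfsgLib.Glauberman
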