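import Cfsg.Agent.Lib.Glauberman.Solvable
import Cfsg.Agent.Lib.CharsMore.Gallagher
import Cfsg.Agent.Lib.CharsMore.Clifford
import Cfsg.Agent.Lib.CharsMore.Extend
import Cfsg.Agent.Lib.Chars.Quotient
import Cfsg.Agent.Lib.BlockOrth.Height
import Cfsg.Agent.S0867

/-!
# The relative correspondence over a normal `p`-subgroup: tools and the stable case

A `p`-group acts on a finite group with a normal subgroup of index prime to `p`. Fixed points are
found by counting, and over a character fixed by everything the invariant characters are the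
products of a canonical extension with the invariant characters of the quotient.
-/

set_option autoImplicit false
set_option linter.style.haveILetI false
set_option linter.unusedSectionVars false

namespace CfsgLib.Glauberman

open Cfsg CfsgLib.Chars CfsgLib.Blocks CfsgLib.CharsMore

universe u v w

variable {p : ℕ} [Fact p.Prime] {P : Type w} [Group P]

/-- A permutation action of a `p`-group on a set of size prime to `p` has a fixed point. -/
theorem exists_fixed_of_perm {X : Type*} [Finite X] (hP : IsPGroup p P) (a : P →* Equiv.Perm X)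
    (h : ¬ p ∣ Nat.card X) : ∃ x, ∀ s, a s x = x := by
  letI : MulAction P X := MulAction.compHom X a
  obtain ⟨x, hx⟩ := hP.nonempty_fixed_point_of_prime_not_dvd_card X h
  exact ⟨x, fun s => hx s⟩

/-- Twisting as a homomorphism into permutations. -/
noncomputable def twistHom {H : Type u} [Group H] (φ : P →* MulAut H) :
    P →* Equiv.Perm (IrrCharacter H) where
  toFun s :=
    { toFun := twist φ s
      invFun := twist φ s⁻¹
      left_inv := fun χ => Subtype.ext (funext fun g => by simp [twist_apply])
      right_inv := fun χ => Subtype.ext (funext fun g => by simp [twist_apply]) }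
  map_one' := Equiv.ext fun χ => Subtype.ext (funext fun g => by simp [twist_apply])
  map_mul' s t := Equiv.ext fun χ => Subtype.ext (funext fun g => by simp [twist_apply])

theorem twistHom_apply {H : Type u} [Group H] (φ : P →* MulAut H) (s : P) (χ : IrrCharacter H) :
    twistHom φ s χ = twist φ s χ := rfl

theorem inv_of_twist_eq {H : Type u} [Group H] {φ : P →* MulAut H} {χ : IrrCharacter H}
    (h : ∀ s, twist φ s χ = χ) : Inv φ (χ : H → ℂ) := fun s g => by
  have e := congrFun (congrArg Subtype.val (h s⁻¹)) g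
  rwa [twist_apply, inv_inv] at e

theorem twist_eq_of_inv {H : Type u} [Group H] {φ : P →* MulAut H} {χ : IrrCharacter H}
    (h : Inv φ (χ : H → ℂ)) (s : P) : twist φ s χ = χ :=
  Subtype.ext (funext fun g => h s⁻¹ g)

/-- The restriction of an action to a stable subgroup. -/
def restrictAct {H : Type u} [Group H] (φ : P →* MulAut H) (N : Subgroup H)
    (hN : ∀ s, ∀ n ∈ N, φ s n ∈ N) : P →* MulAut N where
  toFun s :=
    { toFun := fun n => ⟨φ s n, hN s n n.2⟩
      invFun := fun n => ⟨φ s⁻¹ n, hN s⁻¹ n n.2⟩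
      left_inv := fun n => Subtype.ext (by simp)
      right_inv := fun n => Subtype.ext (by simp)
      map_mul' := fun a b => Subtype.ext (map_mul (φ s) (a : H) b) }
  map_one' := MulEquiv.ext fun n => Subtype.ext (by simp)
  map_mul' s t := MulEquiv.ext fun n => Subtype.ext (by simp)

theorem restrictAct_apply {H : Type u} [Group H] (φ : P →* MulAut H) (N : Subgroup H)
    (hN : ∀ s, ∀ n ∈ N, φ s n ∈ N) (s : P) (n : N) : (restrictAct φ N hN s n : H) = φ s n := rfl

theorem map_eq_of_stable {H : Type u} [Group H] (φ : P →* MulAut H) (N : Subgroup H)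
    (hN : ∀ s, ∀ n ∈ N, φ s n ∈ N) (s : P) : N.map (φ s : H →* H) = N := by
  refine le_antisymm ?_ fun n hn => ⟨φ s⁻¹ n, hN s⁻¹ n hn, by simp⟩
  rintro _ ⟨n, hn, rfl⟩
  exact hN s n hn

/-- The action induced on a quotient. -/
noncomputable def quotAct {H : Type u} [Group H] (φ : P →* MulAut H) (N : Subgroup H) [N.Normal]
    (hN : ∀ s, ∀ n ∈ N, φ s n ∈ N) : P →* MulAut (H ⧸ N) where
  toFun s := QuotientGroup.congr N N (φ s) (map_eq_of_stable φ N hN s)
  map_one' := MulEquiv.ext fun q => by
    induction q using QuotientGroup.induction_on with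
    | H x => simp
  map_mul' s t := MulEquiv.ext fun q => by
    induction q using QuotientGroup.induction_on with
    | H x => simp

theorem quotAct_mk {H : Type u} [Group H] (φ : P →* MulAut H) (N : Subgroup H) [N.Normal]
    (hN : ∀ s, ∀ n ∈ N, φ s n ∈ N) (s : P) (x : H) :
    quotAct φ N hN s (x : H ⧸ N) = ((φ s x : H) : H ⧸ N) := rfl

/-- The fixed points of an action. -/
def fixSub {H : Type u} [Group H] (φ : P →* MulAut H) : Subgroup H where
  carrier := {g | ∀ s, φ s g = g}
  one_mem' := fun s => map_one _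
  mul_mem' := fun {a b} ha hb s => by rw [map_mul, ha s, hb s]
  inv_mem' := fun {a} ha s => by rw [map_inv, ha s]

/-- The fixed points of an action on a group of order prime to `p`. -/
theorem pfix_fixSub {H : Type u} [Group H] [Finite H] (φ : P →* MulAut H) (hP : IsPGroup p P)
    (hH : ¬ p ∣ Nat.card H) : PFix p φ (fixSub φ).subtype := by
  refine ⟨hP, Subtype.val_injective, fun g => ⟨fun h => ⟨⟨g, h⟩, rfl⟩, ?_⟩, fun c d hcd => ?_, hH⟩
  · rintro ⟨c, rfl⟩
    exact c.2
  · obtain ⟨k, hk⟩ := isConj_iff.mp hcd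
    let X := {x : H // x * (c : H) * x⁻¹ = d}
    have hst : ∀ (s : P) (x : H), x * (c : H) * x⁻¹ = d → φ s x * (c : H) * (φ s x)⁻¹ = d := by
      intro s x hx
      have e := congrArg (φ s) hx
      rwa [map_mul, map_mul, map_inv, c.2 s, d.2 s] at e
    let a : P →* Equiv.Perm X :=
      { toFun := fun s =>
          { toFun := fun x => ⟨φ s x, hst s x x.2⟩
            invFun := fun x => ⟨φ s⁻¹ x, hst s⁻¹ x x.2⟩
            left_inv := fun x => Subtype.ext (by simp)
            right_inv := fun x => Subtype.ext (by simp) }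
        map_one' := Equiv.ext fun x => Subtype.ext (by simp)
        map_mul' := fun s t => Equiv.ext fun x => Subtype.ext (by simp) }
    have e : X ≃ Subgroup.centralizer ({(d : H)} : Set H) :=
      (Equiv.mulRight k⁻¹).subtypeEquiv fun x => by
        show _ ↔ x * k⁻¹ ∈ Subgroup.centralizer ({(d : H)} : Set H)
        have hk' : k * (c : H) * k⁻¹ = d := hk
        rw [Subgroup.mem_centralizer_singleton_iff, ← hk']
        constructor
        · intro hx
          calc x * k⁻¹ * (k * c * k⁻¹) = (x * c * x⁻¹) * (x * k⁻¹) := by group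
            _ = k * c * k⁻¹ * (x * k⁻¹) := by rw [hx]
        · intro hx
          calc x * c * x⁻¹ = (x * k⁻¹ * (k * c * k⁻¹)) * (k * x⁻¹) := by group
            _ = (k * c * k⁻¹ * (x * k⁻¹)) * (k * x⁻¹) := by rw [hx]
            _ = k * c * k⁻¹ := by group
    have hcard : ¬ p ∣ Nat.card X := fun hd => hH (by
      rw [Nat.card_congr e] at hd
      exact hd.trans (Subgroup.card_subgroup_dvd_card _))
    obtain ⟨x, hx⟩ := exists_fixed_of_perm hP a hcard
    exact isConj_iff.mpr ⟨⟨x, fun s => congrArg Subtype.val (hx s)⟩, Subtype.ext x.2⟩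

/-- A character of a subgroup common to two restrictions. -/
theorem inner_comp_ne_zero {H : Type u} [Group H] [Fintype H] {D : Type v} [Group D] [Fintype D]
    (f : D →* H) {χ : H → ℂ} (hχ : IsCharacter H χ) (ψ : IrrCharacter H) {η : D → ℂ}
    (hη : IsCharacter D η) (h1 : classInner χ (ψ : H → ℂ) ≠ 0)
    (h2 : classInner (fun d => (ψ : H → ℂ) (f d)) η ≠ 0) :
    classInner (fun d => χ (f d)) η ≠ 0 := by
  have hψ := isCharacter_of_irr ψ.2
  have h := inner_restrict_ge f hχ hη {ψ}
  rw [Finset.sum_singleton] at h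
  have e := inner_eq_multNat (φ := fun d => χ (f d)) (isCharacter_comp f hχ) hη
  rw [e, Nat.cast_ne_zero]
  have m1 := multNat_ne_zero hχ hψ h1
  have m2 := multNat_ne_zero (φ := (ψ : H → ℂ) ∘ f) (isCharacter_comp f hψ) hη h2
  have : 0 < multNat χ (ψ : H → ℂ) * multNat ((ψ : H → ℂ) ∘ f) η :=
    Nat.mul_pos (Nat.pos_of_ne_zero m1) (Nat.pos_of_ne_zero m2)
  exact (lt_of_lt_of_le this h).ne'

/-- An invariant character has an invariant constituent on a normal subgroup of index prime
to `p`. -/
theorem exists_inv_constituent {H : Type u} [Group H] [Fintype H] (N : Subgroup H) [N.Normal]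
    [Fintype N] {φ : P →* MulAut H} (hP : IsPGroup p P) (hN : ¬ p ∣ N.index)
    (hst : ∀ s, ∀ n ∈ N, φ s n ∈ N) (χ : IrrCharacter H) (hχ : Inv φ (χ : H → ℂ)) :
    ∃ θ : IrrCharacter N, classInner (fun n : N => (χ : H → ℂ) n) (θ : N → ℂ) ≠ 0 ∧
      Inv (restrictAct φ N hst) (θ : N → ℂ) := by
  classical
  let X := {θ : IrrCharacter N // classInner (fun n : N => (χ : H → ℂ) n) (θ : N → ℂ) ≠ 0}
  set ψN := restrictAct φ N hst with hψN
  have hinner : ∀ (s : P) (θ : IrrCharacter N),
      classInner (fun n : N => (χ : H → ℂ) n) (twist ψN s θ : N → ℂ) =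
        classInner (fun n : N => (χ : H → ℂ) n) (θ : N → ℂ) := by
    intro s θ
    rw [← inner_comp_equiv (ψN s⁻¹) (fun n : N => (χ : H → ℂ) n) (θ : N → ℂ)]
    congr 1
    funext n
    exact (hχ s⁻¹ n).symm
  let a : P →* Equiv.Perm X :=
    { toFun := fun s => (twistHom ψN s).subtypePerm fun θ => by
        rw [twistHom_apply, hinner]
      map_one' := Equiv.ext fun θ => Subtype.ext (by simp)
      map_mul' := fun s t => Equiv.ext fun θ => Subtype.ext (by simp) }
  obtain ⟨θ₀, hθ₀⟩ := Blocks.exists_constituent_restrict N χ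
  have e : X ≃ {φ : N → ℂ // φ ∈ orbitFn N (θ₀ : N → ℂ)} :=
    { toFun := fun θ => ⟨(θ.1 : N → ℂ), (mem_orbitFn N).2
        (restrict_constituents_conj N χ.2 θ₀.2 θ.1.2 hθ₀ θ.2)⟩
      invFun := fun f => ⟨⟨f.1, orbitFn_irr N θ₀.2 f.2⟩, by
        obtain ⟨g, hg⟩ := (mem_orbitFn N).1 f.2
        show classInner (fun n : N => (χ : H → ℂ) n) f.1 ≠ 0
        rw [← hg, inner_restrict_conjFn N (isClassFunction_irr χ)]
        exact hθ₀⟩
      left_inv := fun θ => rfl
      right_inv := fun f => rfl }
  have hcard : ¬ p ∣ Nat.card X := fun hd => hN (by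
    rw [Nat.card_congr e, Nat.card_eq_fintype_card, Fintype.card_coe, card_orbitFn] at hd
    exact hd.trans (Subgroup.index_dvd_of_le (le_inertia N (isClassFunction_irr θ₀))))
  obtain ⟨θ, hθ⟩ := exists_fixed_of_perm hP a hcard
  exact ⟨θ.1, θ.2, inv_of_twist_eq fun s => congrArg Subtype.val (hθ s)⟩

end CfsgLib.Glauberman
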