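import Cfsg.Agent.Lib.Glauberman.RelativeBase

/-!
# The relative correspondence over a character stable under the whole group

`N` is a normal `p`-subgroup of `T` of index prime to `p`, `θ` is fixed by `T` and by the
operators, and `ιD : D →* T` is the inclusion of the elements fixed modulo `N`. The characters
over `θ` are a canonical extension times characters of the quotient, where the correspondence is
the Glauberman one.
-/

set_option autoImplicit false
set_option linter.style.haveILetI false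
set_option linter.unusedSectionVars false

namespace CfsgLib.Glauberman

open Cfsg CfsgLib.Chars CfsgLib.Blocks CfsgLib.CharsMore

universe u v w

variable {p : ℕ} [Fact p.Prime] {P : Type w} [Group P] {T : Type u} [Group T] [Fintype T]
  (N : Subgroup T) [N.Normal] [Fintype N] {φ : P →* MulAut T}

/-- A stable character of a normal `p`-subgroup has an invariant extension. -/
theorem exists_inv_extension (hpN : IsPGroup p N) (hidx : ¬ p ∣ N.index)
    (hst : ∀ s, ∀ n ∈ N, φ s n ∈ N) (θ : IrrCharacter N)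
    (hθT : ∀ (g : T) (n : N), (θ : N → ℂ) (conjBy N g n) = (θ : N → ℂ) n)
    (hθP : Inv (restrictAct φ N hst) (θ : N → ℂ)) :
    ∃ χ : IrrCharacter T, (∀ n : N, (χ : T → ℂ) n = (θ : N → ℂ) n) ∧ Inv φ (χ : T → ℂ) := by
  classical
  obtain ⟨k, ρ, hirr, hρ⟩ := θ.2
  obtain ⟨d, -, hd, hdvd⟩ := irr_degree_dvd_card θ.2
  have hcopN : Nat.Coprime N.index (Nat.card N) := by
    obtain ⟨a, ha⟩ := hpN.exists_card_eq
    rw [ha]
    exact (((Fact.out : p.Prime).coprime_iff_not_dvd.2 hidx).pow_left a).symm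
  have hord : detOrder (θ : N → ℂ) ∣ Nat.card N := by
    rw [← hρ, detOrder, detChar_eq ρ rfl, orderOf_linFun]
    refine orderOf_dvd_of_pow_eq_one (MonoidHom.ext fun n => ?_)
    rw [MonoidHom.pow_apply, ← map_pow, pow_card_eq_one', map_one]
    rfl
  have hcop : Nat.Coprime N.index (detOrder (θ : N → ℂ) * d) :=
    (hcopN.coprime_dvd_right hord).mul_right (hcopN.coprime_dvd_right hdvd)
  obtain ⟨χ, ⟨hχ, hres, hdo⟩, huniq⟩ :=
    Cfsg.Agent.S0867.result N (θ : N → ℂ) θ.2 (fun g n => hθT g n) d hd hcop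
  refine ⟨⟨χ, hχ⟩, hres, fun s g => ?_⟩
  have hs : IsIrrCharacter T (fun x => χ (φ s x)) :=
    isIrrCharacter_comp (φ s).toMonoidHom (φ s).surjective hχ
  have e : (fun x => χ (φ s x)) = χ := by
    refine huniq _ hs (fun n => ?_) ?_
    · show χ (φ s n) = _
      rw [← hθP s n, ← hres]
      rfl
    · refine Nat.Coprime.coprime_dvd_right ?_ (hdo ▸ hcop.coprime_mul_right_right)
      obtain ⟨m, R, hR, rfl⟩ := hχ
      haveI : Representation.IsIrreducible (R.comp (φ s).toMonoidHom) :=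
        isIrreducible_comp (φ s).toMonoidHom (φ s).surjective R
      rw [detOrder, detOrder, detChar_eq (R.comp (φ s).toMonoidHom)
        (χ := fun x => R.character (φ s x)) rfl, detChar_eq R rfl,
        orderOf_linFun, orderOf_linFun]
      refine orderOf_dvd_of_pow_eq_one (MonoidHom.ext fun x => ?_)
      have h1 : detHom R (φ s x) ^ orderOf (detHom R) = 1 := by
        rw [← MonoidHom.pow_apply, pow_orderOf_eq_one, MonoidHom.one_apply]
      rw [MonoidHom.pow_apply, MonoidHom.one_apply, ← h1]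
      congr 1
      exact Units.ext rfl
  exact congrFun e g

variable {D : Type v} [Group D] [Fintype D] (ιD : D →* T)

/-- `ψ` lies over `θ`. -/
def OverT (θ : IrrCharacter N) (ψ : T → ℂ) : Prop :=
  classInner (fun n : N => ψ n) (θ : N → ℂ) ≠ 0

/-- `η` lies over the copy of `θ` in `D`. -/
def OverD (θ : IrrCharacter N) (η : D → ℂ) [Fintype (N.comap ιD)] : Prop :=
  classInner (fun x : N.comap ιD => η x) (fun x => (θ : N → ℂ) ⟨ιD x, x.2⟩) ≠ 0

/-- The correspondence over a stable character. -/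
theorem stable_case (hP : IsPGroup p P) (hpN : IsPGroup p N) (hidx : ¬ p ∣ N.index)
    (hst : ∀ s, ∀ n ∈ N, φ s n ∈ N) (hinj : Function.Injective ιD)
    (hD : ∀ t, (∃ d, ιD d = t) ↔ ∀ s, φ s t * t⁻¹ ∈ N) [Fintype (N.comap ιD)]
    (θ : IrrCharacter N)
    (hθT : ∀ (g : T) (n : N), (θ : N → ℂ) (conjBy N g n) = (θ : N → ℂ) n)
    (hθP : Inv (restrictAct φ N hst) (θ : N → ℂ)) :
    (∀ ψ : IrrCharacter T, Inv φ (ψ : T → ℂ) → OverT N θ (ψ : T → ℂ) →
      ∃ η : IrrCharacter D, OverD N ιD θ (η : D → ℂ) ∧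
        ((multNat (fun d => (ψ : T → ℂ) (ιD d)) (η : D → ℂ) : ZMod p) = 1 ∨
          (multNat (fun d => (ψ : T → ℂ) (ιD d)) (η : D → ℂ) : ZMod p) = -1) ∧
        ∀ η' : IrrCharacter D, OverD N ιD θ (η' : D → ℂ) → η' ≠ η →
          p ∣ multNat (fun d => (ψ : T → ℂ) (ιD d)) (η' : D → ℂ)) ∧
    (∀ η : IrrCharacter D, OverD N ιD θ (η : D → ℂ) →
      (∀ s d d', ιD d' = φ s (ιD d) → (η : D → ℂ) d' = (η : D → ℂ) d) ∧
      ∃ ψ : IrrCharacter T, Inv φ (ψ : T → ℂ) ∧ OverT N θ (ψ : T → ℂ) ∧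
        ¬ p ∣ multNat (fun d => (ψ : T → ℂ) (ιD d)) (η : D → ℂ)) ∧
    (∀ (ψ ψ' : IrrCharacter T) (η : IrrCharacter D), Inv φ (ψ : T → ℂ) → Inv φ (ψ' : T → ℂ) →
      OverT N θ (ψ : T → ℂ) → OverT N θ (ψ' : T → ℂ) → OverD N ιD θ (η : D → ℂ) →
      ¬ p ∣ multNat (fun d => (ψ : T → ℂ) (ιD d)) (η : D → ℂ) →
      ¬ p ∣ multNat (fun d => (ψ' : T → ℂ) (ιD d)) (η : D → ℂ) → ψ = ψ') := by
  classical
  letI := irrFintype T
  letI := irrFintype D
  -- the quotient and its fixed points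
  set φq := quotAct φ N hst with hφq
  set F := fixSub φq with hF
  haveI := Fintype.ofFinite (T ⧸ N)
  haveI := Fintype.ofFinite F
  letI := irrFintype F
  have hfix : PFix p φq F.subtype :=
    pfix_fixSub φq hP (by rw [← Subgroup.index_eq_card]; exact hidx)
  have hmemF : ∀ d : D, ((ιD d : T) : T ⧸ N) ∈ F := fun d s => by
    rw [quotAct_mk, QuotientGroup.eq_iff_div_mem, div_eq_mul_inv]
    exact (hD _).1 ⟨d, rfl⟩ s
  let π : D →* F := ((QuotientGroup.mk' N).comp ιD).codRestrict F hmemF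
  have hπval : ∀ d, ((π d : F) : T ⧸ N) = ((ιD d : T) : T ⧸ N) := fun d => rfl
  have hπ : Function.Surjective π := by
    rintro ⟨q, hq⟩
    obtain ⟨t, rfl⟩ := QuotientGroup.mk_surjective q
    obtain ⟨d, hd⟩ := (hD t).2 fun s => by
      rw [← div_eq_mul_inv, ← QuotientGroup.eq_iff_div_mem, ← quotAct_mk]
      exact hq s
    exact ⟨d, Subtype.ext (by rw [hπval, hd])⟩
  have hker : π.ker = N.comap ιD := by
    ext d
    rw [MonoidHom.mem_ker, ← Subtype.coe_inj, hπval, OneMemClass.coe_one, QuotientGroup.eq_one_iff]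
    rfl
  -- the extension and its restriction
  obtain ⟨X, hX, hXP⟩ := exists_inv_extension N hpN hidx hst θ hθT hθP
  have hXN : IsIrrCharacter N (fun n : N => (X : T → ℂ) n) := by
    rw [funext hX]
    exact θ.2
  let ND := N.comap ιD
  let j : ND →* N := (ιD.comp ND.subtype).codRestrict N fun x => x.2
  have hj : Function.Surjective j := fun n => by
    obtain ⟨d, hd⟩ := (hD (n : T)).2 fun s => mul_mem (hst s n n.2) (inv_mem n.2)
    exact ⟨⟨d, show ιD d ∈ N by rw [hd]; exact n.2⟩, Subtype.ext hd⟩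
  have hXND : IsIrrCharacter ND (fun x : ND => (X : T → ℂ) (ιD x)) := by
    have := isIrrCharacter_comp j hj θ.2
    convert this using 1
    exact funext fun x => hX (j x)
  have hXD : IsIrrCharacter D (fun d => (X : T → ℂ) (ιD d)) := by
    obtain ⟨m, ρ, hρ, hρe⟩ := hXND
    obtain ⟨R, -, hR, hRc⟩ := exists_repExt_of_character ND.subtype ρ
      (isCharacter_comp ιD (isCharacter_of_irr X.2)) fun x => (congrFun hρe x).symm
    rw [← hRc]
    exact isIrrCharacter_character R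
  -- products with characters of the quotients
  have hqT : ∀ β : IrrCharacter (T ⧸ N),
      (⟨fun t => (β : T ⧸ N → ℂ) t, isIrrCharacter_inflate N β.2⟩ : IrrCharacter T) ∈ quotIrr N :=
    fun β => (mem_quotIrr N).2 fun n hn => CharApps.mem_charKer.2 (by
      show (β : T ⧸ N → ℂ) (n : T ⧸ N) = (β : T ⧸ N → ℂ) ((1 : T) : T ⧸ N)
      rw [(QuotientGroup.eq_one_iff n).2 hn, QuotientGroup.mk_one])
  have hqD : ∀ γ : IrrCharacter F,
      (⟨fun d => (γ : F → ℂ) (π d), isIrrCharacter_comp π hπ γ.2⟩ : IrrCharacter D) ∈ quotIrr ND :=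
    fun γ => (mem_quotIrr ND).2 fun d hd => CharApps.mem_charKer.2 (by
      show (γ : F → ℂ) (π d) = (γ : F → ℂ) (π 1)
      rw [show π d = 1 from MonoidHom.mem_ker.1 (by rw [hker]; exact hd), map_one])
  let PT : IrrCharacter (T ⧸ N) → IrrCharacter T := fun β =>
    ⟨_, gallagher_irr N X.2 hXN (hqT β)⟩
  let PD : IrrCharacter F → IrrCharacter D := fun γ => ⟨_, gallagher_irr ND hXD hXND (hqD γ)⟩
  have hPTv : ∀ β t, (PT β : T → ℂ) t = (β : T ⧸ N → ℂ) t * (X : T → ℂ) t := fun β t => rfl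
  have hPDv : ∀ γ d, (PD γ : D → ℂ) d = (γ : F → ℂ) (π d) * (X : T → ℂ) (ιD d) := fun γ d => rfl
  have hPTinj : Function.Injective PT := fun β β' h => by
    have h0 := gallagher_orthonormal N X.2 hXN (hqT β) (hqT β')
    by_contra hne
    rw [if_neg (fun e => hne (Subtype.ext (inflate_injective N (congrArg Subtype.val e))))] at h0
    change classInner (PT β : T → ℂ) (PT β' : T → ℂ) = 0 at h0
    rw [h, inner_irr_self] at h0
    exact one_ne_zero h0
  have hPDorth : ∀ γ γ', classInner (PD γ : D → ℂ) (PD γ' : D → ℂ) = if γ = γ' then 1 else 0 := by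
    intro γ γ'
    refine (gallagher_orthonormal ND hXD hXND (hqD γ) (hqD γ')).trans ?_
    by_cases e : γ = γ'
    · rw [if_pos e, if_pos (by rw [e])]
    · rw [if_neg e, if_neg fun h => e (Subtype.ext (funext fun x => by
        obtain ⟨d, rfl⟩ := hπ x
        exact congrFun (congrArg Subtype.val h) d))]
  have hPTover : ∀ β, OverT N θ (PT β : T → ℂ) := fun β => by
    have e : (fun n : N => (PT β : T → ℂ) n) = (β : T ⧸ N → ℂ) 1 • (θ : N → ℂ) := by
      funext n
      rw [hPTv, hX, (QuotientGroup.eq_one_iff (n : T)).2 n.2]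
      rfl
    rw [OverT, e, Chars.inner_smul_left, inner_irr_self, mul_one]
    exact irr_degree_ne_zero β.2
  have hPTexists : ∀ ψ : IrrCharacter T, OverT N θ (ψ : T → ℂ) → ∃ β, PT β = ψ := by
    intro ψ hψ
    obtain ⟨b, hb, hψe⟩ := gallagher_exists N X.2 hXN ψ.2 (by rw [funext hX]; exact hψ)
    obtain ⟨β, hβ, hbe⟩ := exists_deflate_irr N b.2 fun x hx =>
      CharApps.mem_charKer.1 ((mem_quotIrr N).1 hb hx)
    refine ⟨⟨β, hβ⟩, Subtype.ext ?_⟩
    rw [hψe]
    funext t
    rw [hPTv, Pi.mul_apply, hbe]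
  have hPDexists : ∀ η : IrrCharacter D, OverD N ιD θ (η : D → ℂ) → ∃ γ, PD γ = η := by
    intro η hη
    have e0 : (fun x : ND => (X : T → ℂ) (ιD x)) =
        fun x : ND => (θ : N → ℂ) ⟨ιD x, x.2⟩ := funext fun x => hX (j x)
    obtain ⟨b, hb, hηe⟩ := gallagher_exists ND hXD hXND η.2 (by rw [e0]; exact hη)
    haveI : π.ker.Normal := inferInstance
    obtain ⟨γ₀, hγ₀, hbe⟩ := exists_deflate_irr π.ker b.2 fun x hx =>
      CharApps.mem_charKer.1 ((mem_quotIrr ND).1 hb (by rw [hker] at hx; exact hx))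
    set eq := QuotientGroup.quotientKerEquivOfSurjective π hπ with heq
    refine ⟨⟨fun x => γ₀ (eq.symm x), isIrrCharacter_comp eq.symm.toMonoidHom eq.symm.surjective hγ₀⟩,
      Subtype.ext ?_⟩
    rw [hηe]
    funext d
    rw [hPDv, Pi.mul_apply, hbe]
    show γ₀ (eq.symm (π d)) * _ = _
    rw [show π d = eq (d : D ⧸ π.ker) from rfl, MulEquiv.symm_apply_apply]
  have hPTinv : ∀ β, Inv φ (PT β : T → ℂ) ↔ Inv φq (β : T ⧸ N → ℂ) := by
    intro β
    constructor
    · intro h s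
      let β' : IrrCharacter (T ⧸ N) := ⟨fun q => (β : T ⧸ N → ℂ) (φq s q),
        isIrrCharacter_comp (φq s).toMonoidHom (φq s).surjective β.2⟩
      have e : PT β' = PT β := Subtype.ext (funext fun t => by
        rw [← h s t, hPTv, hPTv, hXP s t]
        rfl)
      exact congrFun (congrArg Subtype.val (hPTinj e))
    · intro h s t
      rw [hPTv, hPTv, hXP s t, ← quotAct_mk φ N hst, h]
  have hm : ∀ (β : IrrCharacter (T ⧸ N)) (γ : IrrCharacter F),
      classInner (fun c : F => (β : T ⧸ N → ℂ) (F.subtype c)) (γ : F → ℂ) =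
        (multNat (fun d => (PT β : T → ℂ) (ιD d)) (PD γ : D → ℂ) : ℂ) := by
    intro β γ
    have hβF : IsCharacter F (fun c : F => (β : T ⧸ N → ℂ) (F.subtype c)) :=
      isCharacter_comp F.subtype (isCharacter_of_irr β.2)
    rw [← inner_eq_multNat (φ := fun d => (PT β : T → ℂ) (ιD d))
      (isCharacter_comp ιD (isCharacter_of_irr (PT β).2)) (isCharacter_of_irr (PD γ).2)]
    have e : (fun d => (PT β : T → ℂ) (ιD d)) = ∑ δ : IrrCharacter F,
        classInner (fun c : F => (β : T ⧸ N → ℂ) (F.subtype c)) (δ : F → ℂ) • (PD δ : D → ℂ) := by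
      funext d
      have h := congrFun (classFun_eq_sum (isClassFunction_of_isCharacter hβF)) (π d)
      simp only [Finset.sum_apply, Pi.smul_apply, smul_eq_mul] at h ⊢
      simp only [hPDv, ← mul_assoc, ← Finset.sum_mul]
      rw [← h, hPTv]
      rfl
    rw [e, Chars.inner_sum_left, Finset.sum_eq_single γ]
    · rw [Chars.inner_smul_left, hPDorth, if_pos rfl, mul_one]
    · intro δ _ hne
      rw [Chars.inner_smul_left, hPDorth, if_neg hne, mul_zero]
    · exact fun h => absurd (Finset.mem_univ γ) h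
  -- the coprime correspondence on the quotient
  obtain ⟨M, hMmax, hpM⟩ := BlockOrth.exists_maximal_above p
  haveI := hMmax.isPrime
  haveI := charP_resField (M := M) (Fact.out : p.Prime) hpM
  have hinjZ : Function.Injective (ZMod.castHom dvd_rfl (ResField M) : ZMod p →+* ResField M) :=
    RingHom.injective _
  have hmult : ∀ (β : IrrCharacter (T ⧸ N)) (γ : IrrCharacter F), Inv φq (β : T ⧸ N → ℂ) → Rel M F.subtype β γ →
      ((multNat (fun d => (PT β : T → ℂ) (ιD d)) (PD γ : D → ℂ) : ZMod p) = 1 ∨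
        (multNat (fun d => (PT β : T → ℂ) (ιD d)) (PD γ : D → ℂ) : ZMod p) = -1) ∧
      ∀ γ', γ' ≠ γ → p ∣ multNat (fun d => (PT β : T → ℂ) (ιD d)) (PD γ' : D → ℂ) := by
    intro β γ hβ hr
    obtain ⟨a, ha, hall⟩ := Rel.multiplicity hfix hpM hβ hr
    refine ⟨?_, fun γ' hne => ?_⟩
    · have e := (hall γ _ (hm β γ)).1 rfl
      rcases ha with rfl | rfl
      · exact Or.inl (hinjZ (by rw [map_natCast, map_one, e]))
      · exact Or.inr (hinjZ (by rw [map_natCast, map_neg, map_one, e]))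
    · exact (CharP.cast_eq_zero_iff (ResField M) p _).1 ((hall γ' _ (hm β γ')).2 hne)
  have hnd : ∀ (β : IrrCharacter (T ⧸ N)) (γ : IrrCharacter F), Inv φq (β : T ⧸ N → ℂ) → Rel M F.subtype β γ →
      ¬ p ∣ multNat (fun d => (PT β : T → ℂ) (ιD d)) (PD γ : D → ℂ) := by
    intro β γ hβ hr hd
    have h0 : (multNat (fun d => (PT β : T → ℂ) (ιD d)) (PD γ : D → ℂ) : ZMod p) = 0 :=
      (CharP.cast_eq_zero_iff (ZMod p) p _).2 hd
    rcases (hmult β γ hβ hr).1 with e | e <;> rw [h0] at e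
    · exact zero_ne_one e
    · exact one_ne_zero (neg_eq_zero.1 e.symm)
  refine ⟨fun ψ hψ hover => ?_, fun η hη => ⟨fun s d d' e => ?_, ?_⟩,
    fun ψ ψ' η hψ hψ' ho ho' hη h1 h2 => ?_⟩
  · obtain ⟨β, rfl⟩ := hPTexists ψ hover
    have hβ := (hPTinv β).1 hψ
    obtain ⟨γ, hr⟩ := exists_rel hfix hpM hβ
    refine ⟨PD γ, ?_, (hmult β γ hβ hr).1, fun η' hη' hne => ?_⟩
    · have e : (fun x : ND => (PD γ : D → ℂ) x) =
          (γ : F → ℂ) 1 • fun x : ND => (θ : N → ℂ) ⟨ιD x, x.2⟩ := by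
        funext x
        rw [hPDv, show π (x : D) = 1 from MonoidHom.mem_ker.1 (by rw [hker]; exact x.2),
          Pi.smul_apply, smul_eq_mul]
        exact congrArg _ (hX (j x))
      rw [OverD, e, Chars.inner_smul_left]
      refine mul_ne_zero (irr_degree_ne_zero γ.2) ?_
      have := inner_irr_self (⟨_, isIrrCharacter_comp j hj θ.2⟩ : IrrCharacter ND)
      exact fun h0 => one_ne_zero (this.symm.trans h0)
    · obtain ⟨γ', rfl⟩ := hPDexists η' hη'
      exact (hmult β γ hβ hr).2 γ' fun h => hne (congrArg PD h)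
  · obtain ⟨γ, rfl⟩ := hPDexists η hη
    have e1 : π d' = π d := Subtype.ext (by
      rw [hπval, hπval, e, QuotientGroup.eq_iff_div_mem, div_eq_mul_inv]
      exact (hD _).1 ⟨d, rfl⟩ s)
    rw [hPDv, hPDv, e1, e, hXP]
  · obtain ⟨γ, rfl⟩ := hPDexists η hη
    obtain ⟨β, hβ, hr⟩ := exists_rel_left hfix hpM γ
    exact ⟨PT β, (hPTinv β).2 hβ, hPTover β, hnd β γ hβ hr⟩
  · obtain ⟨β, rfl⟩ := hPTexists ψ ho
    obtain ⟨β', rfl⟩ := hPTexists ψ' ho'
    obtain ⟨γ, rfl⟩ := hPDexists η hη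
    have key : ∀ b : IrrCharacter (T ⧸ N), Inv φq (b : T ⧸ N → ℂ) →
        ¬ p ∣ multNat (fun d => (PT b : T → ℂ) (ιD d)) (PD γ : D → ℂ) → Rel M F.subtype b γ := by
      intro b hb hnb
      obtain ⟨γ₁, hr₁⟩ := exists_rel hfix hpM hb
      by_cases h : γ = γ₁
      · rw [h]
        exact hr₁
      · exact absurd ((hmult b γ₁ hb hr₁).2 γ h) hnb
    have hβ := (hPTinv β).1 hψ
    have hβ' := (hPTinv β').1 hψ'
    rw [Rel.eq_of_right hfix hpM hβ hβ' (key β hβ h1) (key β' hβ' h2)]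

end CfsgLib.Glauberman
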