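import Cfsg.Agent.Lib.Glauberman.Core
import Cfsg.Agent.Lib.Coprime.Action
import Cfsg.Agent.Lib.CharsMore.CharAlg

/-!
# The Glauberman correspondence inside an ambient group, and for solvable groups of operators
-/

set_option autoImplicit false
set_option linter.style.haveILetI false
set_option linter.unusedSectionVars false

namespace CfsgLib.Glauberman

open Cfsg CfsgLib.Chars CfsgLib.Blocks
open scoped ComplexConjugate

universe u

variable {Γ : Type u} [Group Γ]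

/-- `f'` is the conjugate of `f` by `x`. -/
def ConjRel (x : Γ) (G : Subgroup Γ) {α : Type*} (f f' : G → α) : Prop :=
  ∀ g g' : G, (g' : Γ) = x * g * x⁻¹ → f' g' = f g

/-- Invariance of a function on `G` under a subgroup of the ambient group. -/
def InvBy (S G : Subgroup Γ) {α : Type*} (f : G → α) : Prop :=
  ∀ s ∈ S, ∀ g g' : G, (g' : Γ) = s * g * s⁻¹ → f g' = f g

/-- The action of a subgroup normalising `G`. -/
noncomputable def conjHom (P G : Subgroup Γ) (h : P ≤ Subgroup.normalizer (G : Set Γ)) :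
    P →* MulAut G :=
  (Subgroup.normalizerMonoidHom G).comp (Subgroup.inclusion h)

theorem conjHom_apply (P G : Subgroup Γ) (h : P ≤ Subgroup.normalizer (G : Set Γ)) (s : P) (g : G) :
    (conjHom P G h s g : Γ) = s * g * (s : Γ)⁻¹ := rfl

theorem inv_conjHom_iff {P G : Subgroup Γ} (h : P ≤ Subgroup.normalizer (G : Set Γ)) {α : Type*}
    {f : G → α} : Inv (conjHom P G h) f ↔ InvBy P G f := by
  refine ⟨fun hf s hs g g' e => ?_, fun hf s g => hf s s.2 g _ (conjHom_apply P G h s g)⟩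
  rw [show g' = conjHom P G h ⟨s, hs⟩ g from Subtype.ext e]
  exact hf ⟨s, hs⟩ g

theorem conjRel_unique {x : Γ} {G : Subgroup Γ} (hx : x ∈ Subgroup.normalizer (G : Set Γ))
    {α : Type*} {f f' f'' : G → α} (h' : ConjRel x G f f') (h'' : ConjRel x G f f'') : f' = f'' := by
  funext g
  have hg : x⁻¹ * g * x ∈ G := (Subgroup.mem_normalizer_iff''.mp hx g).mp g.2
  rw [h' ⟨_, hg⟩ g (by simp [mul_assoc]), h'' ⟨_, hg⟩ g (by simp [mul_assoc])]

theorem exists_conjIrr [Finite Γ] {x : Γ} {G : Subgroup Γ}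
    (hx : x ∈ Subgroup.normalizer (G : Set Γ)) (χ : IrrCharacter G) :
    ∃ χ' : IrrCharacter G, ConjRel x G (χ : G → ℂ) χ' := by
  set e := Subgroup.normalizerMonoidHom G ⟨x, hx⟩
  refine ⟨⟨fun g => (χ : G → ℂ) (e.symm g),
    isIrrCharacter_comp e.symm.toMonoidHom e.symm.surjective χ.2⟩, fun g g' h => ?_⟩
  show (χ : G → ℂ) (e.symm g') = _
  rw [show g' = e g from Subtype.ext h, MulEquiv.symm_apply_apply]

section Fix

variable [Finite Γ] {p : ℕ} [Fact p.Prime]

/-- The fixed points of a coprime `p`-group of operators inside the ambient group. -/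
theorem pfix {P G C : Subgroup Γ} (hP : P ≤ Subgroup.normalizer (G : Set Γ)) (hpP : IsPGroup p P)
    (hG : ¬ p ∣ Nat.card G) (hCG : C ≤ G)
    (hC : ∀ g ∈ G, g ∈ C ↔ g ∈ Subgroup.centralizer (P : Set Γ)) :
    PFix p (conjHom P G hP) (Subgroup.inclusion hCG) := by
  have hfix : ∀ c ∈ C, ∀ a ∈ P, a * c * a⁻¹ = c := fun c hc a ha => by
    rw [Subgroup.mem_centralizer_iff.mp ((hC c (hCG hc)).mp hc) a ha, mul_inv_cancel_right]
  refine ⟨hpP, Subgroup.inclusion_injective hCG, fun g => ⟨fun h => ?_, ?_⟩, fun c d hcd => ?_, hG⟩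
  · refine ⟨⟨g, (hC g g.2).mpr (Subgroup.mem_centralizer_iff.mpr fun a ha => ?_)⟩, Subtype.ext rfl⟩
    exact mul_inv_eq_iff_eq_mul.mp (congrArg Subtype.val (h ⟨a, ha⟩))
  · rintro ⟨c, rfl⟩ s
    exact Subtype.ext (hfix c c.2 s s.2)
  · obtain ⟨k, hk⟩ := isConj_iff.mp hcd
    letI : MulAction Γ Γ := MulAction.compHom _ (MulAut.conj : Γ →* MulAut Γ)
    have hcop : (Nat.card P).Coprime (Nat.card G) := by
      obtain ⟨i, hi⟩ := hpP.exists_card_eq
      rw [hi]
      exact ((Fact.out : p.Prime).coprime_iff_not_dvd.mpr hG).pow_left i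
    obtain ⟨m, hm, hmc⟩ := Coprime.exists_centralizing_smul_eq (A := P) (K := G) hP hcop
      (Or.inl (haveI := hpP.isNilpotent; inferInstance)) (x := (c : Γ)) (y := (d : Γ))
      (hfix c c.2) (hfix d d.2) ⟨k, k.2, congrArg Subtype.val hk⟩
    exact isConj_iff.mpr ⟨⟨m, (hC m hm.1).mpr hm.2⟩, Subtype.ext hmc⟩

end Fix

section Corr

variable [Finite Γ]

/-- Properties of a correspondence between `S`-invariant characters of `G` and characters of `C`. -/
structure IsCorr (A : Set Γ) (S G C : Subgroup Γ)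
    (R : IrrCharacter G → IrrCharacter C → Prop) : Prop where
  inv : ∀ χ β, R χ β → InvBy S G (χ : G → ℂ)
  right_unique : ∀ χ β β', R χ β → R χ β' → β = β'
  left_unique : ∀ χ χ' β, R χ β → R χ' β → χ = χ'
  total : ∀ χ : IrrCharacter G, InvBy S G (χ : G → ℂ) → ∃ β, R χ β
  surj : ∀ β, ∃ χ, R χ β
  equivariant : ∀ x ∈ A, ∀ (χ χ' : IrrCharacter G) (β β' : IrrCharacter C), ConjRel x G (χ : G → ℂ) (χ' : G → ℂ) →
    ConjRel x C (β : C → ℂ) (β' : C → ℂ) → R χ β → R χ' β'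

theorem IsCorr.card_eq {A : Set Γ} {S G C : Subgroup Γ} {R : IrrCharacter G → IrrCharacter C → Prop}
    (h : IsCorr A S G C R) :
    Nat.card {χ : IrrCharacter G // InvBy S G (χ : G → ℂ)} = Nat.card (IrrCharacter C) := by
  choose f hf using fun χ : {χ : IrrCharacter G // InvBy S G (χ : G → ℂ)} => h.total χ χ.2
  refine Nat.card_congr (Equiv.ofBijective f ⟨fun a b e => Subtype.ext
    (h.left_unique _ _ _ (hf a) (e ▸ hf b)), fun β => ?_⟩)
  obtain ⟨χ, hχ⟩ := h.surj β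
  exact ⟨⟨χ, h.inv χ β hχ⟩, h.right_unique χ _ β (hf ⟨χ, h.inv χ β hχ⟩) hχ⟩

/-- `χ` lies over `θ`. -/
def LiesOver {G N : Subgroup Γ} (hN : N ≤ G) (χ : G → ℂ) (θ : N → ℂ) : Prop :=
  letI := Fintype.ofFinite N
  classInner (fun n : N => χ ⟨n, hN n.2⟩) θ ≠ 0

theorem liesOver_iff {G N : Subgroup Γ} [Fintype N] (hN : N ≤ G) (χ : G → ℂ) (θ : N → ℂ) :
    LiesOver hN χ θ ↔ classInner (fun n : N => χ ⟨n, hN n.2⟩) θ ≠ 0 := by
  unfold LiesOver
  rw [inner_congr_inst (φ := fun n : N => χ ⟨n, hN n.2⟩) (ψ := θ) (Fintype.ofFinite N) ‹Fintype N›]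

/-- The subgroup of `S` with a nontrivial `p`-group as quotient. -/
theorem exists_char_step {S : Subgroup Γ} (hsolv : Group.IsSolvable S) (hS : S ≠ ⊥) :
    ∃ (p : ℕ) (N P : Subgroup Γ), p.Prime ∧ p ∣ Nat.card S ∧ N < S ∧ P ≤ S ∧ IsPGroup p P ∧
      N ⊔ P = S ∧ ∀ x ∈ Subgroup.normalizer (S : Set Γ), x ∈ Subgroup.normalizer (N : Set Γ) := by
  classical
  haveI := hsolv
  haveI : Nontrivial S := (Subgroup.nontrivial_iff_ne_bot S).mpr hS
  have hne : Nat.card (Abelianization S) ≠ 1 := fun h1 => by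
    have h2 := Group.IsSolvable.commutator_lt_top_of_nontrivial S
    have h3 : (commutator S).index = 1 := by rw [Subgroup.index_eq_card]; exact h1
    exact h2.ne (Subgroup.index_eq_one.mp h3)
  obtain ⟨p, hp, hpA⟩ := Nat.exists_prime_and_dvd hne
  haveI : Fact p.Prime := ⟨hp⟩
  set A := Nat.card (Abelianization S) with hA
  set m := ordCompl[p] A with hm
  let f : S →* Abelianization S := (powMonoidHom m).comp Abelianization.of
  have hf : ∀ s, f s = Abelianization.of s ^ m := fun s => rfl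
  obtain ⟨Q⟩ : Nonempty (Sylow p S) := inferInstance
  refine ⟨p, f.ker.map S.subtype, (Q : Subgroup S).map S.subtype, hp, ?_, ?_, Subgroup.map_subtype_le _,
    Q.isPGroup'.map _, ?_, fun x hx => ?_⟩
  · refine hpA.trans ?_
    rw [hA, show Nat.card (Abelianization S) = (commutator S).index from
      ((Subgroup.index_eq_card _).symm)]
    exact Subgroup.index_dvd_card _
  · refine lt_of_le_of_ne (Subgroup.map_subtype_le _) fun e => ?_
    obtain ⟨a, ha⟩ := exists_prime_orderOf_dvd_card' p hpA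
    obtain ⟨s, rfl⟩ : ∃ s, Abelianization.of s = a := QuotientGroup.mk_surjective a
    have hs : s ∈ f.ker := by
      have : (s : Γ) ∈ f.ker.map S.subtype := e.symm ▸ s.2
      obtain ⟨t, ht, hts⟩ := Subgroup.mem_map.mp this
      exact Subtype.ext hts ▸ ht
    rw [MonoidHom.mem_ker, hf, ← orderOf_dvd_iff_pow_eq_one, ha] at hs
    exact Nat.not_dvd_ordCompl hp Nat.card_pos.ne' hs
  · rw [← Subgroup.map_sup]
    conv_rhs => rw [← S.range_subtype, MonoidHom.range_eq_map]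
    congr 1
    have hidx : ∃ k, f.ker.index = p ^ k := by
      rw [Subgroup.index_ker]
      have hpg : IsPGroup p f.range := by
        rintro ⟨_, s, rfl⟩
        refine ⟨A.factorization p, Subtype.ext ?_⟩
        show f s ^ p ^ A.factorization p = 1
        rw [hf, ← pow_mul, mul_comm, Nat.ordProj_mul_ordCompl_eq_self, pow_card_eq_one']
      exact hpg.exists_card_eq
    obtain ⟨k, hk⟩ := hidx
    rw [← Subgroup.index_eq_one]
    have h1 : (f.ker ⊔ (Q : Subgroup S)).index ∣ p ^ k :=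
      hk ▸ Subgroup.index_dvd_of_le le_sup_left
    have h2 : (f.ker ⊔ (Q : Subgroup S)).index ∣ (Q : Subgroup S).index :=
      Subgroup.index_dvd_of_le le_sup_right
    refine Nat.eq_one_of_dvd_coprimes ?_ h1 h2
    exact ((hp.coprime_iff_not_dvd).mpr Q.not_dvd_index).pow_left k
  · set e := Subgroup.normalizerMonoidHom S ⟨x, hx⟩
    refine Subgroup.mem_normalizer_iff.mpr fun y => ?_
    have hker : ∀ (u : MulAut S) (s : S), s ∈ f.ker → u s ∈ f.ker := fun u s hs => by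
      rw [MonoidHom.mem_ker, hf] at hs ⊢
      rw [show Abelianization.of (u s) = Abelianization.map u.toMonoidHom (Abelianization.of s) from
        (Abelianization.map_of u.toMonoidHom s).symm, ← map_pow, hs, map_one]
    constructor
    · rintro ⟨s, hs, rfl⟩
      exact ⟨e s, hker e s hs, rfl⟩
    · rintro ⟨s, hs, hsy⟩
      refine ⟨e.symm s, hker e.symm s hs, ?_⟩
      have h2 : x * (e.symm s : Γ) * x⁻¹ = x * y * x⁻¹ := by
        rw [← hsy]
        exact congrArg Subtype.val (e.apply_symm_apply s)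
      exact mul_left_cancel (mul_right_cancel h2)

end Corr

section Step

variable [Finite Γ] {p : ℕ} [Fact p.Prime] {M : Ideal AlgInt} [M.IsPrime]

theorem conj_mem_normalizer_inf {x : Γ} {G S : Subgroup Γ}
    (hG : x ∈ Subgroup.normalizer (G : Set Γ)) (hS : x ∈ Subgroup.normalizer (S : Set Γ)) :
    x ∈ Subgroup.normalizer ((G ⊓ Subgroup.centralizer (S : Set Γ) : Subgroup Γ) : Set Γ) := by
  have h1 : Subgroup.zpowers x ≤ Subgroup.normalizer (G : Set Γ) :=
    Subgroup.zpowers_le.mpr hG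
  have h2 : Subgroup.zpowers x ≤
      Subgroup.normalizer ((Subgroup.centralizer (S : Set Γ) : Subgroup Γ) : Set Γ) :=
    Coprime.le_normalizer_centralizer (Subgroup.zpowers_le.mpr hS)
  exact Coprime.le_normalizer_inf_inf h1 h2 (Subgroup.mem_zpowers x)

/-- One step of the iteration. -/
theorem IsCorr.step (hpM : (p : AlgInt) ∈ M) {A A' : Set Γ} {S S₀ P G G₁ C : Subgroup Γ}
    {R₀ : IrrCharacter G → IrrCharacter G₁ → Prop} (h₀ : IsCorr A' S₀ G G₁ R₀)
    (hS : S₀ ⊔ P = S) (hS₀G : S₀ ≤ Subgroup.normalizer (G : Set Γ)) (hPG : P ≤ Subgroup.normalizer (G : Set Γ))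
    (hP : P ≤ Subgroup.normalizer (G₁ : Set Γ)) [Fintype G₁] [Fintype C] (hC : C ≤ G₁)
    (hfix : PFix p (conjHom P G₁ hP) (Subgroup.inclusion hC))
    (hPA : (P : Set Γ) ⊆ A') (hAA : A ⊆ A') (hA : ∀ x ∈ A, x ∈ Subgroup.normalizer (G₁ : Set Γ))
    (hAC : ∀ x ∈ A, x ∈ Subgroup.normalizer (C : Set Γ))
    (hAG : ∀ x ∈ A, x ∈ Subgroup.normalizer (G : Set Γ))
    (hAS : ∀ x ∈ A, x ∈ Subgroup.normalizer (S : Set Γ)) :
    IsCorr A S G C (fun χ β => ∃ γ : IrrCharacter G₁, R₀ χ γ ∧ InvBy P G₁ (γ : G₁ → ℂ) ∧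
      Rel M (Subgroup.inclusion hC) γ β) := by
  classical
  have hinvR : ∀ χ γ, R₀ χ γ → (InvBy P G (χ : G → ℂ) ↔ InvBy P G₁ (γ : G₁ → ℂ)) := by
    intro χ γ hR
    constructor
    · intro hχ s hs
      obtain ⟨γ', hγ'⟩ := exists_conjIrr (hP hs) γ
      have e := h₀.right_unique χ _ _
        (h₀.equivariant s (hPA hs) χ χ γ γ' (hχ s hs) hγ' hR) hR
      exact e ▸ hγ'
    · intro hγ s hs
      obtain ⟨χ', hχ'⟩ := exists_conjIrr (hPG hs) χ
      have e := h₀.left_unique _ _ _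
        (h₀.equivariant s (hPA hs) χ χ' γ γ hχ' (hγ s hs) hR) hR
      exact e ▸ hχ'
  have hinvS : ∀ χ : IrrCharacter G, InvBy S₀ G (χ : G → ℂ) → InvBy P G (χ : G → ℂ) →
      InvBy S G (χ : G → ℂ) := by
    intro χ h1 h2
    let T : Subgroup Γ :=
      { carrier := {s | s ∈ Subgroup.normalizer (G : Set Γ) ∧
          ConjRel s G (χ : G → ℂ) (χ : G → ℂ)}
        one_mem' := ⟨one_mem _, fun g g' e => by rw [show g' = g from Subtype.ext (by simpa using e)]⟩
        mul_mem' := fun {a b} ha hb => ⟨mul_mem ha.1 hb.1, fun g g' e => by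
          rw [ha.2 ⟨b * g * b⁻¹, (Subgroup.mem_normalizer_iff.mp hb.1 g).mp g.2⟩ g'
            (by simp [e, mul_assoc]), hb.2 g _ rfl]⟩
        inv_mem' := fun {a} ha => ⟨inv_mem ha.1, fun g g' e =>
          (ha.2 g' g (by simp [e, mul_assoc])).symm⟩ }
    have hle : S ≤ T := hS ▸ sup_le (fun s hs => ⟨hS₀G hs, h1 s hs⟩) (fun s hs => ⟨hPG hs, h2 s hs⟩)
    exact fun s hs => (hle hs).2
  have hinvG : ∀ χ : IrrCharacter G, InvBy S G (χ : G → ℂ) →
      InvBy S₀ G (χ : G → ℂ) ∧ InvBy P G (χ : G → ℂ) := fun χ hχ =>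
    ⟨fun s hs => hχ s (hS ▸ Subgroup.mem_sup_left hs), fun s hs => hχ s (hS ▸ Subgroup.mem_sup_right hs)⟩
  have hInv := @inv_conjHom_iff Γ _ P G₁ hP ℂ
  refine ⟨?_, ?_, ?_, ?_, ?_, ?_⟩
  · rintro χ β ⟨γ, hR, hγ, -⟩
    exact hinvS χ (h₀.inv χ γ hR) ((hinvR χ γ hR).mpr hγ)
  · rintro χ β β' ⟨γ, hR, hγ, hr⟩ ⟨γ', hR', hγ', hr'⟩
    obtain rfl := h₀.right_unique χ γ γ' hR hR'
    exact Rel.eq_of_left hfix hpM (hInv.mpr hγ) hr hr'
  · rintro χ χ' β ⟨γ, hR, hγ, hr⟩ ⟨γ', hR', hγ', hr'⟩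
    obtain rfl := Rel.eq_of_right hfix hpM (hInv.mpr hγ) (hInv.mpr hγ') hr hr'
    exact h₀.left_unique χ χ' γ hR hR'
  · intro χ hχ
    obtain ⟨γ, hR⟩ := h₀.total χ (hinvG χ hχ).1
    have hγ := (hinvR χ γ hR).mp (hinvG χ hχ).2
    obtain ⟨β, hβ⟩ := exists_rel hfix hpM (hInv.mpr hγ)
    exact ⟨β, γ, hR, hγ, hβ⟩
  · intro β
    obtain ⟨γ, hγ, hβ⟩ := exists_rel_left hfix hpM β
    obtain ⟨χ, hR⟩ := h₀.surj γ
    exact ⟨χ, γ, hR, hInv.mp hγ, hβ⟩
  · rintro x hx χ χ' β β' hχ hβ ⟨γ, hR, hγ, hr⟩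
    obtain ⟨γ', hγ'⟩ := exists_conjIrr (hA x hx) γ
    have hR' := h₀.equivariant x (hAA hx) χ χ' γ γ' hχ hγ' hR
    let e₁ := Subgroup.normalizerMonoidHom G₁ ⟨x, hA x hx⟩
    let e₂ := Subgroup.normalizerMonoidHom C ⟨x, hAC x hx⟩
    have hr' : Rel M (Subgroup.inclusion hC) γ' β' := by
      refine Rel.equivariant e₁.symm e₂.symm (fun c => e₁.injective ?_) hr (fun g => ?_) (fun c => ?_)
      · rw [MulEquiv.apply_symm_apply]
        refine Subtype.ext ?_
        exact (congrArg Subtype.val (e₂.apply_symm_apply c)).symm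
      · exact hγ' _ g (congrArg Subtype.val (e₁.apply_symm_apply g)).symm
      · exact hβ _ c (congrArg Subtype.val (e₂.apply_symm_apply c)).symm
    refine ⟨γ', hR', (hinvR χ' γ' hR').mp (hinvG χ' fun t ht g g' e => ?_).2, hr'⟩
    have hgx : x⁻¹ * g * x ∈ G := (Subgroup.mem_normalizer_iff''.mp (hAG x hx) g).mp g.2
    have hgx' : x⁻¹ * g' * x ∈ G := (Subgroup.mem_normalizer_iff''.mp (hAG x hx) g').mp g'.2
    rw [hχ ⟨_, hgx⟩ g (by simp [mul_assoc]), hχ ⟨_, hgx'⟩ g' (by simp [mul_assoc])]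
    exact hinvS χ (h₀.inv χ γ hR) ((hinvR χ γ hR).mpr hγ) (x⁻¹ * t * x)
      ((Subgroup.mem_normalizer_iff''.mp (hAS x hx) t).mp ht) _ _ (by simp [e, mul_assoc])

theorem _root_.CfsgLib.Glauberman.PFix.transport {P : Type*} [Group P] {G G' C C' : Type*}
    [Group G] [Group G'] [Group C] [Group C'] {φ : P →* MulAut G} {φ' : P →* MulAut G'}
    {ι : C →* G} {ι' : C' →* G'} (h : PFix p φ ι) (e : G' ≃* G) (e' : C' ≃* C)
    (hcomm : ∀ c, e (ι' c) = ι (e' c)) (hact : ∀ s g, e (φ' s g) = φ s (e g)) :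
    PFix p φ' ι' := by
  refine ⟨h.pgroup, fun a b hab => e'.injective (h.inj ?_), fun g => ?_, fun c d hcd => ?_, ?_⟩
  · rw [← hcomm, ← hcomm, hab]
  · constructor
    · intro hg
      obtain ⟨c, hc⟩ := (h.fixed (e g)).mp fun s => by rw [← hact, hg]
      exact ⟨e'.symm c, e.injective (by rw [hcomm, MulEquiv.apply_symm_apply, hc])⟩
    · rintro ⟨c, rfl⟩ s
      exact e.injective (by rw [hact, hcomm, (h.fixed _).mpr ⟨_, rfl⟩ s])
  · have h1 := MonoidHom.map_isConj e.toMonoidHom hcd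
    rw [MulEquiv.coe_toMonoidHom, hcomm, hcomm] at h1
    have h2 := MonoidHom.map_isConj e'.symm.toMonoidHom (h.fusion _ _ h1)
    simpa using h2
  · rw [Nat.card_congr e.toEquiv]
    exact h.cop

/-- The compatibility of one step with a normal subgroup. -/
theorem liesOver_of_step (hpM : (p : AlgInt) ∈ M) {P G₁ N₁ C D : Subgroup Γ}
    (hPG : P ≤ Subgroup.normalizer (G₁ : Set Γ)) (hPN : P ≤ Subgroup.normalizer (N₁ : Set Γ))
    [Fintype G₁] [Fintype N₁] [Fintype C] [Fintype D] (hN : N₁ ≤ G₁)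
    (hnorm : G₁ ≤ Subgroup.normalizer (N₁ : Set Γ)) (hC : C ≤ G₁) (hD : D ≤ N₁) (hDC : D ≤ C)
    (hDiff : ∀ c ∈ C, c ∈ N₁ → c ∈ D)
    (hfix : PFix p (conjHom P G₁ hPG) (Subgroup.inclusion hC))
    (hfixN : PFix p (conjHom P N₁ hPN) (Subgroup.inclusion hD))
    {γ : IrrCharacter G₁} (hγ : InvBy P G₁ (γ : G₁ → ℂ)) {β : IrrCharacter C}
    (hr : Rel M (Subgroup.inclusion hC) γ β) {θ : IrrCharacter N₁}
    (hθ : InvBy P N₁ (θ : N₁ → ℂ)) {η : IrrCharacter D}
    (hrN : Rel M (Subgroup.inclusion hD) θ η)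
    (hover : LiesOver hDC (β : C → ℂ) (η : D → ℂ)) :
    LiesOver hN (γ : G₁ → ℂ) (θ : N₁ → ℂ) := by
  classical
  set N' := N₁.subgroupOf G₁ with hN'
  haveI : N'.Normal := (Subgroup.normal_subgroupOf_iff_le_normalizer hN).2 hnorm
  haveI := Fintype.ofFinite N'
  set ι := Subgroup.inclusion hC with hι
  haveI := Fintype.ofFinite (N'.comap ι)
  let e : N' ≃* N₁ := Subgroup.subgroupOfEquivOfLe hN
  let φN : P →* MulAut N' := (MulAut.congr e.symm).toMonoidHom.comp (conjHom P N₁ hPN)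
  have hact : ∀ s n, e (φN s n) = conjHom P N₁ hPN s (e n) := fun s n => by simp [φN, MulAut.congr]
  let e' : N'.comap ι ≃* D :=
    { toFun := fun d => ⟨((d : C) : Γ), hDiff _ (d : C).2 d.2⟩
      invFun := fun d => ⟨⟨d, hDC d.2⟩, hD d.2⟩
      left_inv := fun d => rfl
      right_inv := fun d => rfl
      map_mul' := fun a b => rfl }
  have hfix' : PFix p φN (ι.subgroupComap N') :=
    hfixN.transport e e' (fun c => Subtype.ext rfl) hact
  let θ' : IrrCharacter N' := ⟨fun n => (θ : N₁ → ℂ) (e n),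
    isIrrCharacter_comp e.toMonoidHom e.surjective θ.2⟩
  let η' : IrrCharacter (N'.comap ι) := ⟨fun d => (η : D → ℂ) (e' d),
    isIrrCharacter_comp e'.toMonoidHom e'.surjective η.2⟩
  have hrel : Rel M (ι.subgroupComap N') θ' η' :=
    Rel.equivariant e e' (fun c => Subtype.ext rfl) hrN (fun g => rfl) (fun c => rfl)
  have hθ' : Inv φN (θ' : N' → ℂ) := fun s n => by
    show (θ : N₁ → ℂ) (e (φN s n)) = (θ : N₁ → ℂ) (e n)
    rw [hact]
    exact (inv_conjHom_iff hPN).mpr hθ s _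
  have h := Rel.over hfix hpM (N := N') (φN := φN) (fun s n => by
      refine Subtype.ext ?_
      show ((e (φN s n) : N₁) : Γ) = _
      rw [hact]
      rfl) (ιN := ι.subgroupComap N') (fun d => rfl) hfix' hθ' hrel ((inv_conjHom_iff hPG).mpr hγ) hr
      (by
        rw [liesOver_iff] at hover
        rw [← CharsMore.inner_comp_equiv e'] at hover
        exact hover)
  rw [liesOver_iff, ← CharsMore.inner_comp_equiv e]
  exact h

end Step

section Main

variable [Finite Γ]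

theorem centralizer_sup_eq (S T : Subgroup Γ) :
    Subgroup.centralizer ((S ⊔ T : Subgroup Γ) : Set Γ) =
      Subgroup.centralizer (S : Set Γ) ⊓ Subgroup.centralizer (T : Set Γ) :=
  le_antisymm (le_inf (Subgroup.centralizer_le (SetLike.coe_subset_coe.mpr le_sup_left))
    (Subgroup.centralizer_le (SetLike.coe_subset_coe.mpr le_sup_right)))
    (Subgroup.le_centralizer_iff.mpr (sup_le (Subgroup.le_centralizer_iff.mp inf_le_left)
      (Subgroup.le_centralizer_iff.mp inf_le_right)))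

/-- **The Glauberman correspondence** for a solvable group of operators, with compatibility. -/
theorem exists_corr (S : Subgroup Γ) (hsolv : Group.IsSolvable S) (A : Set Γ)
    (G N : Subgroup Γ) (hNG : N ≤ G) (hSG : S ≤ Subgroup.normalizer (G : Set Γ))
    (hSN : S ≤ Subgroup.normalizer (N : Set Γ)) (hGN : G ≤ Subgroup.normalizer (N : Set Γ))
    (hcop : (Nat.card G).Coprime (Nat.card S))
    (hA : ∀ x ∈ A, x ∈ Subgroup.normalizer (G : Set Γ) ∧ x ∈ Subgroup.normalizer (N : Set Γ) ∧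
      x ∈ Subgroup.normalizer (S : Set Γ)) :
    ∃ (R : IrrCharacter G → IrrCharacter (G ⊓ Subgroup.centralizer (S : Set Γ) : Subgroup Γ) → Prop)
      (RN : IrrCharacter N → IrrCharacter (N ⊓ Subgroup.centralizer (S : Set Γ) : Subgroup Γ) → Prop),
      IsCorr A S G _ R ∧ IsCorr A S N _ RN ∧
      ∀ χ β θ η, R χ β → RN θ η →
        LiesOver (inf_le_inf_right (Subgroup.centralizer (S : Set Γ)) hNG) β.1 η.1 →
        LiesOver hNG χ.1 θ.1 := by
  classical
  induction hn : Nat.card S using Nat.strong_induction_on generalizing S A with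
  | _ n ih =>
  by_cases hS : S = ⊥
  · subst hS
    have hC : ∀ H : Subgroup Γ, H ⊓ Subgroup.centralizer ((⊥ : Subgroup Γ) : Set Γ) = H := fun H =>
      inf_eq_left.mpr fun x _ => Subgroup.mem_centralizer_iff.mpr fun y hy => by
        rw [Subgroup.mem_bot.mp hy, one_mul, mul_one]
    have base : ∀ H : Subgroup Γ, (∀ x ∈ A, x ∈ Subgroup.normalizer (H : Set Γ)) →
        IsCorr A ⊥ H _ (fun (χ : IrrCharacter H)
        (β : IrrCharacter (H ⊓ Subgroup.centralizer ((⊥ : Subgroup Γ) : Set Γ) : Subgroup Γ)) =>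
        ∀ c, (β : _ → ℂ) c = (χ : H → ℂ) (MulEquiv.subgroupCongr (hC H) c)) := fun H hH => by
      have hinv : ∀ χ : IrrCharacter H, InvBy ⊥ H (χ : H → ℂ) := fun χ s hs g g' e => by
        rw [show g' = g from Subtype.ext (by simpa [Subgroup.mem_bot.mp hs] using e)]
      refine ⟨fun χ β _ => hinv χ, fun χ β β' h h' => Subtype.ext (funext fun c => by rw [h, h']),
        fun χ χ' β h h' => Subtype.ext (funext fun g => ?_), fun χ _ => ⟨⟨fun c =>
          (χ : H → ℂ) (MulEquiv.subgroupCongr (hC H) c), isIrrCharacter_comp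
            (MulEquiv.subgroupCongr (hC H)).toMonoidHom (MulEquiv.surjective _) χ.2⟩, fun c => rfl⟩,
        fun β => ⟨⟨fun g => (β : _ → ℂ) ((MulEquiv.subgroupCongr (hC H)).symm g), isIrrCharacter_comp
            (MulEquiv.subgroupCongr (hC H)).symm.toMonoidHom (MulEquiv.surjective _) β.2⟩,
          fun c => (congrArg (β : _ → ℂ) ((MulEquiv.subgroupCongr (hC H)).symm_apply_apply c)).symm⟩,
        fun x hx χ χ' β β' hχ hβ h c => ?_⟩
      · have e1 := h ((MulEquiv.subgroupCongr (hC H)).symm g)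
        rw [h', MulEquiv.apply_symm_apply] at e1
        exact e1.symm
      · have hg : x⁻¹ * (c : Γ) * x ∈ H :=
          (Subgroup.mem_normalizer_iff''.mp (hH x hx) c).mp c.2.1
        rw [hχ ⟨_, hg⟩ _ (by simp [mul_assoc]),
          hβ ⟨_, by rw [hC]; exact hg⟩ c (by simp [mul_assoc]), h]
        rfl
    refine ⟨_, _, base G fun x hx => (hA x hx).1, base N fun x hx => (hA x hx).2.1,
      fun χ β θ η h h' hover => ?_⟩
    haveI := Fintype.ofFinite N
    haveI := Fintype.ofFinite (N ⊓ Subgroup.centralizer ((⊥ : Subgroup Γ) : Set Γ) : Subgroup Γ)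
    rw [liesOver_iff] at hover ⊢
    rw [← CharsMore.inner_comp_equiv (MulEquiv.subgroupCongr (hC N))]
    convert hover using 3
    · rw [h]
      rfl
    · rw [h']
  · obtain ⟨p, S₀, P, hp, hpS, hlt, hPS, hPp, hsup, hchar⟩ := exists_char_step hsolv hS
    haveI : Fact p.Prime := ⟨hp⟩
    obtain ⟨M, hMmax, hpM⟩ := BlockOrth.exists_maximal_above p
    haveI := hMmax.isPrime
    have hS₀ : S₀ ≤ S := hlt.le
    have hcard : Nat.card S₀ < n := hn ▸ lt_of_le_of_ne (Subgroup.card_le_of_le hS₀) fun e =>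
      hlt.ne (Subgroup.eq_of_le_of_card_ge hS₀ e.ge)
    haveI := hsolv
    obtain ⟨R₀, RN₀, h₀, hN₀, hov⟩ := ih _ hcard S₀ (Coprime.isSolvable_of_le hS₀ hsolv) (A ∪ P)
      (hS₀.trans hSG) (hS₀.trans hSN) (hcop.coprime_dvd_right (Subgroup.card_dvd_of_le hS₀))
      (by
        rintro x (hx | hx)
        · exact ⟨(hA x hx).1, (hA x hx).2.1, hchar x (hA x hx).2.2⟩
        · exact ⟨hSG (hPS hx), hSN (hPS hx), hchar x (Subgroup.le_normalizer (hPS hx))⟩) rfl
    have hP₀ : P ≤ Subgroup.normalizer (S₀ : Set Γ) := fun x hx =>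
      hchar x (Subgroup.le_normalizer (hPS hx))
    have hPH : ∀ H : Subgroup Γ, S ≤ Subgroup.normalizer (H : Set Γ) →
        P ≤ Subgroup.normalizer ((H ⊓ Subgroup.centralizer (S₀ : Set Γ) : Subgroup Γ) : Set Γ) :=
      fun H hH x hx => conj_mem_normalizer_inf (hH (hPS hx)) (hP₀ hx)
    have hle : ∀ H : Subgroup Γ, H ⊓ Subgroup.centralizer (S : Set Γ) ≤
        H ⊓ Subgroup.centralizer (S₀ : Set Γ) :=
      fun H => inf_le_inf_left _ (Subgroup.centralizer_le (SetLike.coe_subset_coe.mpr hS₀))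
    have hpG : ∀ H : Subgroup Γ, H ≤ G →
        ¬ p ∣ Nat.card (H ⊓ Subgroup.centralizer (S₀ : Set Γ) : Subgroup Γ) := fun H hH hd =>
      hp.one_lt.ne' (Nat.eq_one_of_dvd_coprimes hcop
        (hd.trans (Subgroup.card_dvd_of_le (inf_le_left.trans hH))) hpS)
    have hmem : ∀ H : Subgroup Γ, ∀ g ∈ (H ⊓ Subgroup.centralizer (S₀ : Set Γ) : Subgroup Γ),
        g ∈ (H ⊓ Subgroup.centralizer (S : Set Γ) : Subgroup Γ) ↔
          g ∈ Subgroup.centralizer (P : Set Γ) := by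
      intro H g hg
      rw [← hsup, centralizer_sup_eq]
      exact ⟨fun h => h.2.2, fun h => ⟨hg.1, hg.2, h⟩⟩
    haveI : ∀ H : Subgroup Γ, Fintype H := fun H => Fintype.ofFinite H
    have hfixG := pfix (hPH G hSG) hPp (hpG G le_rfl) (hle G) (hmem G)
    have hfixN := pfix (hPH N hSN) hPp (hpG N hNG) (hle N) (hmem N)
    have hA1 : ∀ H : Subgroup Γ, (∀ x ∈ A, x ∈ Subgroup.normalizer (H : Set Γ)) → ∀ x ∈ A,
        x ∈ Subgroup.normalizer ((H ⊓ Subgroup.centralizer (S₀ : Set Γ) : Subgroup Γ) : Set Γ) :=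
      fun H hH x hx => conj_mem_normalizer_inf (hH x hx) (hchar x (hA x hx).2.2)
    have hA2 : ∀ H : Subgroup Γ, (∀ x ∈ A, x ∈ Subgroup.normalizer (H : Set Γ)) → ∀ x ∈ A,
        x ∈ Subgroup.normalizer ((H ⊓ Subgroup.centralizer (S : Set Γ) : Subgroup Γ) : Set Γ) :=
      fun H hH x hx => conj_mem_normalizer_inf (hH x hx) (hA x hx).2.2
    refine ⟨_, _,
      h₀.step hpM hsup (hS₀.trans hSG) (hPS.trans hSG) (hPH G hSG) (hle G) hfixG
        Set.subset_union_right Set.subset_union_left (hA1 G fun x hx => (hA x hx).1)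
        (hA2 G fun x hx => (hA x hx).1) (fun x hx => (hA x hx).1) (fun x hx => (hA x hx).2.2),
      hN₀.step hpM hsup (hS₀.trans hSN) (hPS.trans hSN) (hPH N hSN) (hle N) hfixN
        Set.subset_union_right Set.subset_union_left (hA1 N fun x hx => (hA x hx).2.1)
        (hA2 N fun x hx => (hA x hx).2.1) (fun x hx => (hA x hx).2.1) (fun x hx => (hA x hx).2.2), ?_⟩
    rintro χ β θ η ⟨γ, hR, hγ, hr⟩ ⟨θ₁, hRN, hθ₁, hrN⟩ hover
    refine hov χ γ θ θ₁ hR hRN (liesOver_of_step hpM (hPH G hSG) (hPH N hSN)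
      (inf_le_inf_right _ hNG) ?_ (hle G) (hle N) (inf_le_inf_right _ hNG) ?_ hfixG hfixN hγ hr
      hθ₁ hrN hover)
    · intro x hx
      exact conj_mem_normalizer_inf (hGN hx.1) (Subgroup.centralizer_le_normalizer _ hx.2)
    · exact fun c hc hc' => ⟨hc'.1, hc.2⟩

end Main

end CfsgLib.Glauberman
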