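import Cfsg.Agent.Lib.Glauberman.Count
import Cfsg.Agent.Lib.Glauberman.Layers
import Cfsg.Agent.Lib.CharsMore.Intertwiners
import Cfsg.Agent.Lib.Blocks.Counting

/-!
# Invariant characters above an invariant character, with solvable top layer
-/

set_option autoImplicit false
set_option linter.style.haveILetI false
set_option linter.unusedSectionVars false

namespace CfsgLib.Glauberman

open Cfsg CfsgLib.Chars
open scoped ComplexConjugate

universe u

theorem exists_coprime_factor (m n : ℕ) (hn : n ≠ 0) :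
    ∃ a b, a * b = n ∧ a.Coprime m ∧ ∀ q, q.Prime → q ∣ b → q ∣ m := by
  induction n using Nat.strong_induction_on with
  | _ n ih =>
  by_cases h : n.Coprime m
  · exact ⟨n, 1, mul_one n, h, fun q hq hq1 => absurd (Nat.dvd_one.mp hq1) hq.one_lt.ne'⟩
  obtain ⟨q, hq, hqn, hqm⟩ := Nat.Prime.not_coprime_iff_dvd.mp h
  obtain ⟨n', rfl⟩ := hqn
  have hn' : n' ≠ 0 := fun e => hn (by rw [e, mul_zero])
  obtain ⟨a, b, hab, ha, hb⟩ := ih n' (lt_mul_of_one_lt_left (Nat.pos_of_ne_zero hn') hq.one_lt) hn'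
  refine ⟨a, q * b, by rw [← hab]; ring, ha, fun r hr hrb => ?_⟩
  rcases hr.dvd_mul.mp hrb with h1 | h1
  · exact ((Nat.prime_dvd_prime_iff_eq hr hq).mp h1) ▸ hqm
  · exact hb r hr h1

variable {E : Type u} [Group E] [Finite E]

/-- A linear character of a central subgroup lies under an invariant character. -/
theorem exists_inv_central (G Z : Subgroup E) [G.Normal] (hZG : Z ≤ G)
    (hcen : ∀ z ∈ Z, ∀ x : E, x * z = z * x) (hcop : G.index.Coprime (Z.relIndex G))
    (hsolv : Group.IsSolvable (E ⧸ G)) (ν : Z →* ℂˣ) :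
    ∃ ψ : IrrCharacter G,
      (∀ (z : Z) (g : G), (ψ : G → ℂ) (Subgroup.inclusion hZG z * g) = (ν z : ℂ) * (ψ : G → ℂ) g) ∧
      ∀ (x : E) (g g' : G), (g' : E) = x * g * x⁻¹ → (ψ : G → ℂ) g' = (ψ : G → ℂ) g := by
  classical
  letI : CommGroup Z :=
    { (inferInstance : Group Z) with mul_comm := fun a b => Subtype.ext (hcen b b.2 a) }
  obtain ⟨a, b, hab, ha, hb⟩ := exists_coprime_factor G.index (Nat.card Z) Nat.card_pos.ne'
  set r := Z.relIndex G with hr
  have hbr : (r * a).Coprime b := Nat.coprime_of_dvd fun q hq h1 h2 => by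
    rcases hq.dvd_mul.mp h1 with h | h
    · exact hq.one_lt.ne' (Nat.eq_one_of_dvd_coprimes hcop (hb q hq h2) h)
    · exact hq.one_lt.ne' (Nat.eq_one_of_dvd_coprimes ha h (hb q hq h2))
  obtain ⟨c, hc⟩ : ∃ c, r * a * c ≡ 1 [MOD b] := by
    obtain ⟨w, -, hw⟩ := Nat.exists_mul_mod_eq_of_coprime 1 hbr
      (fun e : b = 0 => Nat.card_pos.ne' (hab.symm.trans (by rw [e, mul_zero])))
    exact ⟨w, hw⟩
  let ϕ : Z.subgroupOf G →* Z := (Subgroup.subgroupOfEquivOfLe hZG).toMonoidHom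
  let f : G →* Z := (powMonoidHom (a * c)).comp (MonoidHom.transfer ϕ)
  have key : ∀ (g : G) (k : ℕ) (g₀ : G), g₀⁻¹ * g ^ k * g₀ ∈ Z.subgroupOf G →
      g₀⁻¹ * g ^ k * g₀ = g ^ k := fun g k g₀ h => by
    apply Subtype.ext
    have h' := hcen _ (Subgroup.mem_subgroupOf.mp h) (g₀ : E)
    push_cast at h' ⊢
    rw [← mul_assoc, ← mul_assoc, mul_inv_cancel, one_mul] at h'
    exact mul_right_cancel h'.symm
  have hrmem : ∀ g : G, (g : E) ^ r ∈ Z := fun g => by
    have := Subgroup.mem_subgroupOf.mp (MonoidHom.transfer_eq_pow_aux g (key g))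
    rwa [SubmonoidClass.coe_pow] at this
  have hf : ∀ g : G, ((f g : Z) : E) = (g : E) ^ (r * a * c) := by
    intro g
    show ((MonoidHom.transfer ϕ g) ^ (a * c) : Z).1 = _
    rw [SubmonoidClass.coe_pow, MonoidHom.transfer_eq_pow ϕ g (key g)]
    show ((g ^ (Z.subgroupOf G).index : G) : E) ^ (a * c) = _
    rw [SubmonoidClass.coe_pow, ← pow_mul, mul_assoc]
    rfl
  have hfb : ∀ g : G, (g : E) ^ (r * a * c * b) = 1 := by
    intro g
    have h1 : ((g : E) ^ r) ^ Nat.card Z = 1 :=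
      congrArg Subtype.val (pow_card_eq_one' (x := (⟨(g : E) ^ r, hrmem g⟩ : Z)))
    rw [show r * a * c * b = r * (a * b * c) by ring, hab, pow_mul, pow_mul, h1, one_pow]
  have hfix : ∀ x : E, x ^ b = 1 → x ^ (r * a * c) = x := fun x hx => by
    conv_rhs => rw [← pow_one x]
    rw [pow_eq_pow_iff_modEq]
    exact Nat.ModEq.of_dvd (orderOf_dvd_of_pow_eq_one hx) hc
  have hff : ∀ g : G, f (Subgroup.inclusion hZG (f g)) = f g := fun g => Subtype.ext (by
    rw [hf]
    show ((f g : Z) : E) ^ _ = _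
    exact hfix _ (by rw [hf, ← pow_mul, hfb]))
  let h : G →* f.ker :=
    { toFun := fun g => ⟨g * (Subgroup.inclusion hZG (f g))⁻¹, MonoidHom.mem_ker.mpr (by
        rw [map_mul, map_inv, hff, mul_inv_cancel])⟩
      map_one' := Subtype.ext (by simp)
      map_mul' := fun x y => Subtype.ext (Subtype.ext (by
        simp only [map_mul, Subgroup.coe_mul, InvMemClass.coe_inv, mul_inv_rev,
          Subgroup.coe_inclusion]
        rw [show ((x : E) * (y : E)) * (((f y : Z) : E)⁻¹ * ((f x : Z) : E)⁻¹) =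
          (x : E) * ((y : E) * ((f y : Z) : E)⁻¹) * ((f x : Z) : E)⁻¹ by group,
          mul_assoc _ _ ((f x : Z) : E)⁻¹, hcen _ (inv_mem (f x).2) ((y : E) * ((f y : Z) : E)⁻¹)]
        group)) }
  set G₁ : Subgroup E := f.ker.map G.subtype with hG₁
  have hG₁G : G₁ ≤ G := Subgroup.map_subtype_le _
  haveI hG₁n : G₁.Normal := by
    refine ⟨?_⟩
    rintro _ ⟨g, hg, rfl⟩ x
    refine ⟨⟨x * g * x⁻¹, Subgroup.Normal.conj_mem inferInstance _ g.2 x⟩, ?_, rfl⟩
    apply Subtype.ext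
    rw [hf]
    show (x * (g : E) * x⁻¹) ^ _ = 1
    rw [conj_pow, ← hf, show f g = 1 from hg]
    simp
  let e : f.ker ≃* G₁ := f.ker.equivMapOfInjective G.subtype G.subtype_injective
  have hcopG₁ : ∀ q, q.Prime → q ∣ Nat.card G₁ → ¬ q ∣ G.index := by
    intro q hq h1 h2
    haveI : Fact q.Prime := ⟨hq⟩
    rw [← Nat.card_congr e.toEquiv] at h1
    obtain ⟨⟨g, hg⟩, hgq⟩ := exists_prime_orderOf_dvd_card' q h1
    have hgo : orderOf (g : E) = q := by
      rw [← hgq, ← orderOf_injective (G.subtype.comp f.ker.subtype)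
        (G.subtype_injective.comp f.ker.subtype_injective) ⟨g, hg⟩]
      rfl
    have hdvd : q ∣ r * a * c := hgo ▸ orderOf_dvd_of_pow_eq_one (by
      rw [← hf, show f g = 1 from hg]; rfl)
    have hqb : q ∣ b := by
      have h3 : q ∣ r * a * c * b := hdvd.trans (dvd_mul_right _ _)
      have hqr : ¬ q ∣ r := fun h => hq.one_lt.ne' (Nat.eq_one_of_dvd_coprimes hcop h2 h)
      have hqa : ¬ q ∣ a := fun h => hq.one_lt.ne' (Nat.eq_one_of_dvd_coprimes ha h h2)
      have h4 : orderOf ((g : E) ^ r) = q := by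
        rw [← hgo]
        exact (Nat.Coprime.orderOf_pow (by rw [hgo]; exact hq.coprime_iff_not_dvd.mpr hqr))
      have h5 : q ∣ Nat.card Z := by
        rw [← h4]
        exact (orderOf_injective Z.subtype Z.subtype_injective (⟨(g : E) ^ r, hrmem g⟩ : Z)).symm ▸
          orderOf_dvd_natCard _
      rw [← hab] at h5
      exact (hq.dvd_mul.mp h5).resolve_left hqa
    have h6 : (q : ℕ) ∣ 1 := by
      have := (hc.of_dvd hqb).symm.trans (Nat.modEq_zero_iff_dvd.mpr hdvd)
      exact Nat.modEq_zero_iff_dvd.mp this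
    exact hq.one_lt.ne' (Nat.dvd_one.mp h6)
  have hidx : ∀ q, q.Prime → q ∣ G₁.index → q ∣ G.index := by
    intro q hq h1
    haveI : Fact q.Prime := ⟨hq⟩
    rw [hG₁, Subgroup.index_map_subtype] at h1
    rcases hq.dvd_mul.mp h1 with h2 | h2
    · rw [Subgroup.index_ker] at h2
      obtain ⟨⟨_, g, rfl⟩, hy⟩ := exists_prime_orderOf_dvd_card' q h2
      refine hb q hq (hy ▸ ?_)
      refine orderOf_dvd_of_pow_eq_one (Subtype.ext (Subtype.ext ?_))
      show ((f g : Z) : E) ^ b = 1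
      rw [hf, ← pow_mul, hfb]
    · exact h2
  have hcop1 : (Nat.card G₁).Coprime G₁.index :=
    Nat.coprime_of_dvd fun q hq h1 h2 => hcopG₁ q hq h1 (hidx q hq h2)
  obtain ⟨S, hS⟩ := Subgroup.exists_right_complement'_of_coprime hcop1
  have hSc : (Nat.card G₁).Coprime (Nat.card S) := by rw [← Subgroup.IsComplement'.index_eq_card hS.symm]; exact hcop1
  have hSsolv : Group.IsSolvable S := by
    let q : S →* E ⧸ G := (QuotientGroup.mk' G).comp S.subtype
    have hinj : Function.Injective (f.comp ((MonoidHom.codRestrict (S.subtype.comp q.ker.subtype) G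
        fun x => (QuotientGroup.eq_one_iff _).mp x.2))) := by
      rw [injective_iff_map_eq_one]
      intro x hx
      have h1 : ((x : S) : E) ∈ G₁ := ⟨_, hx, rfl⟩
      have h2 : ((x : S) : E) ∈ G₁ ⊓ S := ⟨h1, (x : S).2⟩
      rw [(Subgroup.IsComplement'.disjoint hS).eq_bot, Subgroup.mem_bot] at h2
      exact Subtype.ext (Subtype.ext h2)
    haveI : Group.IsSolvable q.ker := Group.isSolvable_of_isSolvable_injective hinj
    haveI := hsolv
    exact Group.isSolvable_of_ker_le_range q.ker.subtype q (le_of_eq q.ker.range_subtype.symm)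
  set N₁ : Subgroup E := Z ⊓ G₁ with hN₁
  let θ : IrrCharacter N₁ := ⟨CharsMore.linFun (ν.comp (Subgroup.inclusion inf_le_left)),
    CharsMore.isIrrCharacter_linFun _⟩
  have hnorm : ∀ K : Subgroup E, K ≤ Z → ∀ L : Subgroup E, L ≤ Subgroup.normalizer (K : Set E) :=
    fun K hK L x _ => Subgroup.mem_normalizer_iff.mpr fun y => ⟨fun hy => by
      rwa [hcen y (hK hy) x, mul_inv_cancel_right], fun hy => by
      have := hcen _ (hK hy) x⁻¹
      simp only [← mul_assoc, inv_mul_cancel, one_mul] at this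
      rwa [mul_right_cancel this]⟩
  obtain ⟨χ, hχi, hχo⟩ := exists_inv_over (G := G₁) (S := S) (N := N₁) inf_le_right
    (fun x _ => Subgroup.normalizer_eq_top (H := G₁) ▸ Subgroup.mem_top x)
    (hnorm _ inf_le_left _) (hnorm _ inf_le_left _) hSc hSsolv θ (fun s _ x y hxy => by
      have : y = x := Subtype.ext (by rw [hxy, hcen _ x.2.1 s, mul_inv_cancel_right])
      rw [this])
  have hχcl := isClassFunction_irr χ
  have hχinv : ∀ (x : E) (g g' : G₁), (g' : E) = x * g * x⁻¹ →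
      (χ : G₁ → ℂ) g' = (χ : G₁ → ℂ) g := by
    intro x g g' hgg
    obtain ⟨y, hy, s, hs, rfl⟩ := Subgroup.mem_sup_of_normal_left.mp
      (show x ∈ G₁ ⊔ S by rw [Subgroup.IsComplement'.sup_eq_top hS]; trivial)
    have hm : s * (g : E) * s⁻¹ ∈ G₁ := hG₁n.conj_mem _ g.2 s
    rw [show g' = (⟨y, hy⟩ : G₁) * ⟨_, hm⟩ * (⟨y, hy⟩ : G₁)⁻¹ from Subtype.ext (by
      rw [hgg]; simp [mul_assoc]), hχcl, hχi s hs g ⟨_, hm⟩ rfl]
  have hcent : ∀ (z : N₁) (x : G₁),
      (χ : G₁ → ℂ) (Subgroup.inclusion inf_le_right z * x) =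
        (θ : N₁ → ℂ) z * (χ : G₁ → ℂ) x := by
    intro z
    haveI := Fintype.ofFinite N₁
    haveI := Fintype.ofFinite G₁
    obtain ⟨w, -, hw⟩ := Blocks.exists_centralScalar χ (z := Subgroup.inclusion inf_le_right z)
      (Subgroup.mem_center_iff.mpr fun x => Subtype.ext (hcen z z.2.1 x))
    have hz : (θ : N₁ → ℂ) z * conj ((θ : N₁ → ℂ) z) = 1 := by
      rw [← irr_inv θ z]
      show (((ν.comp (Subgroup.inclusion inf_le_left)) z : ℂˣ) : ℂ) *
        (((ν.comp (Subgroup.inclusion inf_le_left)) z⁻¹ : ℂˣ) : ℂ) = 1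
      rw [← Units.val_mul, ← map_mul, mul_inv_cancel, map_one, Units.val_one]
    rw [liesOver_iff] at hχo
    have hshift : classInner (fun n : N₁ => (χ : G₁ → ℂ) ⟨n, n.2.2⟩) (θ : N₁ → ℂ) =
        w * conj ((θ : N₁ → ℂ) z) *
          classInner (fun n : N₁ => (χ : G₁ → ℂ) ⟨n, n.2.2⟩) (θ : N₁ → ℂ) := by
      simp only [inner_def]
      rw [mul_left_comm]
      congr 1
      rw [Finset.mul_sum]
      refine (Fintype.sum_equiv (Equiv.mulLeft z) _ _ fun n => ?_).symm
      show _ = (χ : G₁ → ℂ) ⟨(z : E) * n, _⟩ * conj ((θ : N₁ → ℂ) (z * n))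
      have e1 : (χ : G₁ → ℂ) ⟨(z : E) * n, (z * n).2.2⟩ = w * (χ : G₁ → ℂ) ⟨n, n.2.2⟩ :=
        hw ⟨n, n.2.2⟩
      have e2 : (θ : N₁ → ℂ) (z * n) = (θ : N₁ → ℂ) z * (θ : N₁ → ℂ) n :=
        (congrArg Units.val (map_mul _ z n)).trans (Units.val_mul _ _)
      rw [e1, e2, map_mul]
      ring
    have hwz : w * conj ((θ : N₁ → ℂ) z) = 1 :=
      (mul_eq_right₀ hχo).mp hshift.symm
    have : w = (θ : N₁ → ℂ) z := by
      calc w = w * ((θ : N₁ → ℂ) z * conj ((θ : N₁ → ℂ) z)) := by rw [hz, mul_one]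
        _ = (θ : N₁ → ℂ) z * (w * conj ((θ : N₁ → ℂ) z)) := by ring
        _ = _ := by rw [hwz, mul_one]
    intro x
    rw [hw, this]
  let ψ : IrrCharacter G := ⟨fun g => ((ν.comp f) g : ℂ) * (χ : G₁ → ℂ) (e (h g)),
    isIrrCharacter_linear_mul (ν.comp f) (isIrrCharacter_comp (e.toMonoidHom.comp h) (fun y => by
      obtain ⟨x, rfl⟩ := e.surjective y
      exact ⟨x, congrArg e (Subtype.ext (by
        show (x : G) * (Subgroup.inclusion hZG (f x))⁻¹ = x
        rw [show f x = 1 from x.2, map_one, inv_one, mul_one]))⟩) χ.2)⟩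
  refine ⟨ψ, fun z g => ?_, fun x g g' hgg => ?_⟩
  · set z' : G := Subgroup.inclusion hZG z with hz'
    show ((ν.comp f) (z' * g) : ℂ) * (χ : G₁ → ℂ) (e (h (z' * g))) =
      (ν z : ℂ) * (((ν.comp f) g : ℂ) * (χ : G₁ → ℂ) (e (h g)))
    have hm : (e (h z') : E) ∈ Z := by
      show (z : E) * ((f z' : Z) : E)⁻¹ ∈ Z
      exact mul_mem z.2 (inv_mem (f z').2)
    have h1 : (θ : N₁ → ℂ) ⟨e (h z'), hm, (e (h z')).2⟩ = ((ν (z * (f z')⁻¹) : ℂˣ) : ℂ) := rfl
    rw [map_mul h, map_mul e, show e (h z') =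
      Subgroup.inclusion inf_le_right (⟨e (h z'), hm, (e (h z')).2⟩ : N₁) from rfl, hcent, h1,
      map_mul, map_mul ν, map_inv]
    simp only [MonoidHom.comp_apply, Units.val_mul]
    rw [show (ν (f z') : ℂ) * (ν (f g) : ℂ) * ((ν z : ℂ) * ((ν (f z'))⁻¹ : ℂˣ) *
        (χ : G₁ → ℂ) (e (h g))) = ((ν (f z') : ℂ) * ((ν (f z'))⁻¹ : ℂˣ)) *
        ((ν z : ℂ) * ((ν (f g) : ℂ) * (χ : G₁ → ℂ) (e (h g)))) by ring,
      ← Units.val_mul, mul_inv_cancel, Units.val_one, one_mul]
  · have hfg : f g' = f g := Subtype.ext (by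
      rw [hf, hgg, conj_pow, ← hf, hcen _ (f g).2 x, mul_inv_cancel_right])
    show ((ν.comp f) g' : ℂ) * (χ : G₁ → ℂ) (e (h g')) =
      ((ν.comp f) g : ℂ) * (χ : G₁ → ℂ) (e (h g))
    rw [show (ν.comp f) g' = (ν.comp f) g from congrArg ν hfg, hχinv x (e (h g)) (e (h g')) (by
      show (g' : E) * ((f g' : Z) : E)⁻¹ = x * ((g : E) * ((f g : Z) : E)⁻¹) * x⁻¹
      rw [hgg, hfg, mul_assoc (x * (g : E)), hcen _ (inv_mem (f g).2) x⁻¹]
      group)]

section Twist

variable {Γ : Type u} [Group Γ] [Fintype Γ]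

theorem exists_inv_over_solvable_top (G N : Subgroup Γ) [hG : G.Normal] [hN : N.Normal]
    [Fintype G] [Fintype N] (hNG : N ≤ G) (hcop : G.index.Coprime (N.relIndex G))
    (hsolv : Group.IsSolvable (Γ ⧸ G)) (θ : IrrCharacter N)
    (hinv : ∀ (x : Γ) (n : N), (θ : N → ℂ) ⟨x * n * x⁻¹, hN.conj_mem n n.2 x⟩ = (θ : N → ℂ) n) :
    ∃ χ : IrrCharacter G, classInner (fun n : N => (χ : G → ℂ) ⟨n, hNG n.2⟩) (θ : N → ℂ) ≠ 0 ∧
      ∀ (x : Γ) (g : G), (χ : G → ℂ) ⟨x * g * x⁻¹, hG.conj_mem g g.2 x⟩ = (χ : G → ℂ) g := by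
  classical
  obtain ⟨d, ρ, hρ, hρθ⟩ := θ.2
  haveI := hρ
  haveI := CharsMore.nontrivial_of_isIrreducible ρ
  have hI : CharsMore.IsInvariant N ρ := CharsMore.isInvariant_of_character N ρ fun g n => by
    rw [hρθ]; exact hinv g n
  let π := CharsMore.extProj N ρ
  have hπ : Function.Surjective π := CharsMore.extProj_surjective N ρ hI
  let Gt : Subgroup (CharsMore.extGroup N ρ) := G.comap π
  let Nt : Subgroup (CharsMore.extGroup N ρ) := CharsMore.extCentre N ρ
  let I : Subgroup (CharsMore.extGroup N ρ) := (CharsMore.extIncl N ρ).range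
  have hker : π.ker ≤ Nt := fun x hx => by
    show π x ∈ N
    rw [MonoidHom.mem_ker.mp hx]
    exact N.one_mem
  have hIN : I ≤ Nt := by
    rintro _ ⟨n, rfl⟩
    exact n.2
  have hNtG : Nt ≤ Gt := fun x hx => hNG hx
  haveI hIn : I.Normal := ⟨by
    rintro _ ⟨n, rfl⟩ x
    refine ⟨CharsMore.conjBy N (π x) n, Subtype.ext (Prod.ext rfl (Units.ext ?_))⟩
    show ρ (CharsMore.conjBy N (π x) n) = _
    have h1 := CharsMore.extLift_intertwines N ρ x n
    have h2 : (CharsMore.extLift N ρ x : Module.End ℂ (Fin d → ℂ)) * ρ n *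
        ((CharsMore.extLift N ρ x)⁻¹ : (Module.End ℂ (Fin d → ℂ))ˣ) =
        ρ (CharsMore.conjBy N (π x) n) := by
      rw [h1, mul_assoc, Units.mul_inv, mul_one]
    exact h2.symm⟩
  -- elements over `1` are central
  have hkc : ∀ z ∈ π.ker, ∀ x : CharsMore.extGroup N ρ, x * z = z * x := by
    intro z hz x
    have h1 := CharsMore.extLift_eq N ρ ⟨z, hker hz⟩
    have e : (⟨π z, hker hz⟩ : N) = 1 := Subtype.ext (MonoidHom.mem_ker.mp hz)
    rw [show ρ ⟨CharsMore.extProj N ρ ((⟨z, hker hz⟩ : Nt) : CharsMore.extGroup N ρ),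
      (⟨z, hker hz⟩ : Nt).2⟩ = 1 by exact (congrArg ρ e).trans (map_one ρ)] at h1
    refine Subtype.ext (Prod.ext ?_ (Units.ext ?_))
    · show π x * π z = π z * π x
      rw [MonoidHom.mem_ker.mp hz, mul_one, one_mul]
    · show (CharsMore.extLift N ρ x : Module.End ℂ (Fin d → ℂ)) * CharsMore.extLift N ρ z =
        (CharsMore.extLift N ρ z : Module.End ℂ (Fin d → ℂ)) * CharsMore.extLift N ρ x
      rw [h1, mul_smul_comm, smul_mul_assoc, mul_one, one_mul]
  let q := QuotientGroup.mk' I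
  have hq : Function.Surjective q := QuotientGroup.mk'_surjective I
  have hqk : q.ker = I := QuotientGroup.ker_mk' I
  let G' := Gt.map q
  let Z := Nt.map q
  haveI : G'.Normal := Subgroup.Normal.map inferInstance q hq
  have hcen : ∀ z ∈ Z, ∀ x, x * z = z * x := by
    rintro _ ⟨z, hz, rfl⟩ x
    obtain ⟨x, rfl⟩ := hq x
    have hk : z * (CharsMore.extIncl N ρ ⟨π z, hz⟩)⁻¹ ∈ π.ker := by
      rw [MonoidHom.mem_ker, map_mul, map_inv]
      exact mul_inv_cancel (π z)
    have hz' : q z = q (z * (CharsMore.extIncl N ρ ⟨π z, hz⟩)⁻¹) := by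
      rw [map_mul, map_inv, show q (CharsMore.extIncl N ρ ⟨π z, hz⟩) = 1 from
        MonoidHom.mem_ker.mp (hqk.ge ⟨_, rfl⟩), inv_one, mul_one]
    rw [hz', ← map_mul, ← map_mul, hkc _ hk x]
  have hidx : G'.index = G.index := by
    show (Gt.map q).index = _
    rw [Subgroup.index_map_eq Gt hq (hqk.le.trans (hIN.trans hNtG)),
      Subgroup.index_comap_of_surjective G hπ]
  have hrel : Z.relIndex G' = N.relIndex G := by
    show (Nt.map q).relIndex (Gt.map q) = _
    rw [Subgroup.relIndex_map_map, hqk, sup_eq_left.mpr hIN, sup_eq_left.mpr (hIN.trans hNtG)]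
    show (N.comap π).relIndex Gt = _
    rw [Subgroup.relIndex_comap, Subgroup.map_comap_eq_self_of_surjective hπ]
  have hsolv' : Group.IsSolvable (_ ⧸ G') := by
    let f : CharsMore.extGroup N ρ →* _ := (QuotientGroup.mk' G').comp q
    have hf : Gt ≤ f.ker := fun x hx =>
      MonoidHom.mem_ker.mpr ((QuotientGroup.eq_one_iff _).mpr ⟨x, hx, rfl⟩)
    haveI := hsolv
    haveI : Group.IsSolvable (CharsMore.extGroup N ρ ⧸ Gt) := by
      refine Group.isSolvable_of_isSolvable_injective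
        (f := QuotientGroup.map Gt G π (le_refl Gt)) ?_
      rw [injective_iff_map_eq_one]
      intro y hy
      obtain ⟨x, rfl⟩ := QuotientGroup.mk_surjective y
      have h1 : π x ∈ G := (QuotientGroup.eq_one_iff _).mp hy
      exact (QuotientGroup.eq_one_iff x).mpr h1
    exact Group.isSolvable_of_surjective (f := QuotientGroup.lift Gt f hf)
      (QuotientGroup.lift_surjective_of_surjective Gt f
        ((QuotientGroup.mk'_surjective G').comp hq) hf)
  have hνk : (q.subgroupMap Nt).ker ≤ (CharsMore.extScalar N ρ)⁻¹.ker := by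
    intro x hx
    obtain ⟨n, hn⟩ := hqk.le (MonoidHom.mem_ker.mpr (congrArg Subtype.val hx) :
      (x : CharsMore.extGroup N ρ) ∈ q.ker)
    rw [MonoidHom.mem_ker, MonoidHom.inv_apply, show x = ⟨_, hIN ⟨n, rfl⟩⟩ from Subtype.ext hn.symm,
      CharsMore.extScalar_extIncl, inv_one]
  let ν : Z →* ℂˣ := (q.subgroupMap Nt).liftOfSurjective (q.subgroupMap_surjective Nt)
    ⟨(CharsMore.extScalar N ρ)⁻¹, hνk⟩
  have hν : ∀ x : Nt, ν (q.subgroupMap Nt x) = (CharsMore.extScalar N ρ x)⁻¹ := fun x =>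
    MonoidHom.liftOfRightInverse_comp_apply _ _ _ _ x
  obtain ⟨ψ, hψν, hψinv⟩ := exists_inv_central G' Z (Subgroup.map_mono hNtG) hcen
    (by rw [hidx, hrel]; exact hcop) hsolv' ν
  -- the product with the projective extension
  let qG : Gt →* G' := q.subgroupMap Gt
  let P : Gt → ℂ := fun x => (ψ : G' → ℂ) (qG x)
  let R : Representation ℂ Gt (Fin d → ℂ) :=
    (Units.coeHom _).comp ((CharsMore.extLift N ρ).comp Gt.subtype)
  let ι : N →* Gt := (CharsMore.extIncl N ρ).codRestrict Gt fun n => hNtG (hIN ⟨n, rfl⟩)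
  have hRι : (R.comp ι : Representation ℂ N (Fin d → ℂ)) = ρ := MonoidHom.ext fun n => rfl
  haveI : R.IsIrreducible := by
    haveI : Representation.IsIrreducible (R.comp ι : Representation ℂ N (Fin d → ℂ)) := by
      rw [hRι]; exact hρ
    exact CharsMore.isIrreducible_of_comp ι R
  have hιinj : Function.Injective ι := fun a b h =>
    Subtype.ext (congrArg (fun y : Gt => π y) h)
  haveI : ι.range.Normal := ⟨by
    rintro _ ⟨n, rfl⟩ x
    obtain ⟨m, hm⟩ := hIn.conj_mem _ ⟨n, rfl⟩ (x : CharsMore.extGroup N ρ)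
    exact ⟨m, Subtype.ext hm⟩⟩
  let eι : N ≃* ι.range := MonoidHom.ofInjective hιinj
  have hPirr : IsIrrCharacter Gt P :=
    isIrrCharacter_comp qG (q.subgroupMap_surjective Gt) ψ.2
  have hT : IsIrrCharacter Gt R.character := isIrrCharacter_character R
  have hTI : IsIrrCharacter ι.range (fun n : ι.range => R.character n) := by
    have h1 := isIrrCharacter_comp eι.symm.toMonoidHom eι.symm.surjective θ.2
    convert h1 using 2 with n
    obtain ⟨m, rfl⟩ := eι.surjective n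
    show LinearMap.trace ℂ _ (R (ι m)) = (θ : N → ℂ) (eι.symm (eι m))
    rw [eι.symm_apply_apply, ← hρθ]
    exact congrArg (LinearMap.trace ℂ _) (congrFun (congrArg DFunLike.coe hRι) m)
  have hqι : ∀ m : N, qG (ι m) = 1 := fun m => Subtype.ext
    (MonoidHom.mem_ker.mp (hqk.ge ⟨m, rfl⟩))
  haveI := Fintype.ofFinite Gt
  haveI := Fintype.ofFinite ι.range
  have hF : IsIrrCharacter Gt (fun x => R.character x * P x) := by
    rw [isIrrCharacter_iff_inner_self]
    refine ⟨isCharacter_mul (isCharacter_of_irr hT) (isCharacter_of_irr hPirr), ?_⟩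
    rw [← inner_irr_self (⟨P, hPirr⟩ : IrrCharacter Gt), inner_def, inner_def]
    congr 1
    have havg := CharsMore.coset_norm_avg ι.range hT hTI
    have hP : ∀ (n : ι.range) (x : Gt), P ((n : Gt) * x) = P x := by
      rintro ⟨_, m, rfl⟩ x
      show (ψ : G' → ℂ) (qG (ι m * x)) = _
      rw [map_mul, hqι, one_mul]
    calc ∑ x : Gt, R.character x * P x * conj (R.character x * P x)
        = (Nat.card ι.range : ℂ)⁻¹ * ∑ n : ι.range, ∑ x : Gt,
            R.character ((n : Gt) * x) * conj (R.character ((n : Gt) * x)) * (P x * conj (P x)) := by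
          rw [Finset.sum_congr (s₁ := Finset.univ) rfl fun (n : ι.range) _ => show ∑ x : Gt,
              R.character ((n : Gt) * x) * conj (R.character ((n : Gt) * x)) * (P x * conj (P x)) =
              ∑ x : Gt, R.character x * P x * conj (R.character x * P x) from
              Fintype.sum_equiv (Equiv.mulLeft (n : Gt)) _ _ fun x => by
                simp only [Equiv.coe_mulLeft, hP, map_mul]; ring,
            Finset.sum_const, Finset.card_univ, ← Nat.card_eq_fintype_card, nsmul_eq_mul,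
            ← mul_assoc, inv_mul_cancel₀ (card_ne_zero ι.range), one_mul]
      _ = _ := by
          rw [Finset.sum_comm, Finset.mul_sum]
          refine Finset.sum_congr rfl fun x _ => ?_
          rw [← Finset.sum_mul, ← mul_assoc, havg x, one_mul]
  -- descend to `G`
  let p : Gt →* G := π.subgroupComap G
  have hp : Function.Surjective p := π.subgroupComap_surjective_of_surjective G hπ
  have hconst : ∀ z ∈ p.ker, R.character z * P z = R.character 1 * P 1 := by
    intro z hz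
    have hz' : (z : CharsMore.extGroup N ρ) ∈ π.ker := congrArg Subtype.val hz
    have hz2 : ((z : CharsMore.extGroup N ρ) : _) ∈ Nt := hker hz'
    have h1 := CharsMore.extLift_eq N ρ ⟨z, hz2⟩
    have e : (⟨π z, hz2⟩ : N) = 1 := Subtype.ext (MonoidHom.mem_ker.mp hz')
    rw [show ρ ⟨CharsMore.extProj N ρ ((⟨z, hz2⟩ : Nt) : CharsMore.extGroup N ρ),
      (⟨z, hz2⟩ : Nt).2⟩ = 1 by exact (congrArg ρ e).trans (map_one ρ)] at h1
    have h2 := hψν (q.subgroupMap Nt ⟨z, hz2⟩) 1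
    rw [mul_one, hν] at h2
    have h3 : P z = ((CharsMore.extScalar N ρ ⟨z, hz2⟩)⁻¹ : ℂˣ) * P 1 := by
      show (ψ : G' → ℂ) (qG z) = _ * (ψ : G' → ℂ) (qG 1)
      rw [map_one]
      exact h2
    have h4 : R.character z = (CharsMore.extScalar N ρ ⟨z, hz2⟩ : ℂ) * R.character 1 := by
      show LinearMap.trace ℂ _ (R z) = _ * LinearMap.trace ℂ _ (R 1)
      rw [map_one, show R z = _ from h1, map_smul, smul_eq_mul]
    rw [h3, h4, mul_mul_mul_comm, ← Units.val_mul, mul_inv_cancel, Units.val_one, one_mul]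
  obtain ⟨f, hf, hfF⟩ := exists_deflate_irr p.ker hF hconst
  let ep : Gt ⧸ p.ker ≃* G := QuotientGroup.quotientKerEquivOfSurjective p hp
  let χ : IrrCharacter G := ⟨fun g => f (ep.symm g),
    isIrrCharacter_comp ep.symm.toMonoidHom ep.symm.surjective hf⟩
  have hχ : ∀ x : Gt, (χ : G → ℂ) (p x) = R.character x * P x := fun x => by
    show f (ep.symm (p x)) = _
    rw [show p x = ep x from rfl, ep.symm_apply_apply, congrFun hfF x]
  refine ⟨χ, ?_, fun x g => ?_⟩
  · have h : (fun n : N => (χ : G → ℂ) ⟨n, hNG n.2⟩) = P 1 • (θ : N → ℂ) := by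
      funext n
      rw [show (⟨n, hNG n.2⟩ : G) = p (ι n) from rfl, hχ, Pi.smul_apply, smul_eq_mul, mul_comm]
      congr 1
      · show (ψ : G' → ℂ) (qG (ι n)) = (ψ : G' → ℂ) (qG 1)
        rw [hqι, map_one]
      · rw [← hρθ]
        exact congrArg (LinearMap.trace ℂ _) (congrFun (congrArg DFunLike.coe hRι) n)
    rw [h, Chars.inner_smul_left, inner_irr_self, mul_one]
    exact irr_degree_ne_zero hPirr
  · obtain ⟨t, rfl⟩ := hπ x
    obtain ⟨y, rfl⟩ := hp g
    have hy : t * (y : CharsMore.extGroup N ρ) * t⁻¹ ∈ Gt := by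
      show π (t * (y : CharsMore.extGroup N ρ) * t⁻¹) ∈ G
      rw [map_mul, map_mul, map_inv]
      exact hG.conj_mem _ y.2 _
    rw [show (⟨π t * (p y : Γ) * (π t)⁻¹, hG.conj_mem (p y : Γ) (p y).2 (π t)⟩ : G) = p ⟨_, hy⟩
      from Subtype.ext (by
        show π t * π (y : CharsMore.extGroup N ρ) * (π t)⁻¹ = π (t * (y : CharsMore.extGroup N ρ) * t⁻¹)
        rw [map_mul, map_mul, map_inv]), hχ, hχ]
    congr 1
    · show LinearMap.trace ℂ _ (CharsMore.extLift N ρ (t * (y : CharsMore.extGroup N ρ) * t⁻¹) :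
        Module.End ℂ (Fin d → ℂ)) = LinearMap.trace ℂ _ (CharsMore.extLift N ρ y : Module.End ℂ (Fin d → ℂ))
      rw [map_mul, map_mul, map_inv, Units.val_mul, Units.val_mul, LinearMap.trace_mul_comm,
        ← mul_assoc, Units.inv_mul, one_mul]
    · exact hψinv (q t) (qG y) (qG ⟨_, hy⟩) (by
        show q (t * (y : CharsMore.extGroup N ρ) * t⁻¹) = q t * q y * (q t)⁻¹
        rw [map_mul, map_mul, map_inv])

theorem exists_inv_over_solvable_mid (G N : Subgroup Γ) [hG : G.Normal] [hN : N.Normal]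
    [Fintype G] [Fintype N] (hNG : N ≤ G) (hcop : G.index.Coprime (N.relIndex G))
    (hsolv : Group.IsSolvable (G ⧸ N.subgroupOf G)) (θ : IrrCharacter N)
    (hinv : ∀ (x : Γ) (n : N), (θ : N → ℂ) ⟨x * n * x⁻¹, hN.conj_mem n n.2 x⟩ = (θ : N → ℂ) n) :
    ∃ χ : IrrCharacter G, classInner (fun n : N => (χ : G → ℂ) ⟨n, hNG n.2⟩) (θ : N → ℂ) ≠ 0 ∧
      ∀ (x : Γ) (g : G), (χ : G → ℂ) ⟨x * g * x⁻¹, hG.conj_mem g g.2 x⟩ = (χ : G → ℂ) g := by
  classical
  let q := QuotientGroup.mk' N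
  have hq : Function.Surjective q := QuotientGroup.mk'_surjective N
  have hqk : q.ker = N := QuotientGroup.ker_mk' N
  haveI : (G.map q).Normal := Subgroup.Normal.map hG q hq
  have hidx : (G.map q).index = G.index := Subgroup.index_map_eq G hq (hqk.le.trans hNG)
  have hcard : Nat.card (G.map q) = N.relIndex G := by
    rw [← Subgroup.relIndex_bot_left, ← Subgroup.relIndex_comap,
      MonoidHom.comap_bot, hqk]
  obtain ⟨S, hS⟩ := Subgroup.exists_right_complement'_of_coprime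
    (N := G.map q) (by rw [hcard, hidx]; exact hcop.symm)
  set A : Subgroup Γ := S.comap q with hA
  have hNA : N ≤ A := hqk.ge.trans (Subgroup.comap_mono bot_le)
  have hrel : N.relIndex A = G.index := by
    rw [← hidx, Subgroup.IsComplement'.index_eq_card hS.symm, ← Subgroup.relIndex_bot_left]
    conv_lhs => rw [← hqk, ← MonoidHom.comap_bot, Subgroup.relIndex_comap]
    rw [Subgroup.map_comap_eq_self_of_surjective hq]
  obtain ⟨χ, hχ, hov⟩ := exists_inv_over_layers (A := A) (B := N) (G := G) (N := N) hNG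
    (fun x _ => Subgroup.normalizer_eq_top (H := G) ▸ Subgroup.mem_top x)
    (fun x _ => Subgroup.normalizer_eq_top (H := N) ▸ Subgroup.mem_top x) hsolv le_rfl
    (by rw [hrel]; exact hcop.symm) θ
    (fun s _ g g' e => by rw [show g' = ⟨_, hN.conj_mem g g.2 s⟩ from Subtype.ext e]; exact hinv s g)
  refine ⟨χ, (liesOver_iff hNG _ _).mp hov, fun x g => ?_⟩
  obtain ⟨_, ⟨y, hy, rfl⟩, s, hs, hys⟩ := Subgroup.mem_sup_of_normal_left.mp
    (show q x ∈ G.map q ⊔ S by rw [Subgroup.IsComplement'.sup_eq_top hS]; trivial)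
  obtain ⟨a, rfl⟩ := hq s
  have hn : (y * a)⁻¹ * x ∈ N := by
    rw [← hqk, MonoidHom.mem_ker, map_mul, map_inv, map_mul, hys, inv_mul_cancel]
  have hx : x = y * (a * ((y * a)⁻¹ * x)) := by group
  obtain ⟨a', ha', rfl⟩ : ∃ a' ∈ A, x = y * a' := ⟨_, A.mul_mem hs (hNA hn), hx⟩
  have hm := hG.conj_mem _ g.2 a'
  rw [show (⟨y * a' * g * (y * a')⁻¹, hG.conj_mem g g.2 (y * a')⟩ : G) =
    (⟨y, hy⟩ : G) * ⟨_, hm⟩ * (⟨y, hy⟩ : G)⁻¹ from Subtype.ext (by simp [mul_assoc]),
    isClassFunction_irr χ, hχ a' ha' g ⟨_, hm⟩ rfl]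

end Twist

end CfsgLib.Glauberman
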